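import Groth.Agent.Lib.Graded.StarInj
import Mathlib.RingTheory.GradedAlgebra.Homogeneous.Ideal

/-!
# Existence of *injective resolutions; homogeneity of torsion submodules
-/

universe u

set_option linter.unusedSectionVars false

open DirectSum

namespace Groth.Agent.Lib.Graded.Res

open Groth.Agent.Lib.Graded.Basic Groth.Agent.Lib.Graded.StarInj

variable {ι : Type} [AddCommGroup ι] [DecidableEq ι]
variable {R : Type u} [CommRing R] {σ : Type u} [SetLike σ R] [AddSubgroupClass σ R]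
variable (𝒜 : ι → σ) [GradedRing 𝒜]
variable {M : Type u} [AddCommGroup M] [Module R M] {τ : Type u} [SetLike τ M] [AddSubgroupClass τ M]
variable (ℳ : ι → τ) [DirectSum.Decomposition ℳ] [SetLike.GradedSMul 𝒜 ℳ]

/-- A step of a resolution: kill a homogeneous submodule, then embed. -/
theorem exists_step (B : Submodule R M) (hB : B.IsHomogeneous ℳ) :
    ∃ (Y : GrLC.GMod.{u} 𝒜) (d : M →ₗ[R] Y.carrier),
      GrLC.IsGrHom ℳ Y.gr d ∧ LinearMap.ker d = B ∧ GrLC.IsStarInj 𝒜 Y.gr := by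
  letI := qDecomp ℳ B hB
  haveI := qGSMul 𝒜 ℳ B
  obtain ⟨Y, f, hf, hinj, hY⟩ := Cofree.exists_starInj_embedding 𝒜 (qGr ℳ B)
  refine ⟨Y, f ∘ₗ B.mkQ, fun g x hx => hf g _ (mkQ_mem_qGr ℳ B hx), ?_, hY⟩
  rw [LinearMap.ker_comp, LinearMap.ker_eq_bot.2 hinj, Submodule.comap_bot, Submodule.ker_mkQ]

/-- A stage of the recursion: a *injective module with a homogeneous submodule to kill. -/
structure Stage : Type (u + 1) where
  /-- the module -/
  X : GrLC.GMod.{u} 𝒜
  /-- the submodule to kill -/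
  B : Submodule R X.carrier
  hB : B.IsHomogeneous X.gr
  inj : GrLC.IsStarInj 𝒜 X.gr

variable {𝒜}

/-- The next stage. -/
noncomputable def next (S : Stage 𝒜) : Stage 𝒜 :=
  ⟨(exists_step 𝒜 S.X.gr S.B S.hB).choose,
    LinearMap.range (exists_step 𝒜 S.X.gr S.B S.hB).choose_spec.choose,
    isHomogeneous_range (exists_step 𝒜 S.X.gr S.B S.hB).choose_spec.choose_spec.1,
    (exists_step 𝒜 S.X.gr S.B S.hB).choose_spec.choose_spec.2.2⟩

/-- The differential to the next stage. -/
noncomputable def nextMap (S : Stage 𝒜) : S.X.carrier →ₗ[R] (next S).X.carrier :=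
  (exists_step 𝒜 S.X.gr S.B S.hB).choose_spec.choose

/-- All stages. -/
noncomputable def stages (S : Stage 𝒜) : ℕ → Stage 𝒜
  | 0 => S
  | n + 1 => next (stages S n)

theorem nextMap_grHom (S : Stage 𝒜) : GrLC.IsGrHom S.X.gr (next S).X.gr (nextMap S) :=
  (exists_step 𝒜 S.X.gr S.B S.hB).choose_spec.choose_spec.1

theorem nextMap_ker (S : Stage 𝒜) : LinearMap.ker (nextMap S) = S.B :=
  (exists_step 𝒜 S.X.gr S.B S.hB).choose_spec.choose_spec.2.1

variable (𝒜)

/-- *Injective resolutions exist. -/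
theorem nonempty_starInjRes : Nonempty (GrLC.StarInjRes 𝒜 ℳ) := by
  obtain ⟨X₀, e, he, hinj, hX₀⟩ := Cofree.exists_starInj_embedding 𝒜 ℳ
  exact ⟨{
    X := fun n => (stages ⟨X₀, LinearMap.range e, isHomogeneous_range he, hX₀⟩ n).X
    d := fun n => nextMap (stages ⟨X₀, LinearMap.range e, isHomogeneous_range he, hX₀⟩ n)
    ε := e
    d_grHom := fun n => nextMap_grHom _
    ε_grHom := he
    ε_injective := hinj
    exact_zero := nextMap_ker _
    exact_succ := fun n => nextMap_ker _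
    starInj := fun n => (stages ⟨X₀, LinearMap.range e, isHomogeneous_range he, hX₀⟩ n).inj }⟩

section Gamma

theorem isHomogeneous_pow (a : HomogeneousIdeal 𝒜) (n : ℕ) :
    (a.toIdeal ^ n).IsHomogeneous 𝒜 := by
  induction n with
  | zero => rw [pow_zero, Ideal.one_eq_top]; exact isHomogeneous_top
  | succ n ih => rw [pow_succ]; exact ih.mul a.isHomogeneous

/-- The torsion submodule of a homogeneous ideal is homogeneous. -/
theorem isHomogeneous_gam (a : HomogeneousIdeal 𝒜) :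
    (GrLC.gam a.toIdeal M).IsHomogeneous ℳ := by
  rintro g x ⟨n, hn⟩
  refine ⟨n, fun r hr => ?_⟩
  change r • proj ℳ g x = 0
  rw [← sum_proj 𝒜 r, Finset.sum_smul]
  refine Finset.sum_eq_zero fun i _ => ?_
  have h := proj_smul_of_mem 𝒜 ℳ (proj_mem 𝒜 i r) (g + i) x
  rw [show proj 𝒜 i r • x = 0 from hn _ (isHomogeneous_pow 𝒜 a n i hr), map_zero,
    add_sub_cancel_right] at h
  exact h.symm

end Gamma

section Internal

variable {𝒜 ℳ} (E : GrLC.StarInjRes 𝒜 ℳ) (a : HomogeneousIdeal 𝒜)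

theorem isHomogeneous_cocyc (i : ℕ) : (E.cocyc a i).IsHomogeneous (E.X i).gr :=
  isHomogeneous_inf (isHomogeneous_gam 𝒜 (E.X i).gr a) (isHomogeneous_ker (E.d_grHom i))

theorem isHomogeneous_cobdy : ∀ i : ℕ, (E.cobdy a i).IsHomogeneous (E.X i).gr
  | 0 => isHomogeneous_bot
  | n + 1 => isHomogeneous_map (E.d_grHom n) (isHomogeneous_gam 𝒜 (E.X n).gr a)

theorem isHomogeneous_comap_cobdy (i : ℕ) :
    letI := subDecomp (E.X i).gr _ (isHomogeneous_cocyc E a i)
    ((E.cobdy a i).comap (E.cocyc a i).subtype).IsHomogeneous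
      (subGr (E.X i).gr (E.cocyc a i)) := by
  letI := subDecomp (E.X i).gr _ (isHomogeneous_cocyc E a i)
  exact isHomogeneous_comap (isGrHom_subtype (E.X i).gr _) (isHomogeneous_cobdy E a i)

theorem Hgr_eq (i : ℕ) : E.Hgr a i =
    qGr (subGr (E.X i).gr (E.cocyc a i)) ((E.cobdy a i).comap (E.cocyc a i).subtype) := by
  funext g
  ext x
  exact Iff.rfl

/-- The grading of graded local cohomology. -/
@[instance_reducible]
noncomputable def hgrDecomp (i : ℕ) : DirectSum.Decomposition (E.Hgr a i) :=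
  letI := subDecomp (E.X i).gr _ (isHomogeneous_cocyc E a i)
  (Hgr_eq E a i) ▸ qDecomp (subGr (E.X i).gr (E.cocyc a i))
    ((E.cobdy a i).comap (E.cocyc a i).subtype) (isHomogeneous_comap_cobdy E a i)

theorem hgrGSMul (i : ℕ) : SetLike.GradedSMul 𝒜 (E.Hgr a i) := by
  rw [Hgr_eq E a i]
  haveI := subGSMul 𝒜 (E.X i).gr (E.cocyc a i)
  exact qGSMul 𝒜 _ _

theorem Hgr_isInternal (i : ℕ) : DirectSum.IsInternal (E.Hgr a i) :=
  letI := hgrDecomp E a i
  DirectSum.Decomposition.isInternal _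

end Internal

end Groth.Agent.Lib.Graded.Res
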