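import Groth.Agent.Lib.Graded.Res
import Mathlib.RingTheory.GradedAlgebra.Radical
import Mathlib.Algebra.Order.Group.PiLex
import Mathlib.RingTheory.Ideal.AssociatedPrime.Finiteness
import Mathlib.RingTheory.Noetherian.Basic
import Mathlib.LinearAlgebra.FreeModule.Finite.Basic
import Mathlib.LinearAlgebra.Dimension.Free
import Mathlib.RingTheory.Regular.IsSMulRegular

/-!
# Homogeneous primes, prime annihilators of homogeneous elements, homogeneous prime avoidance
-/

universe u

set_option linter.unusedSectionVars false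

open DirectSum

namespace Groth.Agent.Lib.Graded.Ass

open Groth.Agent.Lib.Graded.Basic Groth.Agent.Lib.Graded.StarInj

section Order

variable (ι : Type) [AddCommGroup ι] [DecidableEq ι] [Module.Free ℤ ι] [Module.Finite ℤ ι]

/-- A finitely generated free abelian group embeds in a lexicographically ordered group. -/
theorem exists_lex_embedding :
    ∃ (n : ℕ) (f : ι → Lex (Fin n → ℤ)), Function.Injective f ∧ ∀ x y, f (x + y) = f x + f y := by
  let b := Module.finBasis ℤ ι
  exact ⟨Module.finrank ℤ ι, fun x => toLex (b.equivFun x),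
    toLex.injective.comp b.equivFun.injective, fun x y => congrArg toLex (map_add b.equivFun x y)⟩

end Order

variable {ι : Type} [AddCommGroup ι] [DecidableEq ι] [Module.Free ℤ ι] [Module.Finite ℤ ι]
variable {R : Type u} [CommRing R] {σ : Type u} [SetLike σ R] [AddSubgroupClass σ R]
variable (𝒜 : ι → σ) [GradedRing 𝒜]

/-- A proper homogeneous ideal which is prime on homogeneous elements is prime. -/
theorem isPrime_of_hom {I : Ideal R} (hI : I.IsHomogeneous 𝒜) (hne : I ≠ ⊤)
    (h : ∀ {i j : ι} {x y : R}, x ∈ 𝒜 i → y ∈ 𝒜 j → x * y ∈ I → x ∈ I ∨ y ∈ I) : I.IsPrime := by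
  obtain ⟨n, f, hf, hadd⟩ := exists_lex_embedding ι
  letI lo : LinearOrder ι := LinearOrder.lift' f hf
  obtain rfl : ‹DecidableEq ι› = lo.toDecidableEq := Subsingleton.elim _ _
  haveI : IsOrderedCancelAddMonoid ι :=
    Function.Injective.isOrderedCancelAddMonoid f hadd (by intro x y; exact Iff.rfl)
  exact hI.isPrime_of_homogeneous_mem_or_mem hne
    (fun ⟨i, hx⟩ ⟨j, hy⟩ hxy => h hx hy hxy)

/-- The homogeneous core of a prime is prime. -/
theorem isPrime_core {p : Ideal R} (hp : p.IsPrime) :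
    (Ideal.homogeneousCore 𝒜 p).toIdeal.IsPrime := by
  refine isPrime_of_hom 𝒜 (Ideal.homogeneousCore 𝒜 p).isHomogeneous
    (ne_top_of_le_ne_top hp.ne_top (Ideal.toIdeal_homogeneousCore_le 𝒜 p)) fun {i j x y} hx hy hxy => ?_
  exact (hp.mem_or_mem (Ideal.toIdeal_homogeneousCore_le 𝒜 p hxy)).imp
    (Ideal.mem_homogeneousCore_of_homogeneous_of_mem ⟨i, hx⟩)
    (Ideal.mem_homogeneousCore_of_homogeneous_of_mem ⟨j, hy⟩)

/-- Maximal homogeneous ideals are prime. -/
theorem isPrime_of_isCoatom {M : HomogeneousIdeal 𝒜} (hM : IsCoatom M) : M.toIdeal.IsPrime := by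
  have hne : M.toIdeal ≠ ⊤ := fun h => hM.1 (HomogeneousIdeal.ext h)
  refine isPrime_of_hom 𝒜 M.isHomogeneous hne fun {i j x y} hx hy hxy => or_iff_not_imp_left.2 fun hxM => ?_
  have hI : (Ideal.span {x} ⊔ M.toIdeal).IsHomogeneous 𝒜 :=
    (Ideal.homogeneous_span 𝒜 _ (by simpa using ⟨i, hx⟩)).sup M.isHomogeneous
  have htop : (⟨_, hI⟩ : HomogeneousIdeal 𝒜) = ⊤ := hM.2 _ (lt_of_le_of_ne
    (show M.toIdeal ≤ Ideal.span {x} ⊔ M.toIdeal from le_sup_right)
    fun h => hxM (by
      have h2 : M.toIdeal = Ideal.span {x} ⊔ M.toIdeal := congrArg HomogeneousIdeal.toIdeal h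
      rw [h2]
      exact Submodule.mem_sup_left (Ideal.subset_span rfl)))
  have h1 : (1 : R) ∈ Ideal.span {x} ⊔ M.toIdeal := by
    rw [show Ideal.span {x} ⊔ M.toIdeal = (⊤ : Ideal R) from congrArg HomogeneousIdeal.toIdeal htop]
    trivial
  obtain ⟨a, ha, b, hb, hab⟩ := Submodule.mem_sup.1 h1
  obtain ⟨c, rfl⟩ := Ideal.mem_span_singleton'.1 ha
  have hy1 : y = c * (x * y) + b * y := by rw [← mul_assoc, ← add_mul, hab, one_mul]
  rw [hy1]
  exact add_mem (M.toIdeal.mul_mem_left _ hxy) (M.toIdeal.mul_mem_right _ hb)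

variable {M : Type u} [AddCommGroup M] [Module R M] {τ : Type u} [SetLike τ M] [AddSubgroupClass τ M]
variable (ℳ : ι → τ) [DirectSum.Decomposition ℳ] [SetLike.GradedSMul 𝒜 ℳ]

/-- The annihilator of a homogeneous element is homogeneous. -/
theorem isHomogeneous_ann {g : ι} {x : M} (hx : x ∈ ℳ g) :
    (Submodule.span R {x}).annihilator.IsHomogeneous 𝒜 := by
  intro i r hr
  rw [Submodule.mem_annihilator_span_singleton] at hr ⊢
  change proj 𝒜 i r • x = 0
  have h := proj_smul_mem 𝒜 ℳ (r := r) hx (i + g)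
  rw [hr, map_zero, add_sub_cancel_right] at h
  exact h.symm

variable [IsNoetherianRing R]

/-- A nonzero homogeneous element has a homogeneous multiple with prime annihilator. -/
theorem exists_prime_ann {g : ι} {x : M} (hx : x ∈ ℳ g) (hx0 : x ≠ 0) :
    ∃ d, ∃ r ∈ 𝒜 d, r • x ≠ 0 ∧ (Submodule.span R {r • x}).annihilator.IsPrime := by
  obtain ⟨I, ⟨d, r, hr, hr0, rfl⟩, hmax⟩ := set_has_maximal_iff_noetherian.2 ‹IsNoetherianRing R›
    {I : Ideal R | ∃ d, ∃ r ∈ 𝒜 d, r • x ≠ 0 ∧ I = (Submodule.span R {r • x}).annihilator}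
    ⟨_, 0, 1, SetLike.one_mem_graded 𝒜, by rwa [one_smul], rfl⟩
  refine ⟨d, r, hr, hr0, isPrime_of_hom 𝒜 (isHomogeneous_ann 𝒜 ℳ (smul_mem_add 𝒜 ℳ hr hx)) ?_ ?_⟩
  · intro h
    have h1 : (1 : R) ∈ (Submodule.span R {r • x}).annihilator := h ▸ trivial
    rw [Submodule.mem_annihilator_span_singleton, one_smul] at h1
    exact hr0 h1
  · intro i j a b ha hb hab
    rw [Submodule.mem_annihilator_span_singleton] at hab
    refine or_iff_not_imp_right.2 fun hbx => ?_
    rw [Submodule.mem_annihilator_span_singleton] at hbx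
    have hle : (Submodule.span R {r • x}).annihilator ≤ (Submodule.span R {(b * r) • x}).annihilator := by
      intro s hs
      rw [Submodule.mem_annihilator_span_singleton] at hs ⊢
      rw [mul_smul, smul_comm, hs, smul_zero]
    have heq := eq_of_le_of_not_lt hle (hmax _ ⟨j + d, b * r, SetLike.mul_mem_graded hb hr,
      by rwa [mul_smul], rfl⟩)
    rw [heq, Submodule.mem_annihilator_span_singleton, ← mul_smul, ← mul_assoc, mul_smul]
    exact hab

theorem gam_quot_eq_bot (a : Ideal R) (N : Type u) [AddCommGroup N] [Module R N] :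
    GrLC.gam a (N ⧸ GrLC.gam a N) = ⊥ := by
  refine (Submodule.eq_bot_iff _).2 fun z hz => ?_
  obtain ⟨y, rfl⟩ := (GrLC.gam a N).mkQ_surjective z
  obtain ⟨n, hn⟩ := hz
  obtain ⟨s, hs⟩ := IsNoetherian.noetherian (a ^ n)
  have hmem : ∀ r ∈ s, r • y ∈ GrLC.gam a N := fun r hr =>
    (Submodule.Quotient.mk_eq_zero _).1 (hn r (hs ▸ Submodule.subset_span hr))
  choose k hk using hmem
  refine (Submodule.Quotient.mk_eq_zero _).2 ⟨s.attach.sup (fun r => k r.1 r.2) + n, fun r hr => ?_⟩
  rw [pow_add] at hr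
  refine Submodule.mul_induction_on hr (fun c hc e he => ?_) (fun c e hc he => by rw [add_smul, hc, he, add_zero])
  rw [← hs] at he
  rw [mul_smul]
  induction he using Submodule.span_induction with
  | mem r hr' =>
    exact hk r hr' c (Ideal.pow_le_pow_right (Finset.le_sup (f := fun r => k r.1 r.2) (s.mem_attach ⟨r, hr'⟩)) hc)
  | zero => rw [zero_smul, smul_zero]
  | add u v _ _ hu hv => rw [add_smul, smul_add, hu, hv, add_zero]
  | smul t u _ hu => rw [smul_eq_mul, mul_smul, smul_comm, hu, smul_zero]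

omit [IsNoetherianRing R] in
theorem exists_hom_not_mem_of_not_le (a : HomogeneousIdeal 𝒜) {P : Ideal R} (h : ¬ a.toIdeal ≤ P) :
    ∃ d, ∃ c ∈ 𝒜 d, c ∈ a.toIdeal ∧ c ∉ P := by
  obtain ⟨r, hr, hrP⟩ := Set.not_subset.1 h
  by_contra hc
  simp only [not_exists, not_and, not_not] at hc
  refine hrP ?_
  rw [← sum_proj 𝒜 r]
  exact sum_mem fun i _ => hc i _ (proj_mem 𝒜 i r) (a.isHomogeneous i hr)

/-- A homogeneous element outside the torsion has a homogeneous multiple with prime annihilator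
not containing the ideal. -/
theorem exists_prime_ann_not_le (a : HomogeneousIdeal 𝒜) {g : ι} {x : M} (hx : x ∈ ℳ g)
    (hxa : x ∉ GrLC.gam a.toIdeal M) :
    ∃ d, ∃ r ∈ 𝒜 d, r • x ≠ 0 ∧ (Submodule.span R {r • x}).annihilator.IsPrime ∧
      ¬ a.toIdeal ≤ (Submodule.span R {r • x}).annihilator := by
  letI := qDecomp ℳ _ (Res.isHomogeneous_gam 𝒜 ℳ a (M := M))
  haveI := qGSMul 𝒜 ℳ (GrLC.gam a.toIdeal M)
  let π := (GrLC.gam a.toIdeal M).mkQ
  obtain ⟨d, r, hr, hr0, hP⟩ := exists_prime_ann 𝒜 (qGr ℳ (GrLC.gam a.toIdeal M))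
    (x := π x) (mkQ_mem_qGr ℳ _ hx) fun h => hxa ((Submodule.Quotient.mk_eq_zero _).1 h)
  rw [← map_smul] at hr0 hP
  generalize hPdef : (Submodule.span R {π (r • x)}).annihilator = P at hP
  have hmemP : ∀ s, s ∈ P ↔ s • r • x ∈ GrLC.gam a.toIdeal M := by
    intro s
    rw [← hPdef, Submodule.mem_annihilator_span_singleton, ← map_smul]
    exact Submodule.Quotient.mk_eq_zero _
  have haP : ¬ a.toIdeal ≤ P := by
    intro hle
    have hmem : π (r • x) ∈ GrLC.gam a.toIdeal (M ⧸ GrLC.gam a.toIdeal M) := by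
      refine ⟨1, fun s hs => ?_⟩
      rw [pow_one] at hs
      have := hle hs
      rwa [← hPdef, Submodule.mem_annihilator_span_singleton] at this
    rw [gam_quot_eq_bot, Submodule.mem_bot] at hmem
    exact hr0 hmem
  obtain ⟨e, c, hc, hca, hcP⟩ := exists_hom_not_mem_of_not_le 𝒜 a haP
  obtain ⟨t, ht⟩ := IsNoetherian.noetherian P
  have hmem : ∀ s ∈ t, s • r • x ∈ GrLC.gam a.toIdeal M := fun s hs =>
    (hmemP s).1 (ht ▸ Submodule.subset_span hs)
  choose k hk using hmem
  set K := t.attach.sup fun s => k s.1 s.2 with hK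
  have hcK : c ^ K ∈ a.toIdeal ^ K := Ideal.pow_mem_pow hca K
  have hann : (Submodule.span R {(c ^ K * r) • x}).annihilator = P := by
    ext s
    rw [Submodule.mem_annihilator_span_singleton]
    constructor
    · intro hs
      by_contra hsP
      have h2 : s * c ^ K ∈ P := by
        rw [hmemP, mul_smul, ← mul_smul (c ^ K), hs]
        exact zero_mem _
      exact (hP.mem_or_mem h2).elim hsP fun h => hcP (hP.mem_of_pow_mem _ h)
    · intro hs
      rw [← ht] at hs
      rw [mul_smul, smul_comm]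
      induction hs using Submodule.span_induction with
      | mem u hu =>
        exact hk u hu _ (Ideal.pow_le_pow_right (Finset.le_sup (f := fun s => k s.1 s.2) (t.mem_attach ⟨u, hu⟩)) hcK)
      | zero => rw [zero_smul, smul_zero]
      | add u v _ _ hu hv => rw [add_smul, smul_add, hu, hv, add_zero]
      | smul w u _ hu => rw [smul_eq_mul, mul_smul, smul_comm, hu, smul_zero]
  refine ⟨K • e + d, c ^ K * r, SetLike.mul_mem_graded (SetLike.pow_mem_graded K hc) hr, ?_, ?_, ?_⟩
  · intro h0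
    refine hP.ne_top ?_
    rw [← hann, h0, Submodule.span_zero_singleton, Submodule.annihilator_bot]
  · rwa [hann]
  · rwa [hann]

end Groth.Agent.Lib.Graded.Ass
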