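import Groth.Agent.Lib.Graded.Res

/-!
# Comparison of *injective resolutions and functoriality of graded local cohomology
-/

universe u

set_option linter.unusedSectionVars false

open DirectSum

namespace Groth.Agent.Lib.Graded.Chain

open Groth.Agent.Lib.Graded.Basic Groth.Agent.Lib.Graded.StarInj

variable {ι : Type} [AddCommGroup ι] [DecidableEq ι]
variable {R : Type u} [CommRing R] {σ : Type u} [SetLike σ R] [AddSubgroupClass σ R]
variable {𝒜 : ι → σ} [GradedRing 𝒜]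
variable {M : Type u} [AddCommGroup M] [Module R M] {τ : Type u} [SetLike τ M] [AddSubgroupClass τ M]
variable {ℳ : ι → τ} [DirectSum.Decomposition ℳ] [SetLike.GradedSMul 𝒜 ℳ]
variable {N : Type u} [AddCommGroup N] [Module R N] {τ' : Type u} [SetLike τ' N] [AddSubgroupClass τ' N]
variable {𝒩 : ι → τ'} [DirectSum.Decomposition 𝒩] [SetLike.GradedSMul 𝒜 𝒩]
variable {P : Type u} [AddCommGroup P] [Module R P] {τ'' : Type u} [SetLike τ'' P] [AddSubgroupClass τ'' P]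
variable {𝒬 : ι → τ''} [DirectSum.Decomposition 𝒬] [SetLike.GradedSMul 𝒜 𝒬]

/-- A homogeneous chain map between resolutions. -/
structure Map (E : GrLC.StarInjRes 𝒜 ℳ) (F : GrLC.StarInjRes 𝒜 𝒩) : Type u where
  /-- the components -/
  app : ∀ n, (E.X n).carrier →ₗ[R] (F.X n).carrier
  grHom : ∀ n, GrLC.IsGrHom (E.X n).gr (F.X n).gr (app n)
  comm : ∀ n, app (n + 1) ∘ₗ E.d n = F.d n ∘ₗ app n

variable {E : GrLC.StarInjRes 𝒜 ℳ} {F : GrLC.StarInjRes 𝒜 𝒩} {G : GrLC.StarInjRes 𝒜 𝒬}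

theorem Map.comm_apply (φ : Map E F) (n : ℕ) (x : (E.X n).carrier) :
    φ.app (n + 1) (E.d n x) = F.d n (φ.app n x) := LinearMap.congr_fun (φ.comm n) x

theorem d_ε (E : GrLC.StarInjRes 𝒜 ℳ) (x : M) : E.d 0 (E.ε x) = 0 :=
  LinearMap.mem_ker.1 (E.exact_zero.ge ⟨x, rfl⟩)

theorem d_d (E : GrLC.StarInjRes 𝒜 ℳ) (n : ℕ) (x : (E.X n).carrier) : E.d (n + 1) (E.d n x) = 0 :=
  LinearMap.mem_ker.1 ((E.exact_succ n).ge ⟨x, rfl⟩)

theorem isGrHom_sub {f g : M →ₗ[R] N} (hf : GrLC.IsGrHom ℳ 𝒩 f) (hg : GrLC.IsGrHom ℳ 𝒩 g) :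
    GrLC.IsGrHom ℳ 𝒩 (f - g) :=
  fun d x hx => sub_mem (hf d x hx) (hg d x hx)

theorem isGrHom_add {f g : M →ₗ[R] N} (hf : GrLC.IsGrHom ℳ 𝒩 f) (hg : GrLC.IsGrHom ℳ 𝒩 g) :
    GrLC.IsGrHom ℳ 𝒩 (f + g) :=
  fun d x hx => add_mem (hf d x hx) (hg d x hx)

theorem isGrHom_neg {f : M →ₗ[R] N} (hf : GrLC.IsGrHom ℳ 𝒩 f) : GrLC.IsGrHom ℳ 𝒩 (-f) :=
  fun d x hx => neg_mem (hf d x hx)

section Lift

variable (E F) (f : M →ₗ[R] N) (hf : GrLC.IsGrHom ℳ 𝒩 f)

/-- A stage of the comparison construction. -/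
def LiftStage (n : ℕ) : Type u :=
  {φ : (E.X n).carrier →ₗ[R] (F.X n).carrier //
    GrLC.IsGrHom (E.X n).gr (F.X n).gr φ ∧ LinearMap.ker (E.d n) ≤ LinearMap.ker (F.d n ∘ₗ φ)}

theorem exists_liftZero : ∃ s : LiftStage E F 0, GrLC.IsGrHom ℳ 𝒩 f → s.1 ∘ₗ E.ε = F.ε ∘ₗ f := by
  by_cases hf' : GrLC.IsGrHom ℳ 𝒩 f
  · obtain ⟨φ, hφ, hc⟩ := extend (𝒩 := ℳ) (𝒬 := (E.X 0).gr) (F.starInj 0) E.ε_grHom E.ε_injective
      (isGrHom_comp hf' F.ε_grHom)
    refine ⟨⟨φ, hφ, fun x hx => ?_⟩, fun _ => hc⟩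
    obtain ⟨m, rfl⟩ := E.exact_zero.le hx
    rw [LinearMap.mem_ker, LinearMap.comp_apply, ← LinearMap.comp_apply φ, hc,
      LinearMap.comp_apply, d_ε]
  · exact ⟨⟨0, fun _ _ _ => zero_mem _, fun x _ => by simp⟩, fun h => absurd h hf'⟩

theorem exists_liftNext (n : ℕ) (s : LiftStage E F n) :
    ∃ t : LiftStage E F (n + 1), t.1 ∘ₗ E.d n = F.d n ∘ₗ s.1 := by
  obtain ⟨φ, hφ, hc⟩ := extend_of_ker_le (F.starInj (n + 1)) (E.d_grHom n)
    (isGrHom_comp s.2.1 (F.d_grHom n)) s.2.2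
  refine ⟨⟨φ, hφ, fun x hx => ?_⟩, hc⟩
  obtain ⟨y, rfl⟩ := (E.exact_succ n).le hx
  rw [LinearMap.mem_ker, LinearMap.comp_apply, ← LinearMap.comp_apply φ, hc,
    LinearMap.comp_apply, d_d]

/-- The stages of the comparison map. -/
noncomputable def liftStage : ∀ n, LiftStage E F n
  | 0 => (exists_liftZero E F f).choose
  | n + 1 => (exists_liftNext E F n (liftStage n)).choose

/-- A chain map over a homogeneous map. -/
noncomputable def lift : Map E F where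
  app n := (liftStage E F f n).1
  grHom n := (liftStage E F f n).2.1
  comm n := (exists_liftNext E F n (liftStage E F f n)).choose_spec

include hf in
theorem lift_ε : (lift E F f).app 0 ∘ₗ E.ε = F.ε ∘ₗ f := (exists_liftZero E F f).choose_spec hf

end Lift

section HMap

variable (a : HomogeneousIdeal 𝒜)

theorem map_mem_gam (I : Ideal R) (g : M →ₗ[R] N) {x : M} (hx : x ∈ GrLC.gam I M) :
    g x ∈ GrLC.gam I N := by
  obtain ⟨n, hn⟩ := hx
  exact ⟨n, fun r hr => by rw [← map_smul, hn r hr, map_zero]⟩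

theorem Map.mem_cocyc (φ : Map E F) {i : ℕ} {x : (E.X i).carrier} (hx : x ∈ E.cocyc a i) :
    φ.app i x ∈ F.cocyc a i :=
  ⟨map_mem_gam _ _ hx.1, by
    rw [SetLike.mem_coe, LinearMap.mem_ker, ← φ.comm_apply, LinearMap.mem_ker.1 hx.2, map_zero]⟩

theorem Map.mem_cobdy (φ : Map E F) : ∀ {i : ℕ} {x : (E.X i).carrier},
    x ∈ E.cobdy a i → φ.app i x ∈ F.cobdy a i
  | 0, x, hx => by
    have h0 : x = 0 := hx
    rw [h0, map_zero]; exact zero_mem _
  | n + 1, _, ⟨y, hy, rfl⟩ => ⟨φ.app n y, map_mem_gam _ _ hy, (φ.comm_apply n y).symm⟩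

/-- The map on cocycles. -/
def Map.cocycMap (φ : Map E F) (i : ℕ) : ↥(E.cocyc a i) →ₗ[R] ↥(F.cocyc a i) :=
  (φ.app i).restrict fun _ hx => φ.mem_cocyc a hx

/-- The map on graded local cohomology induced by a chain map. -/
def Map.hMap (φ : Map E F) (i : ℕ) : E.H a i →ₗ[R] F.H a i :=
  Submodule.mapQ _ _ (φ.cocycMap a i) fun _ hx => φ.mem_cobdy a hx

theorem Map.hMap_toH (φ : Map E F) (i : ℕ) (z : ↥(E.cocyc a i)) :
    φ.hMap a i (E.toH a i z) = F.toH a i (φ.cocycMap a i z) := rfl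

theorem Map.hMap_grHom (φ : Map E F) (i : ℕ) :
    GrLC.IsGrHom (E.Hgr a i) (F.Hgr a i) (φ.hMap a i) := by
  rintro g _ ⟨z, hz, rfl⟩
  exact ⟨φ.cocycMap a i z, φ.grHom i g z hz, rfl⟩

theorem toH_eq_iff {i : ℕ} (x y : ↥(E.cocyc a i)) :
    E.toH a i x = E.toH a i y ↔ (x : (E.X i).carrier) - y ∈ E.cobdy a i := by
  exact Submodule.Quotient.eq _

theorem toH_eq_zero_iff {i : ℕ} (x : ↥(E.cocyc a i)) :
    E.toH a i x = 0 ↔ (x : (E.X i).carrier) ∈ E.cobdy a i := by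
  exact Submodule.Quotient.mk_eq_zero _

theorem toH_surjective (i : ℕ) : Function.Surjective (E.toH a i) := Submodule.mkQ_surjective _

/-- The identity chain map. -/
def Map.id (E : GrLC.StarInjRes 𝒜 ℳ) : Map E E :=
  ⟨fun _ => LinearMap.id, fun _ => isGrHom_id, fun _ => rfl⟩

/-- Composition of chain maps. -/
def Map.comp (ψ : Map F G) (φ : Map E F) : Map E G where
  app n := ψ.app n ∘ₗ φ.app n
  grHom n := isGrHom_comp (φ.grHom n) (ψ.grHom n)
  comm n := by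
    ext x
    simp only [LinearMap.comp_apply, φ.comm_apply, ψ.comm_apply]

theorem Map.hMap_id (i : ℕ) : (Map.id E).hMap a i = LinearMap.id := by
  refine LinearMap.ext fun x => ?_
  obtain ⟨z, rfl⟩ := toH_surjective a i x
  rfl

theorem Map.hMap_comp (ψ : Map F G) (φ : Map E F) (i : ℕ) :
    (ψ.comp φ).hMap a i = ψ.hMap a i ∘ₗ φ.hMap a i := by
  refine LinearMap.ext fun x => ?_
  obtain ⟨z, rfl⟩ := toH_surjective a i x
  rfl

section Homotopy

variable (φ : Map E F)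

/-- A stage of the homotopy construction. -/
def HStage (n : ℕ) : Type u :=
  {s : (E.X (n + 1)).carrier →ₗ[R] (F.X n).carrier //
    GrLC.IsGrHom (E.X (n + 1)).gr (F.X n).gr s ∧
      LinearMap.ker (E.d (n + 1)) ≤ LinearMap.ker (φ.app (n + 1) - F.d n ∘ₗ s)}

theorem exists_hZero (h0 : φ.app 0 ∘ₗ E.ε = 0) : ∃ s : HStage φ 0, s.1 ∘ₗ E.d 0 = φ.app 0 := by
  obtain ⟨s, hs, hc⟩ := extend_of_ker_le (F.starInj 0) (E.d_grHom 0) (φ.grHom 0) (fun x hx => by
    obtain ⟨m, rfl⟩ := E.exact_zero.le hx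
    exact LinearMap.congr_fun h0 m)
  refine ⟨⟨s, hs, fun x hx => ?_⟩, hc⟩
  obtain ⟨y, rfl⟩ := (E.exact_succ 0).le hx
  rw [LinearMap.mem_ker, LinearMap.sub_apply, LinearMap.comp_apply, φ.comm_apply,
    show s (E.d 0 y) = φ.app 0 y from LinearMap.congr_fun hc y, sub_self]

theorem exists_hNext (n : ℕ) (s : HStage φ n) :
    ∃ t : HStage φ (n + 1), t.1 ∘ₗ E.d (n + 1) = φ.app (n + 1) - F.d n ∘ₗ s.1 := by
  obtain ⟨t, ht, hc⟩ := extend_of_ker_le (F.starInj (n + 1)) (E.d_grHom (n + 1))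
    (isGrHom_sub (φ.grHom (n + 1)) (isGrHom_comp s.2.1 (F.d_grHom n))) s.2.2
  refine ⟨⟨t, ht, fun x hx => ?_⟩, hc⟩
  obtain ⟨y, rfl⟩ := (E.exact_succ (n + 1)).le hx
  rw [LinearMap.mem_ker, LinearMap.sub_apply, LinearMap.comp_apply, φ.comm_apply,
    show t (E.d (n + 1) y) = _ from LinearMap.congr_fun hc y, LinearMap.sub_apply, map_sub,
    LinearMap.comp_apply, d_d, sub_zero, sub_self]

/-- A chain map over the zero map induces zero. -/
theorem Map.hMap_eq_zero (h0 : φ.app 0 ∘ₗ E.ε = 0) (i : ℕ) : φ.hMap a i = 0 := by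
  refine LinearMap.ext fun x => ?_
  obtain ⟨z, rfl⟩ := toH_surjective a i x
  rw [φ.hMap_toH, LinearMap.zero_apply, toH_eq_zero_iff]
  have hz := LinearMap.mem_ker.1 z.2.2
  change φ.app i z ∈ F.cobdy a i
  cases i with
  | zero =>
    obtain ⟨s, hs⟩ := exists_hZero φ h0
    rw [← hs, LinearMap.comp_apply, hz, map_zero]
    exact zero_mem _
  | succ n =>
    obtain ⟨s₀, -⟩ := exists_hZero φ h0
    have key : ∀ n, Nonempty (HStage φ n) := fun n => by
      induction n with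
      | zero => exact ⟨s₀⟩
      | succ n ih => exact ⟨(exists_hNext φ n ih.some).choose⟩
    obtain ⟨t, ht⟩ := exists_hNext φ n (key n).some
    have hzz := LinearMap.congr_fun ht z
    rw [LinearMap.comp_apply, hz, map_zero, LinearMap.sub_apply] at hzz
    rw [sub_eq_zero.1 hzz.symm]
    exact ⟨(key n).some.1 z, map_mem_gam _ _ z.2.1, rfl⟩

end Homotopy

/-- Chain maps over the same map induce the same map. -/
theorem Map.hMap_congr (φ ψ : Map E F) (h : φ.app 0 ∘ₗ E.ε = ψ.app 0 ∘ₗ E.ε) (i : ℕ) :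
    φ.hMap a i = ψ.hMap a i := by
  let χ : Map E F := ⟨fun n => φ.app n - ψ.app n, fun n => isGrHom_sub (φ.grHom n) (ψ.grHom n),
    fun n => by rw [LinearMap.sub_comp, LinearMap.comp_sub, φ.comm, ψ.comm]⟩
  have h0 := χ.hMap_eq_zero a (by change (φ.app 0 - ψ.app 0) ∘ₗ E.ε = 0; rw [LinearMap.sub_comp, h, sub_self]) i
  refine LinearMap.ext fun x => ?_
  obtain ⟨z, rfl⟩ := toH_surjective a i x
  have h1 := LinearMap.congr_fun h0 (E.toH a i z)
  rw [χ.hMap_toH, LinearMap.zero_apply] at h1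
  rw [φ.hMap_toH, ψ.hMap_toH, ← sub_eq_zero, ← map_sub]
  exact h1

/-- The isomorphism between the cohomology computed by two resolutions. -/
noncomputable def compareEquiv (E E' : GrLC.StarInjRes 𝒜 ℳ) (i : ℕ) : E.H a i ≃ₗ[R] E'.H a i :=
  LinearEquiv.ofLinear ((lift E E' LinearMap.id).hMap a i) ((lift E' E LinearMap.id).hMap a i)
    (by
      rw [← Map.hMap_comp, ← Map.hMap_id]
      refine Map.hMap_congr a _ _ ?_ i
      change ((lift E E' LinearMap.id).app 0 ∘ₗ (lift E' E LinearMap.id).app 0) ∘ₗ E'.ε = E'.ε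
      rw [LinearMap.comp_assoc, lift_ε E' E _ isGrHom_id, LinearMap.comp_id,
        lift_ε E E' _ isGrHom_id, LinearMap.comp_id])
    (by
      rw [← Map.hMap_comp, ← Map.hMap_id]
      refine Map.hMap_congr a _ _ ?_ i
      change ((lift E' E LinearMap.id).app 0 ∘ₗ (lift E E' LinearMap.id).app 0) ∘ₗ E.ε = E.ε
      rw [LinearMap.comp_assoc, lift_ε E E' _ isGrHom_id, LinearMap.comp_id,
        lift_ε E' E _ isGrHom_id, LinearMap.comp_id])

theorem compareEquiv_grHom (E E' : GrLC.StarInjRes 𝒜 ℳ) (i : ℕ) :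
    GrLC.IsGrHom (E.Hgr a i) (E'.Hgr a i) (compareEquiv a E E' i).toLinearMap :=
  Map.hMap_grHom a _ i

theorem compareEquiv_symm_grHom (E E' : GrLC.StarInjRes 𝒜 ℳ) (i : ℕ) :
    GrLC.IsGrHom (E'.Hgr a i) (E.Hgr a i) (compareEquiv a E E' i).symm.toLinearMap :=
  Map.hMap_grHom a _ i

/-- The augmentation identifies the torsion submodule with cohomology in degree zero. -/
noncomputable def h0Map : ↥(GrLC.gam a.toIdeal M) →ₗ[R] E.H a 0 :=
  E.toH a 0 ∘ₗ (E.ε.restrict fun _ hx => ⟨map_mem_gam _ _ hx, LinearMap.mem_ker.2 (d_ε E _)⟩ :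
    ↥(GrLC.gam a.toIdeal M) →ₗ[R] ↥(E.cocyc a 0))

theorem h0Map_bijective : Function.Bijective (h0Map (E := E) a) := by
  constructor
  · refine (injective_iff_map_eq_zero _).2 fun x hx => ?_
    have h : E.ε x = 0 := (toH_eq_zero_iff a _).1 hx
    exact Subtype.ext (E.ε_injective (h.trans (map_zero _).symm))
  · intro y
    obtain ⟨z, rfl⟩ := toH_surjective a 0 y
    obtain ⟨m, hm⟩ := E.exact_zero.le z.2.2
    refine ⟨⟨m, ?_⟩, congrArg (E.toH a 0) (Subtype.ext hm)⟩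
    obtain ⟨n, hn⟩ := z.2.1
    refine ⟨n, fun r hr => E.ε_injective ?_⟩
    rw [map_smul, hm, hn r hr, map_zero]

theorem h0Map_grHom :
    GrLC.IsGrHom (subGr ℳ (GrLC.gam a.toIdeal M)) (E.Hgr a 0) (h0Map (E := E) a) :=
  fun g x hx => ⟨_, E.ε_grHom g x hx, rfl⟩

/-- Degree zero cohomology is the torsion submodule. -/
noncomputable def h0Equiv (E : GrLC.StarInjRes 𝒜 ℳ) : ↥(GrLC.gam a.toIdeal M) ≃ₗ[R] E.H a 0 :=
  LinearEquiv.ofBijective (h0Map (E := E) a) (h0Map_bijective a)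

theorem h0Equiv_symm_grHom (E : GrLC.StarInjRes 𝒜 ℳ) :
    GrLC.IsGrHom (E.Hgr a 0) (subGr ℳ (GrLC.gam a.toIdeal M)) (h0Equiv a E).symm.toLinearMap := by
  letI := subDecomp ℳ _ (Res.isHomogeneous_gam 𝒜 ℳ a (M := M))
  letI := Res.hgrDecomp E a 0
  exact isGrHom_symm (e := h0Equiv a E) (h0Map_grHom a)

end HMap

end Groth.Agent.Lib.Graded.Chain
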