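import Groth.Agent.Lib.Graded.Ass

/-!
# The *injective envelope of a graded domain quotient
-/

universe u

set_option linter.unusedSectionVars false

open DirectSum

namespace Groth.Agent.Lib.Graded.HullPrime

open Groth.Agent.Lib.Graded.Basic Groth.Agent.Lib.Graded.StarInj

variable {ι : Type} [AddCommGroup ι] [DecidableEq ι]
variable {R : Type u} [CommRing R] {σ : Type u} [SetLike σ R] [AddSubgroupClass σ R]
variable {𝒜 : ι → σ} [GradedRing 𝒜]
variable {p : HomogeneousIdeal 𝒜}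
variable {E : Type u} [AddCommGroup E] [Module R E] {τ : Type u} [SetLike τ E] [AddSubgroupClass τ E]
variable {𝓔 : ι → τ} [DirectSum.Decomposition 𝓔] [SetLike.GradedSMul 𝒜 𝓔]

theorem quotGr_eq (q : HomogeneousIdeal 𝒜) : GrLC.quotGr 𝒜 q = qGr 𝒜 q.toIdeal := rfl

/-- The grading of the quotient ring. -/
@[instance_reducible]
noncomputable def quotDecomp (q : HomogeneousIdeal 𝒜) : DirectSum.Decomposition (GrLC.quotGr 𝒜 q) :=
  qDecomp 𝒜 q.toIdeal q.isHomogeneous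

theorem quotGSMul (q : HomogeneousIdeal 𝒜) : SetLike.GradedSMul 𝒜 (GrLC.quotGr 𝒜 q) :=
  qGSMul 𝒜 𝒜 q.toIdeal

variable {e : (R ⧸ p.toIdeal) →ₗ[R] E}

theorem smul_apply_mk (e : (R ⧸ p.toIdeal) →ₗ[R] E) (r s : R) :
    r • e (Ideal.Quotient.mk p.toIdeal s) = e (Ideal.Quotient.mk p.toIdeal (r * s)) := by
  rw [← map_smul]
  rfl

theorem ess_smul (he : GrLC.IsStarEss (GrLC.quotGr 𝒜 p) 𝓔 e) {x : E} (hx : x ≠ 0) :
    ∃ r s : R, s ∉ p.toIdeal ∧ r • x = e (Ideal.Quotient.mk p.toIdeal s) := by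
  letI := quotDecomp p
  haveI := quotGSMul p
  obtain ⟨d, r, -, hr0, ⟨z, hz⟩⟩ := exists_smul_mem_range (𝒜 := 𝒜) he x hx
  obtain ⟨s, rfl⟩ := Ideal.Quotient.mk_surjective z
  refine ⟨r, s, fun hs => hr0 ?_, hz.symm⟩
  rw [← hz, Ideal.Quotient.eq_zero_iff_mem.2 hs, map_zero]

variable [hp : p.toIdeal.IsPrime]

theorem smul_mk_eq_zero (he : GrLC.IsStarEss (GrLC.quotGr 𝒜 p) 𝓔 e) {r s : R} (hs : s ∉ p.toIdeal) :
    r • e (Ideal.Quotient.mk p.toIdeal s) = 0 ↔ r ∈ p.toIdeal := by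
  rw [smul_apply_mk, ← map_zero e, he.injective.eq_iff, Ideal.Quotient.eq_zero_iff_mem]
  exact ⟨fun h => (hp.mem_or_mem h).resolve_right hs, fun h => p.toIdeal.mul_mem_right _ h⟩

theorem smul_injective (he : GrLC.IsStarEss (GrLC.quotGr 𝒜 p) 𝓔 e) {r : R} (hr : r ∉ p.toIdeal) :
    Function.Injective fun x : E => r • x := by
  intro x y hxy
  by_contra hne
  obtain ⟨t, s, hs, ht⟩ := ess_smul he (sub_ne_zero.2 hne)
  refine hr ((smul_mk_eq_zero he hs).1 ?_)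
  rw [← ht, smul_comm, smul_sub, show r • x = r • y from hxy, sub_self, smul_zero]

theorem ann_le (he : GrLC.IsStarEss (GrLC.quotGr 𝒜 p) 𝓔 e) {x : E} (hx : x ≠ 0) :
    (Submodule.span R {x}).annihilator ≤ p.toIdeal := by
  intro a ha
  rw [Submodule.mem_annihilator_span_singleton] at ha
  obtain ⟨r, s, hs, hr⟩ := ess_smul he hx
  refine (smul_mk_eq_zero he hs).1 ?_
  rw [← hr, smul_comm, ha, smul_zero]

theorem eq_of_ann_prime (he : GrLC.IsStarEss (GrLC.quotGr 𝒜 p) 𝓔 e) {x : E} (hx : x ≠ 0)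
    (hP : (Submodule.span R {x}).annihilator.IsPrime) :
    (Submodule.span R {x}).annihilator = p.toIdeal := by
  refine le_antisymm (ann_le he hx) fun a ha => ?_
  obtain ⟨r, s, hs, hr⟩ := ess_smul he hx
  have h : a * r ∈ (Submodule.span R {x}).annihilator := by
    rw [Submodule.mem_annihilator_span_singleton, mul_smul, hr]
    exact (smul_mk_eq_zero he hs).2 ha
  refine (hP.mem_or_mem h).elim id fun hr' => ?_
  rw [Submodule.mem_annihilator_span_singleton, hr] at hr'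
  have h1 : (Ideal.Quotient.mk p.toIdeal s) = 0 := he.injective (hr'.trans (map_zero e).symm)
  exact absurd (Ideal.Quotient.eq_zero_iff_mem.1 h1) hs

theorem range_inf_ne_bot (he : GrLC.IsStarEss (GrLC.quotGr 𝒜 p) 𝓔 e) {P Q : Submodule R E}
    (hP : P ≠ ⊥) (hQ : Q ≠ ⊥) : P ⊓ Q ≠ ⊥ := by
  obtain ⟨x, hx, hx0⟩ := P.exists_mem_ne_zero_of_ne_bot hP
  obtain ⟨y, hy, hy0⟩ := Q.exists_mem_ne_zero_of_ne_bot hQ
  obtain ⟨r, s, hs, hr⟩ := ess_smul he hx0
  obtain ⟨r', s', hs', hr'⟩ := ess_smul he hy0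
  refine (Submodule.ne_bot_iff _).2 ⟨e (Ideal.Quotient.mk p.toIdeal (s * s')), ⟨?_, ?_⟩, ?_⟩
  · rw [mul_comm, ← smul_apply_mk, ← hr]
    exact P.smul_mem _ (P.smul_mem _ hx)
  · rw [← smul_apply_mk, ← hr']
    exact Q.smul_mem _ (Q.smul_mem _ hy)
  · intro h
    rw [← map_zero e, he.injective.eq_iff, Ideal.Quotient.eq_zero_iff_mem] at h
    exact (hp.mem_or_mem h).elim hs hs'

theorem nontrivial (he : GrLC.IsStarEss (GrLC.quotGr 𝒜 p) 𝓔 e) : Nontrivial E := by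
  haveI : Nontrivial (R ⧸ p.toIdeal) := Ideal.Quotient.nontrivial_iff.2 hp.ne_top
  exact he.injective.nontrivial

theorem isStarIndec (he : GrLC.IsStarEss (GrLC.quotGr 𝒜 p) 𝓔 e) : GrLC.IsStarIndec R 𝓔 := by
  refine ⟨nontrivial he, fun P Q _ _ hPQ => or_iff_not_imp_left.2 fun hP => ?_⟩
  by_contra hQ
  exact range_inf_ne_bot he hP hQ hPQ.inf_eq_bot

/-- Multiplication by a homogeneous element outside the prime is bijective. -/
theorem smul_bijective (he : GrLC.IsStarInjHull 𝒜 (GrLC.quotGr 𝒜 p) 𝓔 e) {g : ι} {r : R}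
    (hr : r ∈ 𝒜 g) (hrp : r ∉ p.toIdeal) : Function.Bijective fun x : E => r • x := by
  have hinj := smul_injective he.toIsStarEss hrp
  refine ⟨hinj, ?_⟩
  let f : E →ₗ[R] E := r • LinearMap.id
  have hf : GrLC.IsGrHom (shiftMod 𝒜 𝓔 (-g)).gr (toMod 𝒜 𝓔).gr f := by
    intro j x hx
    exact (mem_toMod 𝒜 𝓔).2 (smul_mem' 𝒜 𝓔 hr (show x ∈ 𝓔 (j + -g) from hx) (by abel))
  obtain ⟨h, -, hc⟩ := isStarInj_shiftMod he.starInj (-g) (shiftMod 𝒜 𝓔 (-g)) (toMod 𝒜 𝓔) f hf hinj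
    LinearMap.id (fun _ _ hx => hx)
  have hker : LinearMap.ker h = ⊥ := by
    by_contra hne
    haveI := nontrivial he.toIsStarEss
    obtain ⟨x, hx⟩ := exists_ne (0 : E)
    refine range_inf_ne_bot he.toIsStarEss (P := LinearMap.range f) (Q := LinearMap.ker h) ?_ hne ?_
    · exact (Submodule.ne_bot_iff _).2 ⟨f x, ⟨x, rfl⟩,
        fun h0 => hx (hinj (h0.trans (smul_zero r).symm))⟩
    · refine (Submodule.eq_bot_iff _).2 ?_
      rintro _ ⟨⟨y, rfl⟩, hy⟩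
      have hy0 : y = 0 := (LinearMap.congr_fun hc y).symm.trans hy
      rw [hy0, map_zero]
  intro y
  exact ⟨h y, LinearMap.ker_eq_bot.1 hker (LinearMap.congr_fun hc (h y))⟩

variable [Module.Free ℤ ι] [Module.Finite ℤ ι] [IsNoetherianRing R]

theorem gam_eq_top (he : GrLC.IsStarEss (GrLC.quotGr 𝒜 p) 𝓔 e) : GrLC.gam p.toIdeal E = ⊤ := by
  refine eq_top_iff.2 (le_of_hom (isHomogeneous_top (ℳ := 𝓔)) fun g x hx _ => ?_)
  by_contra hxa
  obtain ⟨d, r, hr, hr0, hP, hle⟩ := Ass.exists_prime_ann_not_le 𝒜 𝓔 p hx hxa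
  exact hle (eq_of_ann_prime he hr0 hP).ge

end Groth.Agent.Lib.Graded.HullPrime
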