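import Groth.Agent.Lib.Graded.Ass
import Mathlib.RingTheory.Ideal.Height
import Mathlib.RingTheory.Ideal.Maximal
import Mathlib.RingTheory.GradedAlgebra.Radical

/-!
# Heights of primes against their homogeneous cores, for ℤ-gradings
-/

universe u

set_option maxHeartbeats 600000
set_option linter.unusedSectionVars false

open DirectSum

namespace Groth.Agent.Lib.Graded.Dim

open Groth.Agent.Lib.Graded.Basic

variable {R : Type u} [CommRing R] {σ : Type u} [SetLike σ R] [AddSubgroupClass σ R]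
variable {𝒜 : ℤ → σ} [GradedRing 𝒜]

theorem proj_mul_of_left {e : ℤ} {s : R} (hs : s ∈ 𝒜 e) (g : R) (d : ℤ) :
    proj 𝒜 d (s * g) = s * proj 𝒜 (d - e) g :=
  proj_smul_of_mem 𝒜 𝒜 hs d g

/-- The components of `x` outside the window lie in `P`. -/
def Within (P : Ideal R) (x : R) (lo : ℤ) (w : ℕ) : Prop :=
  ∀ i : ℤ, i < lo ∨ lo + w < i → proj 𝒜 i x ∈ P

variable {P : Ideal R}

theorem exists_within (x : R) : ∃ lo w, Within (𝒜 := 𝒜) P x lo w := by
  rcases (supp 𝒜 x).eq_empty_or_nonempty with h | h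
  · refine ⟨0, 0, fun i _ => ?_⟩
    rw [show proj 𝒜 i x = 0 from by
      by_contra hne
      rw [← Ne, ← mem_supp, h] at hne
      exact absurd hne (Finset.notMem_empty i)]
    exact zero_mem P
  · refine ⟨(supp 𝒜 x).min' h, ((supp 𝒜 x).max' h - (supp 𝒜 x).min' h).toNat, fun i hi => ?_⟩
    rw [show proj 𝒜 i x = 0 from by
      by_contra hne
      rw [← Ne, ← mem_supp] at hne
      have h1 := (supp 𝒜 x).min'_le i hne
      have h2 := (supp 𝒜 x).le_max' i hne
      omega]
    exact zero_mem P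

theorem mem_of_proj {x : R} (h : ∀ i, proj 𝒜 i x ∈ P) : x ∈ P := by
  rw [← sum_proj 𝒜 x]
  exact sum_mem fun i _ => h i

/-- The extreme component of a product. -/
theorem proj_mul_extreme {a f : R} {A B : ℤ}
    (h : ∀ i j, proj 𝒜 i a ∉ P → proj 𝒜 j f ∉ P → i + j = A + B → i = A) :
    proj 𝒜 (A + B) (a * f) - proj 𝒜 A a * proj 𝒜 B f ∈ P := by
  have hsum : a * f = ∑ i ∈ supp 𝒜 a, proj 𝒜 i a * f := by rw [← Finset.sum_mul, sum_proj]
  rw [hsum, map_sum]
  simp only [proj_mul_of_left (proj_mem 𝒜 _ a)]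
  by_cases hA : A ∈ supp 𝒜 a
  · rw [← Finset.add_sum_erase _ _ hA, add_sub_cancel_left, add_sub_cancel_left]
    refine sum_mem fun i hi => ?_
    by_contra hne
    have h1 : proj 𝒜 i a ∉ P := fun hP => hne (P.mul_mem_right _ hP)
    have h2 : proj 𝒜 (A + B - i) f ∉ P := fun hP => hne (P.mul_mem_left _ hP)
    exact (Finset.mem_erase.1 hi).1 (h i _ h1 h2 (by ring))
  · rw [show proj 𝒜 A a = 0 from by rwa [mem_supp, not_not] at hA, zero_mul, sub_zero]
    refine sum_mem fun i hi => ?_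
    by_contra hne
    have h1 : proj 𝒜 i a ∉ P := fun hP => hne (P.mul_mem_right _ hP)
    have h2 : proj 𝒜 (A + B - i) f ∉ P := fun hP => hne (P.mul_mem_left _ hP)
    exact hA (h i _ h1 h2 (by ring) ▸ hi)

theorem not_mem_of_within_zero {Q : Ideal R} (hPQ : P ≤ Q)
    (hcore : ∀ (i : ℤ), ∀ x ∈ 𝒜 i, x ∈ Q → x ∈ P) {x : R} {lo : ℤ} (h : Within (𝒜 := 𝒜) P x lo 0)
    (hx : x ∈ Q) : x ∈ P := by
  have h1 : x - proj 𝒜 lo x ∈ P := mem_of_proj (𝒜 := 𝒜) fun i => by
    rw [map_sub]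
    rcases eq_or_ne lo i with rfl | hne
    · rw [proj_of_mem 𝒜 (proj_mem 𝒜 lo x), sub_self]; exact zero_mem P
    · rw [proj_of_mem_ne 𝒜 (proj_mem 𝒜 lo x) hne, sub_zero]
      exact h i (by omega)
  have h2 : proj 𝒜 lo x ∈ Q := by
    have := Q.sub_mem hx (hPQ h1)
    rwa [sub_sub_cancel] at this
  have := P.add_mem h1 (hcore lo _ (proj_mem 𝒜 lo x) h2)
  rwa [sub_add_cancel] at this

/-- In a graded ring, only one prime above a homogeneous prime `P` can have core `P`. -/
theorem not_lt_of_core (hP : P.IsPrime) (hPh : P.IsHomogeneous 𝒜) {q Q : Ideal R}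
    (hq : q.IsPrime) (hPq : P < q) (hqQ : q < Q)
    (hcore : ∀ (i : ℤ), ∀ x ∈ 𝒜 i, x ∈ Q → x ∈ P) : False := by
  classical
  have hPQ : P ≤ Q := (hPq.trans hqQ).le
  have hexQ : ∃ w : ℕ, ∃ x ∈ Q, x ∉ P ∧ ∃ lo, Within (𝒜 := 𝒜) P x lo w := by
    obtain ⟨x, hxQ, hxq⟩ := SetLike.exists_of_lt hqQ
    obtain ⟨lo, w, h⟩ := exists_within (𝒜 := 𝒜) (P := P) x
    exact ⟨w, x, hxQ, fun h => hxq (hPq.le h), lo, h⟩
  obtain ⟨f, hfQ, hfP, l, hf⟩ := Nat.find_spec hexQ
  have hmin := fun m (hm : m < Nat.find hexQ) => Nat.find_min hexQ hm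
  generalize Nat.find hexQ = w at hf hmin
  have hw : 0 < w := Nat.pos_of_ne_zero fun h0 => hfP (not_mem_of_within_zero hPQ hcore (h0 ▸ hf) hfQ)
  have htop : proj 𝒜 (l + w) f ∉ P := fun h => hmin (w - 1) (by omega) ⟨f, hfQ, hfP, l, fun i hi => by
    rcases eq_or_ne i (l + w) with rfl | hne
    · exact h
    · exact hf i (by omega)⟩
  have hbot : proj 𝒜 l f ∉ P := fun h => hmin (w - 1) (by omega) ⟨f, hfQ, hfP, l + 1, fun i hi => by
    rcases eq_or_ne i l with rfl | hne
    · exact h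
    · exact hf i (by omega)⟩
  -- every element of `Q` is, up to a homogeneous factor, a multiple of `f` modulo `P`
  have key : ∀ (v : ℕ) (g : R) (lo : ℤ), g ∈ Q → Within (𝒜 := 𝒜) P g lo v →
      ∃ e, ∃ s ∈ 𝒜 e, s ∉ P ∧ ∃ c, s * g - c * f ∈ P := by
    intro v
    induction v using Nat.strong_induction_on with
    | _ v ih =>
      intro g lo hg hw'
      rcases lt_or_ge v w with hv | hv
      · have hgP : g ∈ P := by
          by_contra hgP
          exact hmin v hv ⟨g, hg, hgP, lo, hw'⟩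
        refine ⟨0, 1, SetLike.one_mem_graded 𝒜, fun h => hP.ne_top ((Ideal.eq_top_iff_one P).2 h), 0, ?_⟩
        simpa using hgP
      · let F := proj 𝒜 (l + w) f
        let G := proj 𝒜 (lo + v) g
        have hg' : F * g - G * f ∈ Q := Q.sub_mem (Q.mul_mem_left _ hg) (Q.mul_mem_left _ hfQ)
        have hwin : Within (𝒜 := 𝒜) P (F * g - G * f) (lo + (l + w)) (v - 1) := by
          intro i hi
          rw [map_sub, proj_mul_of_left (proj_mem 𝒜 _ f), proj_mul_of_left (proj_mem 𝒜 _ g)]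
          rcases eq_or_ne i (l + w + (lo + v)) with rfl | hne
          · rw [show l + (w : ℤ) + (lo + v) - (l + w) = lo + v by ring,
              show l + (w : ℤ) + (lo + v) - (lo + v) = l + w by ring, mul_comm, sub_self]
            exact zero_mem P
          · exact P.sub_mem (P.mul_mem_left _ (hw' _ (by omega))) (P.mul_mem_left _ (hf _ (by omega)))
        obtain ⟨e, s, hs, hsP, c, hc⟩ := ih (v - 1) (by omega) _ _ hg' hwin
        refine ⟨e + (l + w), s * F, SetLike.mul_mem_graded hs (proj_mem 𝒜 _ f),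
          fun h => (hP.mem_or_mem h).elim hsP htop, c + s * G, ?_⟩
        rwa [show s * F * g - (c + s * G) * f = s * (F * g - G * f) - c * f by ring]
  have hsq : ∀ {e : ℤ} {s : R}, s ∈ 𝒜 e → s ∉ P → s ∉ q := fun hs hsP h => hsP (hcore _ _ hs (hqQ.le h))
  have hfq : f ∉ q := by
    intro hfq
    obtain ⟨g, hgQ, hgq⟩ := SetLike.exists_of_lt hqQ
    obtain ⟨lo, v, hv⟩ := exists_within (𝒜 := 𝒜) (P := P) g
    obtain ⟨e, s, hs, hsP, c, hc⟩ := key v g lo hgQ hv
    have : s * g ∈ q := by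
      have := q.add_mem (hPq.le hc) (q.mul_mem_left c hfq)
      rwa [sub_add_cancel] at this
    exact (hq.mem_or_mem this).elim (hsq hs hsP) hgq
  have hexq : ∃ v : ℕ, ∃ x ∈ q, x ∉ P ∧ ∃ lo, Within (𝒜 := 𝒜) P x lo v := by
    obtain ⟨x, hxq, hxP⟩ := SetLike.exists_of_lt hPq
    obtain ⟨lo, v, h⟩ := exists_within (𝒜 := 𝒜) (P := P) x
    exact ⟨v, x, hxq, hxP, lo, h⟩
  obtain ⟨h, hhq, hhP, m, hh⟩ := Nat.find_spec hexq
  have hminq := fun j (hj : j < Nat.find hexq) => Nat.find_min hexq hj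
  generalize Nat.find hexq = v at hh hminq
  obtain ⟨e, s, hs, hsP, c, hc⟩ := key v h m (hqQ.le hhq) hh
  have hcq : c ∈ q := by
    have h1 : c * f ∈ q := by
      have := q.sub_mem (q.mul_mem_left s hhq) (hPq.le hc)
      rwa [sub_sub_cancel] at this
    exact (hq.mem_or_mem h1).resolve_right hfq
  have hsh : ∀ d, proj 𝒜 d (c * f) ∉ P → m + e ≤ d ∧ d ≤ m + e + v := by
    intro d hd
    by_contra hcon
    refine hd ?_
    have h1 : proj 𝒜 d (s * h - c * f) ∈ P := hPh d hc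
    have h2 : proj 𝒜 d (s * h) ∈ P := by
      rw [proj_mul_of_left hs]
      exact P.mul_mem_left _ (hh _ (by omega))
    rw [map_sub] at h1
    have := P.sub_mem h2 h1
    rwa [sub_sub_cancel] at this
  have hcP : c ∉ P := fun hcP => by
    have h1 : s * h ∈ P := by
      have := P.add_mem hc (P.mul_mem_right f hcP)
      rwa [sub_add_cancel] at this
    exact (hP.mem_or_mem h1).elim hsP hhP
  have hne : ((supp 𝒜 c).filter fun i => proj 𝒜 i c ∉ P).Nonempty := by
    by_contra hne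
    refine hcP (mem_of_proj (𝒜 := 𝒜) fun i => ?_)
    by_contra hi
    refine hne ⟨i, Finset.mem_filter.2 ⟨(mem_supp 𝒜).2 fun h0 => hi ?_, hi⟩⟩
    rw [h0]; exact zero_mem P
  have hmem : ∀ i, i ∈ (supp 𝒜 c).filter (fun i => proj 𝒜 i c ∉ P) ↔ proj 𝒜 i c ∉ P := fun i => by
    rw [Finset.mem_filter, mem_supp]
    exact ⟨fun h => h.2, fun h => ⟨fun h0 => h (by rw [h0]; exact zero_mem P), h⟩⟩
  generalize (supp 𝒜 c).filter (fun i => proj 𝒜 i c ∉ P) = S at hne hmem
  have hS : ∀ i, proj 𝒜 i c ∉ P → S.min' hne ≤ i ∧ i ≤ S.max' hne := fun i hi =>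
    ⟨S.min'_le i ((hmem i).2 hi), S.le_max' i ((hmem i).2 hi)⟩
  have hfw : ∀ j, proj 𝒜 j f ∉ P → l ≤ j ∧ j ≤ l + w := fun j hj => by
    by_contra hcon
    exact hj (hf j (by omega))
  have hT : proj 𝒜 (S.max' hne + (l + w)) (c * f) ∉ P := fun h => by
    have h1 := P.sub_mem h (proj_mul_extreme (𝒜 := 𝒜) (P := P) (a := c) (f := f) (A := S.max' hne)
      (B := l + w) fun i j hi hj hij => by
        have := hS i hi; have := hfw j hj; omega)
    rw [sub_sub_cancel] at h1
    exact (hP.mem_or_mem h1).elim ((hmem _).1 (S.max'_mem hne)) htop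
  have hB : proj 𝒜 (S.min' hne + l) (c * f) ∉ P := fun h => by
    have h1 := P.sub_mem h (proj_mul_extreme (𝒜 := 𝒜) (P := P) (a := c) (f := f) (A := S.min' hne)
      (B := l) fun i j hi hj hij => by
        have := hS i hi; have := hfw j hj; omega)
    rw [sub_sub_cancel] at h1
    exact (hP.mem_or_mem h1).elim ((hmem _).1 (S.min'_mem hne)) hbot
  have h1 := hsh _ hT
  have h2 := hsh _ hB
  have h3 := S.min'_le _ (S.max'_mem hne)
  refine hminq (S.max' hne - S.min' hne).toNat (by omega) ⟨c, hcq, hcP, S.min' hne, fun i hi => ?_⟩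
  by_contra hi'
  have := hS i hi'
  omega

theorem core_le (p : Ideal R) : (Ideal.homogeneousCore 𝒜 p).toIdeal ≤ p :=
  Ideal.toIdeal_homogeneousCore_le 𝒜 p

theorem core_mono {p q : Ideal R} (h : p ≤ q) :
    (Ideal.homogeneousCore 𝒜 p).toIdeal ≤ (Ideal.homogeneousCore 𝒜 q).toIdeal :=
  Ideal.homogeneousCore_mono 𝒜 h

/-- The height of a prime exceeds the height of its homogeneous core by at most one. -/
theorem height_le_core_succ (p : Ideal R) [hp : p.IsPrime] :
    p.height ≤ (Ideal.homogeneousCore 𝒜 p).toIdeal.height + 1 := by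
  suffices key : ∀ (n : ℕ) (p : Ideal R) (hp : p.IsPrime), (n : ℕ∞) ≤ p.height →
      (n : ℕ∞) ≤ (Ideal.homogeneousCore 𝒜 p).toIdeal.height + 1 from
    ENat.forall_natCast_le_iff_le.1 fun n hn => key n p hp hn
  intro n
  induction n with
  | zero => intro p _ _; exact zero_le
  | succ n ih =>
    intro p hp hn
    have hP := Ass.isPrime_core 𝒜 hp
    obtain ⟨q, hq, hqp, hnq⟩ : ∃ q : Ideal R, q.IsPrime ∧ q < p ∧ (n : ℕ∞) ≤ q.height := by
      have hn' : ((n + 1 : ℕ) : ℕ∞) ≤ Order.height (⟨p, hp⟩ : PrimeSpectrum R) :=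
        (PrimeSpectrum.height_eq_orderHeight ⟨p, hp⟩) ▸ hn
      obtain ⟨c, hc, hlen⟩ := Order.exists_series_of_le_height _ hn'
      refine ⟨(c ⟨n, by omega⟩).asIdeal, (c ⟨n, by omega⟩).2, ?_, ?_⟩
      · have h1 : c ⟨n, by omega⟩ < RelSeries.last c :=
          c.strictMono (show (⟨n, by omega⟩ : Fin (c.length + 1)) < Fin.last c.length by
            simp [Fin.lt_def]; omega)
        rw [hc] at h1
        exact h1
      · rw [PrimeSpectrum.height_eq_orderHeight]
        refine le_trans ?_ (Order.length_le_height (p := c.take ⟨n, by omega⟩) le_rfl)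
        simp
    haveI := hq
    have hQ := Ass.isPrime_core 𝒜 hq
    rcases (core_mono (𝒜 := 𝒜) hqp.le).lt_or_eq with hlt | heq
    · have h1 : (Ideal.homogeneousCore 𝒜 q).toIdeal.height + 1 ≤ (Ideal.homogeneousCore 𝒜 p).toIdeal.height := by
        haveI := hP; haveI := hQ
        exact Ideal.height_add_one_le_of_lt_of_isPrime hlt
      rw [Nat.cast_succ]
      exact add_le_add ((ih q hq hnq).trans h1) le_rfl
    · rcases (core_le (𝒜 := 𝒜) q).lt_or_eq with hlt | heq'
      · exact (not_lt_of_core hQ (Ideal.homogeneousCore 𝒜 q).isHomogeneous hq hlt hqp fun i x hx hxp => by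
          rw [heq]
          exact Ideal.mem_homogeneousCore_of_homogeneous_of_mem ⟨i, hx⟩ hxp).elim
      · rw [Nat.cast_succ]
        refine add_le_add ?_ le_rfl
        rwa [← heq, heq']

/-- The dimension is the height of a maximal ideal containing all proper homogeneous ideals. -/
theorem ringKrullDim_eq_height {m : Ideal R} [hm : m.IsMaximal]
    (hle : ∀ P : HomogeneousIdeal 𝒜, P.toIdeal ≠ ⊤ → P.toIdeal ≤ m) :
    ringKrullDim R = (m.height : WithBot ℕ∞) := by
  refine le_antisymm ?_ (Ideal.height_le_ringKrullDim_of_ne_top hm.ne_top)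
  rw [ringKrullDim_le_iff_height_le]
  intro p hp
  refine WithBot.coe_le_coe.2 ?_
  have hc := Ass.isPrime_core 𝒜 hp
  rcases (hle _ hc.ne_top).lt_or_eq with hlt | heq
  · refine (height_le_core_succ (𝒜 := 𝒜) p).trans ?_
    haveI := hm.isPrime; haveI := hc
    exact Ideal.height_add_one_le_of_lt_of_isPrime hlt
  · rw [hm.eq_of_le hp.ne_top (heq.ge.trans (core_le p))]

end Groth.Agent.Lib.Graded.Dim
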