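import Groth.Agent.Lib.Graded.StarInj
import Mathlib.Algebra.Category.ModuleCat.Projective
import Mathlib.Algebra.Category.ModuleCat.Ext.Basic
import Mathlib.Algebra.Homology.DerivedCategory.Ext.EnoughProjectives
import Mathlib.Algebra.Homology.DerivedCategory.Ext.ExactSequences
import Mathlib.Algebra.Homology.ShortComplex.ModuleCat
import Mathlib.RingTheory.Noetherian.Basic

/-!
# Graded free modules over any grading group, and vanishing of `Ext` into *injective modules
-/

universe u

set_option maxHeartbeats 600000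

set_option linter.unusedSectionVars false

open DirectSum CategoryTheory Abelian

namespace Groth.Agent.Lib.Graded.ExtStarInj

open Groth.Agent.Lib.Graded.Basic Groth.Agent.Lib.Graded.StarInj

variable {ι : Type} [AddCommGroup ι] [DecidableEq ι]
variable {R : Type u} [CommRing R] {σ : Type u} [SetLike σ R] [AddSubgroupClass σ R]
variable (𝒜 : ι → σ) [GradedRing 𝒜]

section Free

variable {n : ℕ} (deg : Fin n → ι)

/-- The pieces of a graded free module. -/
def freeGr : ι → AddSubgroup (Fin n → R) :=
  fun g => AddSubgroup.pi Set.univ fun b => AddSubgroup.ofClass (𝒜 (g - deg b))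

theorem mem_freeGr {g : ι} {v : Fin n → R} : v ∈ freeGr 𝒜 deg g ↔ ∀ b, v b ∈ 𝒜 (g - deg b) := by
  simp [freeGr, AddSubgroup.mem_pi, AddSubgroup.ofClass]

theorem single_mem {b : Fin n} {r : R} {e : ι} (hr : r ∈ 𝒜 e) :
    Pi.single b r ∈ freeGr 𝒜 deg (e + deg b) := by
  refine (mem_freeGr 𝒜 deg).2 fun c => ?_
  rcases eq_or_ne c b with rfl | h
  · rw [Pi.single_eq_same, add_sub_cancel_right]; exact hr
  · rw [Pi.single_eq_of_ne h]; exact zero_mem _

/-- The grading of a graded free module. -/
@[instance_reducible]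
noncomputable def freeDecomp : DirectSum.Decomposition (freeGr 𝒜 deg) :=
  decompositionOfProj _
    (fun g => AddMonoidHom.pi fun b => (proj 𝒜 (g - deg b)).comp (Pi.evalAddMonoidHom (fun _ => R) b))
    (fun _ _ hv => funext fun b => proj_of_mem 𝒜 ((mem_freeGr 𝒜 deg).1 hv b))
    (fun _ _ hne _ hv => funext fun b =>
      proj_of_mem_ne 𝒜 ((mem_freeGr 𝒜 deg).1 hv b) (by simpa using hne))
    (fun v => by
      rw [← Finset.univ_sum_single v]
      refine sum_mem fun b _ => ?_
      induction v b using induction_hom 𝒜 with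
      | zero => rw [Pi.single_zero]; exact zero_mem _
      | hom e r hr => exact mem_coe_range _ (single_mem 𝒜 deg hr)
      | add p q hp hq => rw [Pi.single_add]; exact add_mem hp hq)

theorem freeGSMul : SetLike.GradedSMul 𝒜 (freeGr 𝒜 deg) where
  smul_mem {i j r v} hr hv := (mem_freeGr 𝒜 deg).2 fun b => by
    have h := SetLike.mul_mem_graded hr ((mem_freeGr 𝒜 deg).1 hv b)
    rw [← add_sub_assoc] at h
    exact h

/-- A graded free module. -/
noncomputable def freeMod : GrLC.GMod.{u} 𝒜 :=
  letI := freeDecomp 𝒜 deg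
  haveI := freeGSMul 𝒜 deg
  GrLC.GMod.of 𝒜 (Fin n → R) (freeGr 𝒜 deg)

end Free

/-- Every finitely generated graded module is covered by a graded free one. -/
theorem exists_cover (X : GrLC.GMod.{u} 𝒜) (hX : Module.Finite R X.carrier) :
    ∃ (n : ℕ) (deg : Fin n → ι) (φ : (freeMod 𝒜 deg).carrier →ₗ[R] X.carrier),
      GrLC.IsGrHom (freeMod 𝒜 deg).gr X.gr φ ∧ Function.Surjective φ := by
  classical
  obtain ⟨s, hs⟩ := Module.finite_def.1 hX
  let T : Finset (ι × X.carrier) := s.biUnion fun m => (supp X.gr m).image fun g => (g, proj X.gr g m)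
  let e := T.equivFin.symm
  let deg : Fin T.card → ι := fun b => (e b).1.1
  let x : Fin T.card → X.carrier := fun b => (e b).1.2
  have hx : ∀ b, x b ∈ X.gr (deg b) := fun b => by
    obtain ⟨m, -, hm⟩ := Finset.mem_biUnion.1 (e b).2
    obtain ⟨g, -, hg⟩ := Finset.mem_image.1 hm
    simp only [x, deg, ← hg]
    exact proj_mem X.gr g m
  let φ : (freeMod 𝒜 deg).carrier →ₗ[R] X.carrier := Fintype.linearCombination R x
  have key : ∀ (g : ι) (v : Fin T.card → R), v ∈ freeGr 𝒜 deg g → Fintype.linearCombination R x v ∈ X.gr g := by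
    intro g v hv
    rw [Fintype.linearCombination_apply]
    exact sum_mem fun b _ =>
      smul_mem' 𝒜 X.gr ((mem_freeGr 𝒜 deg).1 hv b) (hx b) (sub_add_cancel _ _)
  refine ⟨_, deg, φ, fun g v hv => key g v hv, LinearMap.range_eq_top.1 (top_le_iff.1 ?_)⟩
  · rw [← hs, Submodule.span_le]
    intro m hm
    have hr : Submodule.span R (Set.range x) = LinearMap.range φ := (Fintype.range_linearCombination R x).symm
    rw [← hr, ← sum_proj X.gr m]
    refine sum_mem fun g hg => Submodule.subset_span ?_
    obtain ⟨b, hb⟩ := e.surjective ⟨(g, proj X.gr g m),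
      Finset.mem_biUnion.2 ⟨m, hm, Finset.mem_image.2 ⟨g, hg, rfl⟩⟩⟩
    exact ⟨b, by simp only [x, hb]⟩

variable {𝒜}

/-- The component of degree `d` of a linear map. -/
theorem exists_component {M N : GrLC.GMod.{u} 𝒜} (f : M.carrier →ₗ[R] N.carrier) (d : ι) :
    ∃ h : M.carrier →ₗ[R] N.carrier, GrLC.IsGrHomDeg M.gr N.gr h d ∧
      ∀ g, ∀ x ∈ M.gr g, h x = proj N.gr (g + d) (f x) := by
  classical
  let F : M.carrier →+ N.carrier :=
    (DirectSum.toAddMonoid fun g =>
        ((proj N.gr (g + d)).comp f.toAddMonoidHom).comp (AddSubgroup.subtype (M.gr g))).comp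
      (decomposeAddEquiv M.gr).toAddMonoidHom
  have hF : ∀ g, ∀ x ∈ M.gr g, F x = proj N.gr (g + d) (f x) := fun g x hx => by
    change DirectSum.toAddMonoid _ (decompose M.gr x) = _
    rw [decompose_of_mem M.gr hx, DirectSum.toAddMonoid_of]
    rfl
  have hsmul : ∀ (r : R) (x : M.carrier), F (r • x) = r • F x := by
    intro r x
    induction r using induction_hom 𝒜 with
    | zero => rw [zero_smul, map_zero, zero_smul]
    | add a b ha hb => rw [add_smul, map_add, ha, hb, add_smul]
    | hom e r hr =>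
      induction x using induction_hom M.gr with
      | zero => rw [smul_zero, map_zero, smul_zero]
      | add a b ha hb => rw [smul_add, map_add, ha, hb, map_add, smul_add]
      | hom g x hx =>
        rw [hF _ _ (smul_mem_add 𝒜 M.gr hr hx), hF g x hx, map_smul, proj_smul_of_mem 𝒜 N.gr hr]
        rw [show e + g + d - e = g + d by abel]
  exact ⟨{ F with map_smul' := hsmul }, fun g x hx => (hF g x hx).symm ▸ proj_mem _ _ _, hF⟩

/-- Linear maps from a finitely generated graded submodule into a *injective module extend. -/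
theorem exists_extend {M : GrLC.GMod.{u} 𝒜} {I : GrLC.GMod.{u} 𝒜} (hI : GrLC.IsStarInj 𝒜 I.gr)
    (K : Submodule R M.carrier) (hK : K.IsHomogeneous M.gr) (hfg : K.FG) (f : K →ₗ[R] I.carrier) :
    ∃ h : M.carrier →ₗ[R] I.carrier, h ∘ₗ K.subtype = f := by
  classical
  letI := subDecomp M.gr K hK
  haveI := subGSMul 𝒜 M.gr K
  choose c hc hcf using fun d => exists_component (M := subMod 𝒜 M.gr K hK) f d
  choose h hh hhc using fun d => extend_deg (ℳ := I.gr) (𝒩 := subGr M.gr K) (𝒬 := M.gr) hI
    (f := K.subtype) (fun _ _ hx => hx) K.injective_subtype (g := c d) (hc d)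
  obtain ⟨s, hs⟩ := Module.finite_def.1 (Module.Finite.iff_fg.2 hfg)
  let D : Finset ι := s.biUnion fun y => (supp (subGr M.gr K) y).biUnion fun g =>
    (supp I.gr (f (proj (subGr M.gr K) g y))).image fun e => e - g
  refine ⟨∑ d ∈ D, h d, LinearMap.ext_on hs fun y hy => ?_⟩
  rw [LinearMap.comp_apply, LinearMap.sum_apply]
  have h1 : ∀ d, h d (K.subtype y) = c d y := fun d => LinearMap.congr_fun (hhc d) y
  simp only [h1]
  have hsum : ∀ d, c d y = ∑ g ∈ supp (subGr M.gr K) y, proj I.gr (g + d) (f (proj (subGr M.gr K) g y)) := by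
    intro d
    conv_lhs => rw [← sum_proj (subGr M.gr K) y]
    exact (map_sum (c d) _ _).trans (Finset.sum_congr rfl fun g _ => hcf d g _ (proj_mem (subGr M.gr K) g y))
  simp only [hsum]
  rw [Finset.sum_comm]
  conv_rhs => rw [← sum_proj (subGr M.gr K) y, map_sum]
  refine Finset.sum_congr rfl fun g hg => ?_
  conv_rhs => rw [← sum_proj I.gr (f (proj (subGr M.gr K) g y))]
  rw [← Finset.sum_image (f := fun e => proj I.gr e (f (proj (subGr M.gr K) g y))) (g := fun d => g + d)
    fun a _ b _ hab => add_left_cancel hab]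
  refine (Finset.sum_subset ?_ fun e _ he => ?_).symm
  · intro e he
    refine Finset.mem_image.2 ⟨e - g, ?_, add_sub_cancel g e⟩
    exact Finset.mem_biUnion.2 ⟨y, hy, Finset.mem_biUnion.2 ⟨g, hg, Finset.mem_image.2 ⟨e, he, rfl⟩⟩⟩
  · rwa [mem_supp, not_not] at he

variable [IsNoetherianRing R]

/-- `Ext` from a finitely generated graded module into a *injective one vanishes. -/
theorem ext_subsingleton (I : GrLC.GMod.{u} 𝒜) (hI : GrLC.IsStarInj 𝒜 I.gr) :
    ∀ (i : ℕ) (X : GrLC.GMod.{u} 𝒜), Module.Finite R X.carrier →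
      Subsingleton (Ext.{u} (ModuleCat.of R X.carrier) (ModuleCat.of R I.carrier) (i + 1)) := by
  intro i
  induction i with
  | zero =>
    intro X hX
    obtain ⟨n, deg, φ, hφ, hsurj⟩ := exists_cover 𝒜 X hX
    have : Module.Projective R (freeMod 𝒜 deg).carrier := inferInstanceAs (Module.Projective R (Fin n → R))
    have : Projective φ.shortComplexKer.X₂ := ModuleCat.projective_of_categoryTheory_projective _
    refine subsingleton_of_forall_eq 0 fun x => ?_
    obtain ⟨x₁, rfl⟩ := Ext.contravariant_sequence_exact₃ (LinearMap.shortExact_shortComplexKer hsurj) _ x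
      (Ext.eq_zero_of_projective _) (n₀ := 0) rfl
    obtain ⟨f, rfl⟩ := (Ext.mk₀_bijective _ _).2 x₁
    obtain ⟨h, hh⟩ := exists_extend hI (LinearMap.ker φ) (isHomogeneous_ker hφ)
      ((inferInstance : IsNoetherian R (Fin n → R)).noetherian _) f.hom
    have hf : φ.shortComplexKer.f ≫ ModuleCat.ofHom h = f := ModuleCat.hom_ext hh
    rw [← hf, ← Ext.mk₀_comp_mk₀, ← Ext.comp_assoc_of_second_deg_zero,
      (LinearMap.shortExact_shortComplexKer hsurj).extClass_comp, Ext.zero_comp]
  | succ i ih =>
    intro X hX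
    obtain ⟨n, deg, φ, hφ, hsurj⟩ := exists_cover 𝒜 X hX
    have : Module.Projective R (freeMod 𝒜 deg).carrier := inferInstanceAs (Module.Projective R (Fin n → R))
    have : Projective φ.shortComplexKer.X₂ := ModuleCat.projective_of_categoryTheory_projective _
    refine subsingleton_of_forall_eq 0 fun x => ?_
    obtain ⟨x₁, rfl⟩ := Ext.contravariant_sequence_exact₃ (LinearMap.shortExact_shortComplexKer hsurj) _ x
      (Ext.eq_zero_of_projective _) (n₀ := i + 1) (by omega)
    haveI : Subsingleton (Ext φ.shortComplexKer.X₁ (ModuleCat.of R I.carrier) (i + 1)) :=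
      ih (subMod 𝒜 (freeMod 𝒜 deg).gr (LinearMap.ker φ) (isHomogeneous_ker hφ))
        (Module.Finite.iff_fg.2 ((inferInstance : IsNoetherian R (Fin n → R)).noetherian _))
    rw [Subsingleton.elim x₁ 0, Ext.comp_zero]

end Groth.Agent.Lib.Graded.ExtStarInj
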