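import Groth.Agent.Lib.Graded.Torsion
import Groth.Agent.Lib.Graded.Ass
import Groth.Agent.Lib.LocalCoh.Acyclic
import Groth.Prelude.Def_Wider

/-!
# Graded local cohomology is local cohomology
-/

universe u

set_option maxHeartbeats 600000

set_option linter.unusedSectionVars false

open DirectSum CategoryTheory CategoryTheory.Limits

namespace Groth.Agent.Lib.Graded.LocCohCompare

open Groth.Agent.Lib.Graded.Basic Groth.Agent.Lib.Graded.StarInj

variable {ι : Type} [AddCommGroup ι] [DecidableEq ι] [Module.Free ℤ ι] [Module.Finite ℤ ι]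
variable {R : Type u} [CommRing R] [IsNoetherianRing R] {σ : Type u} [SetLike σ R] [AddSubgroupClass σ R]
variable {𝒜 : ι → σ} [GradedRing 𝒜]

/-- The class of underlying modules of *injective graded modules. -/
def P (𝒜 : ι → σ) [GradedRing 𝒜] (M : ModuleCat.{u} R) : Prop :=
  ∃ X : GrLC.GMod.{u} 𝒜, GrLC.IsStarInj 𝒜 X.gr ∧ Nonempty (M ≅ ModuleCat.of R X.carrier)

/-- A *injective module is a torsion *injective module plus one on which `b` is bijective. -/
theorem exists_split {b : R} {k : ι} (hb : b ∈ 𝒜 k) (X : GrLC.GMod.{u} 𝒜) (hX : GrLC.IsStarInj 𝒜 X.gr) :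
    ∃ (Q K : Submodule R X.carrier) (hQ : Q.IsHomogeneous X.gr),
      IsCompl Q K ∧ GrLC.IsStarInj 𝒜 (subMod 𝒜 X.gr Q hQ).gr ∧
      (∀ x ∈ Q, ∃ n : ℕ, ∀ r ∈ Ideal.span {b} ^ n, r • x = 0) ∧
      Function.Bijective fun y : K => b • y := by
  let J : HomogeneousIdeal 𝒜 :=
    ⟨Ideal.span {b}, Ideal.homogeneous_span 𝒜 _ (by simpa using ⟨k, hb⟩)⟩
  obtain ⟨G, hGdef⟩ : ∃ G : Submodule R X.carrier, G = GrLC.gam J.toIdeal X.carrier := ⟨_, rfl⟩
  have hG : G.IsHomogeneous X.gr := hGdef ▸ Res.isHomogeneous_gam 𝒜 X.gr J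
  letI := subDecomp X.gr G hG
  haveI := subGSMul 𝒜 X.gr G
  obtain ⟨Q, hQ, hle, hhull, K, hK, hcompl⟩ := exists_hull_in 𝒜 (subGr X.gr G) (𝒩 := X.gr)
    hX (e := G.subtype) (fun _ _ hx => hx) G.injective_subtype
  have htors : GrLC.gam J.toIdeal Q = ⊤ := by
    letI := subDecomp X.gr Q hQ
    haveI := subGSMul 𝒜 X.gr Q
    refine Torsion.gam_eq_top_of_isStarEss J (ℳ := subGr X.gr G) (𝒩 := subGr X.gr Q) hhull.toIsStarEss ?_
    refine eq_top_iff.2 fun x _ => ?_
    obtain ⟨n, hn⟩ := (hGdef.le x.2 : (x : X.carrier) ∈ GrLC.gam J.toIdeal X.carrier)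
    exact ⟨n, fun r hr => Subtype.ext (hn r hr)⟩
  have hfree : ∀ y : K, b • y = 0 → y = 0 := by
    intro y hy
    have h1 : (y : X.carrier) ∈ G := hGdef.ge ⟨1, fun r hr => by
      rw [pow_one] at hr
      obtain ⟨c, rfl⟩ := Ideal.mem_span_singleton'.1 hr
      rw [mul_smul, show b • (y : X.carrier) = 0 from congrArg Subtype.val hy, smul_zero]⟩
    have h2 : (y : X.carrier) ∈ Q := hle ⟨⟨y, h1⟩, rfl⟩
    exact Subtype.ext (Submodule.disjoint_def.1 hcompl.disjoint _ h2 y.2)
  letI := subDecomp X.gr K hK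
  haveI := subGSMul 𝒜 X.gr K
  have hKinj : GrLC.IsStarInj 𝒜 (subGr X.gr K) := by
    refine isStarInj_of_retract (ℳ := X.gr) (𝒩 := subGr X.gr K) hX (i := K.subtype)
      (r := K.projectionOnto Q hcompl.symm) (fun _ _ hx => hx) ?_ ?_
    · intro g x hx
      change (K.projectionOnto Q hcompl.symm x : X.carrier) ∈ X.gr g
      have hmem : x ∈ K ⊔ Q := hcompl.symm.sup_eq_top.ge trivial
      obtain ⟨p, hp, q, hq, rfl⟩ := Submodule.mem_sup.1 hmem
      rw [map_add, Submodule.projectionOnto_apply_left hcompl.symm ⟨p, hp⟩,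
        Submodule.projectionOnto_apply_right hcompl.symm ⟨q, hq⟩, add_zero]
      have h1 : proj X.gr g p + proj X.gr g q = p + q := by
        rw [← map_add, proj_of_mem X.gr hx]
      have h2 : proj X.gr g p = p := by
        refine sub_eq_zero.1 (Submodule.disjoint_def.1 hcompl.symm.disjoint _ (sub_mem (hK g hp) hp) ?_)
        rw [show proj X.gr g p - p = q - proj X.gr g q by linear_combination (norm := abel) h1]
        exact sub_mem hq (hQ g hq)
      change p ∈ X.gr g
      exact h2 ▸ proj_mem X.gr g p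
    · exact LinearMap.ext fun x => Submodule.projectionOnto_apply_left hcompl.symm x
  letI := subDecomp X.gr Q hQ
  haveI := subGSMul 𝒜 X.gr Q
  refine ⟨Q, K, hQ, hcompl, hhull.starInj, fun x hx => ?_,
    fun u v huv => sub_eq_zero.1 (hfree _ (by rw [smul_sub, sub_eq_zero]; exact huv)), fun y => ?_⟩
  · obtain ⟨n, hn⟩ := htors.ge (trivial : (⟨x, hx⟩ : Q) ∈ (⊤ : Submodule R Q))
    exact ⟨n, fun r hr => congrArg Subtype.val (hn r hr : r • (⟨x, hx⟩ : Q) = 0)⟩
  · let mul : K →ₗ[R] K := b • LinearMap.id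
    have hmul : GrLC.IsGrHom (shiftMod 𝒜 (subGr X.gr K) (-k)).gr (toMod 𝒜 (subGr X.gr K)).gr mul :=
      fun j z hz => (mem_toMod 𝒜 _).2
        (smul_mem' 𝒜 (subGr X.gr K) hb (show z ∈ subGr X.gr K (j + -k) from hz) (by abel))
    have hmulinj : Function.Injective mul := fun u v huv => sub_eq_zero.1 (hfree _ (by
        rw [smul_sub, sub_eq_zero]; exact huv))
    obtain ⟨h, -, hc⟩ : ∃ h : K →ₗ[R] K,
        GrLC.IsGrHom (toMod 𝒜 (subGr X.gr K)).gr (shiftMod 𝒜 (subGr X.gr K) (-k)).gr h ∧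
          h.comp mul = LinearMap.id :=
      isStarInj_shiftMod hKinj (-k) (shiftMod 𝒜 (subGr X.gr K) (-k))
        (toMod 𝒜 (subGr X.gr K)) mul hmul hmulinj LinearMap.id (fun _ _ hz => hz)
    exact ⟨h y, (map_smul h b y).symm.trans (LinearMap.congr_fun hc y)⟩

theorem lc_subsingleton (a : HomogeneousIdeal 𝒜) (X : GrLC.GMod.{u} 𝒜) (hX : GrLC.IsStarInj 𝒜 X.gr) (i : ℕ) :
    Subsingleton ((localCohomology a.toIdeal (i + 1)).obj (ModuleCat.of R X.carrier)) := by
  classical
  obtain ⟨s, hs⟩ := IsNoetherian.noetherian a.toIdeal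
  let T : Finset R := s.biUnion fun x => (supp 𝒜 x).image fun g => proj 𝒜 g x
  have hT : Ideal.span (T : Set R) = a.toIdeal := by
    refine le_antisymm (Ideal.span_le.2 fun r hr => ?_) ?_
    · obtain ⟨x, hx, hr⟩ := Finset.mem_biUnion.1 hr
      obtain ⟨g, -, rfl⟩ := Finset.mem_image.1 hr
      exact a.isHomogeneous g (hs ▸ Submodule.subset_span hx)
    · rw [← hs]
      refine Submodule.span_le.2 fun x hx => ?_
      rw [← sum_proj 𝒜 x]
      exact sum_mem fun g hg => Ideal.subset_span (Finset.mem_biUnion.2 ⟨x, hx, Finset.mem_image_of_mem _ hg⟩)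
  rw [← hT]
  refine LocalCoh.lc_subsingleton_of_decomposition (P 𝒜) {b | ∃ k, b ∈ 𝒜 k} ?_ T ?_ i _ ⟨X, hX, ⟨Iso.refl _⟩⟩
  · rintro b ⟨k, hb⟩ M ⟨Y, hY, ⟨e⟩⟩
    obtain ⟨Q, K, hQ, hcompl, hQinj, htors, hbij⟩ := exists_split hb Y hY
    let S : ShortComplex (ModuleCat.{u} R) :=
      ShortComplex.mk (ModuleCat.ofHom Q.subtype ≫ e.inv)
        (e.hom ≫ ModuleCat.ofHom (K.projectionOnto Q hcompl.symm)) (by
          rw [Category.assoc, Iso.inv_hom_id_assoc]
          ext x
          exact congrArg Subtype.val (Submodule.projectionOnto_apply_right hcompl.symm x))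
    refine ⟨S, ?_, rfl, ⟨subMod 𝒜 Y.gr Q hQ, hQinj, ⟨Iso.refl _⟩⟩, ?_, hbij⟩
    · refine { exact := ?_, mono_f := ?_, epi_g := ?_ }
      · rw [ShortComplex.moduleCat_exact_iff]
        intro x hx
        have hx' : e.hom.hom x ∈ Q := by
          have h1 : e.hom.hom x ∈ LinearMap.ker (K.projectionOnto Q hcompl.symm) := LinearMap.mem_ker.2 hx
          rwa [Submodule.ker_projectionOnto] at h1
        exact ⟨⟨_, hx'⟩, e.toLinearEquiv.symm_apply_apply x⟩
      · rw [ModuleCat.mono_iff_injective]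
        exact e.toLinearEquiv.symm.injective.comp Q.injective_subtype
      · rw [ModuleCat.epi_iff_surjective]
        intro y
        exact ⟨e.inv.hom y, by
          change K.projectionOnto Q hcompl.symm (e.hom.hom (e.inv.hom y)) = y
          rw [show e.hom.hom (e.inv.hom y) = (y : Y.carrier) from e.toLinearEquiv.apply_symm_apply _]
          exact Submodule.projectionOnto_apply_left hcompl.symm y⟩
    · intro x
      obtain ⟨n, hn⟩ := htors x.1 x.2
      exact ⟨n, fun r hr => Subtype.ext (hn r hr)⟩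
  · intro r hr
    obtain ⟨x, -, hr⟩ := Finset.mem_biUnion.1 hr
    obtain ⟨g, -, rfl⟩ := Finset.mem_image.1 hr
    exact ⟨g, proj_mem 𝒜 g x⟩

section Compare

variable {M : Type u} [AddCommGroup M] [Module R M] {τ : Type u} [SetLike τ M] [AddSubgroupClass τ M]
variable {ℳ : ι → τ} [DirectSum.Decomposition ℳ] [SetLike.GradedSMul 𝒜 ℳ]
variable (E : GrLC.StarInjRes 𝒜 ℳ) (a : HomogeneousIdeal 𝒜)

/-- The underlying complex of a *injective resolution. -/
noncomputable def cx : CochainComplex (ModuleCat.{u} R) ℕ :=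
  CochainComplex.of (fun n => ModuleCat.of R (E.X n).carrier) (fun n => ModuleCat.ofHom (E.d n)) (fun n => by
    ext x
    exact LinearMap.mem_ker.1 ((E.exact_succ n).ge ⟨x, rfl⟩))

theorem cx_d (n : ℕ) : (cx E).d n (n + 1) = ModuleCat.ofHom (E.d n) :=
  CochainComplex.of_d (fun n => ModuleCat.of R (E.X n).carrier) (fun n => ModuleCat.ofHom (E.d n)) n

/-- A *injective resolution as an acyclic resolution. -/
noncomputable def acRes : LocalCoh.DeltaSeq.AcRes (localCohomology a.toIdeal) (ModuleCat.of R M) where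
  J := cx E
  ι := ModuleCat.ofHom E.ε
  w := by
    rw [cx_d]
    ext x
    exact LinearMap.mem_ker.1 (E.exact_zero.ge ⟨x, rfl⟩)
  mono_ι := (ModuleCat.mono_iff_injective _).2 E.ε_injective
  exact_zero := by
    rw [ShortComplex.moduleCat_exact_iff_range_eq_ker]
    change LinearMap.range E.ε = LinearMap.ker ((cx E).d 0 1).hom
    rw [cx_d]
    exact E.exact_zero.symm
  exact_succ n := by
    rw [ShortComplex.moduleCat_exact_iff_range_eq_ker]
    change LinearMap.range ((cx E).d n (n + 1)).hom = LinearMap.ker ((cx E).d (n + 1) (n + 2)).hom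
    rw [cx_d, cx_d]
    exact (E.exact_succ n).symm
  acyclic n k := lc_subsingleton a (E.X n) (E.starInj n) k

/-- The cocycles, inside the torsion functor. -/
noncomputable def incl (n : ℕ) :
    ModuleCat.of R (E.cocyc a n) ⟶ ((DRing.gammaI a.toIdeal).obj ((cx E).X n)) :=
  ModuleCat.ofHom (LinearMap.codRestrict (DRing.torsionSub a.toIdeal (E.X n).carrier)
    (E.cocyc a n).subtype (fun z => z.2.1))

/-- Graded local cohomology is local cohomology. -/
noncomputable def equiv (i : ℕ) : E.H a i ≃ₗ[R] LocCoh.H a.toIdeal i M :=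
  let G := ((DRing.gammaI a.toIdeal).mapHomologicalComplex (ComplexShape.up ℕ)).obj (cx E)
  let φ : (acRes E a).cx ≅ G := (NatIso.mapHomologicalComplex (LocalCoh.lcZeroIso a.toIdeal) _).app (cx E)
  let D : (G.sc' (i - 1) i (i + 1)).LeftHomologyData :=
    LocalCoh.DeltaSeq.leftHomologyDataOfExact (G.sc' (i - 1) i (i + 1))
      (K := ModuleCat.of R (E.cocyc a i)) (H := ModuleCat.of R (E.H a i))
      (incl E a i) (ModuleCat.ofHom (E.toH a i))
      (fun x y h => Subtype.ext (congrArg (fun t : DRing.torsionSub a.toIdeal (E.X i).carrier => t.1) h))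
      (fun x => by
        change ((DRing.gammaI a.toIdeal).map ((cx E).d i (i + 1))).hom x = 0 ↔ _
        rw [cx_d]
        constructor
        · intro h
          exact ⟨⟨x.1, x.2, LinearMap.mem_ker.2 (congrArg Subtype.val h)⟩, rfl⟩
        · rintro ⟨z, rfl⟩
          exact Subtype.ext (LinearMap.mem_ker.1 z.2.2))
      (Submodule.mkQ_surjective _)
      (fun z => by
        change E.toH a i z = 0 ↔ _
        rw [Submodule.mkQ_apply, Submodule.Quotient.mk_eq_zero, Submodule.mem_comap]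
        cases i with
        | zero =>
          change (z : (E.X 0).carrier) ∈ (⊥ : Submodule R _) ↔
            ∃ x, ((DRing.gammaI a.toIdeal).map ((cx E).d 0 0)).hom x = (incl E a 0).hom z
          rw [(cx E).shape 0 0 (by simp), Functor.map_zero, Submodule.mem_bot]
          constructor
          · intro h
            exact ⟨0, Subtype.ext h.symm⟩
          · rintro ⟨x, hx⟩
            exact (congrArg Subtype.val hx).symm
        | succ n =>
          change (z : (E.X (n + 1)).carrier) ∈ (GrLC.gam a.toIdeal (E.X n).carrier).map (E.d n) ↔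
            ∃ x, ((DRing.gammaI a.toIdeal).map ((cx E).d n (n + 1))).hom x = (incl E a (n + 1)).hom z
          rw [cx_d]
          constructor
          · rintro ⟨x, hx, hxz⟩
            exact ⟨⟨x, hx⟩, Subtype.ext hxz⟩
          · rintro ⟨x, hx⟩
            exact ⟨x.1, x.2, congrArg Subtype.val hx⟩)
  (((HomologicalComplex.homologyFunctor _ (ComplexShape.up ℕ) i).mapIso φ ≪≫
      G.homologyIsoSc' (i - 1) i (i + 1) (by cases i <;> simp) (by simp) ≪≫ D.homologyIso).toLinearEquiv.symm).trans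
    ((acRes E a).homologyIso (LocalCoh.lcDeltaSeq a.toIdeal) i).toLinearEquiv

end Compare

end Groth.Agent.Lib.Graded.LocCohCompare
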