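import Groth.Agent.Lib.Graded.Torsion

/-!
# Degreewise vanishing of graded local cohomology, independent of resolutions
-/

universe u

set_option linter.unusedSectionVars false

open DirectSum

namespace Groth.Agent.Lib.Graded.Van

open Groth.Agent.Lib.Graded.Basic Groth.Agent.Lib.Graded.StarInj Groth.Agent.Lib.Graded.Horseshoe

variable {ι : Type} [AddCommGroup ι] [DecidableEq ι]
variable {R : Type u} [CommRing R] {σ : Type u} [SetLike σ R] [AddSubgroupClass σ R]
variable {𝒜 : ι → σ} [GradedRing 𝒜] (a : HomogeneousIdeal 𝒜)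

/-- `H^i_a(X)_d = 0`, for every resolution. -/
def V (X : GrLC.GMod.{u} 𝒜) (i : ℕ) (d : ι) : Prop :=
  ∀ E : GrLC.StarInjRes 𝒜 X.gr, E.Hgr a i d = ⊥

variable {a} {X Y Z : GrLC.GMod.{u} 𝒜} {i : ℕ} {d : ι}

theorem V_of_res (E : GrLC.StarInjRes 𝒜 X.gr) (h : E.Hgr a i d = ⊥) : V a X i d :=
  fun F => LES.Hgr_eq_bot_congr a E F i d h

variable {f : X.carrier →ₗ[R] Y.carrier} {g : Y.carrier →ₗ[R] Z.carrier}

theorem V_mid (h : SES X.gr Y.gr Z.gr f g) (hX : V a X i d) (hZ : V a Z i d) : V a Y i d := by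
  intro E
  obtain ⟨E'⟩ := Res.nonempty_starInjRes 𝒜 X.gr
  obtain ⟨E''⟩ := Res.nonempty_starInjRes 𝒜 Z.gr
  exact (LES.vanish Y.gr E' E E'' a h d).1 i (hX E') (hZ E'')

theorem V_right (h : SES X.gr Y.gr Z.gr f g) (hY : V a Y i d) (hX : V a X (i + 1) d) :
    V a Z i d := by
  intro E''
  obtain ⟨E'⟩ := Res.nonempty_starInjRes 𝒜 X.gr
  obtain ⟨E⟩ := Res.nonempty_starInjRes 𝒜 Y.gr
  exact (LES.vanish Y.gr E' E E'' a h d).2.1 i (hY E) (hX E')

theorem V_left (h : SES X.gr Y.gr Z.gr f g) (hZ : V a Z i d) (hY : V a Y (i + 1) d) :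
    V a X (i + 1) d := by
  intro E'
  obtain ⟨E''⟩ := Res.nonempty_starInjRes 𝒜 Z.gr
  obtain ⟨E⟩ := Res.nonempty_starInjRes 𝒜 Y.gr
  exact (LES.vanish Y.gr E' E E'' a h d).2.2.1 i (hZ E'') (hY E)

theorem V_left_zero (h : SES X.gr Y.gr Z.gr f g) (hY : V a Y 0 d) : V a X 0 d := by
  intro E'
  obtain ⟨E''⟩ := Res.nonempty_starInjRes 𝒜 Z.gr
  obtain ⟨E⟩ := Res.nonempty_starInjRes 𝒜 Y.gr
  exact (LES.vanish Y.gr E' E E'' a h d).2.2.2 (hY E)

theorem V_congr (e : X.carrier ≃ₗ[R] Y.carrier) (he : GrLC.IsGrHom X.gr Y.gr e.toLinearMap)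
    (hX : V a X i d) : V a Y i d := by
  intro E
  obtain ⟨E'⟩ := Res.nonempty_starInjRes 𝒜 X.gr
  refine (AddSubgroup.eq_bot_iff_forall _).2 fun y hy => ?_
  let φ := Chain.lift E E' e.symm.toLinearMap
  let ψ := Chain.lift E' E e.toLinearMap
  have h0 : φ.hMap a i y = 0 := by
    have h1 := Chain.Map.hMap_grHom a φ i d y hy
    rwa [hX E', AddSubgroup.mem_bot] at h1
  have hid : (ψ.comp φ).hMap a i = LinearMap.id := by
    rw [← Chain.Map.hMap_id]
    refine Chain.Map.hMap_congr a _ _ ?_ i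
    change (ψ.app 0 ∘ₗ φ.app 0) ∘ₗ E.ε = E.ε
    rw [LinearMap.comp_assoc, Chain.lift_ε E E' _ (isGrHom_symm he), ← LinearMap.comp_assoc,
      Chain.lift_ε E' E _ he, LinearMap.comp_assoc]
    simp
  have h2 := LinearMap.congr_fun hid y
  rw [Chain.Map.hMap_comp, LinearMap.comp_apply, h0, map_zero] at h2
  exact h2.symm

theorem V_shift_iff (c : ι) : V a (shiftMod 𝒜 X.gr c) i d ↔ V a X i (d + c) := by
  constructor
  · intro h E
    exact (LES.shiftRes_Hgr_eq_bot_iff a E c i d).1 (h (LES.shiftRes X.gr E c))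
  · intro h
    obtain ⟨E⟩ := Res.nonempty_starInjRes 𝒜 X.gr
    exact V_of_res _ ((LES.shiftRes_Hgr_eq_bot_iff a E c i d).2 (h E))

/-- Translation between an unbundled module and its bundle. -/
theorem V_toMod_iff {M : Type u} [AddCommGroup M] [Module R M] {τ : Type u} [SetLike τ M]
    [AddSubgroupClass τ M] {ℳ : ι → τ} [DirectSum.Decomposition ℳ] [SetLike.GradedSMul 𝒜 ℳ]
    (E : GrLC.StarInjRes 𝒜 ℳ) : V a (toMod 𝒜 ℳ) i d ↔ E.Hgr a i d = ⊥ := by
  have h := LES.shiftRes_Hgr_eq_bot_iff a E 0 i d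
  rw [add_zero] at h
  exact ⟨fun hV => h.1 (hV (LES.shiftRes ℳ E 0)), fun hE => V_of_res _ (h.2 hE)⟩

theorem V_zero_iff : V a X 0 d ↔ ∀ x ∈ X.gr d, x ∈ GrLC.gam a.toIdeal X.carrier → x = 0 := by
  constructor
  · intro h x hx hxg
    obtain ⟨E⟩ := Res.nonempty_starInjRes 𝒜 X.gr
    have h1 := Chain.h0Map_grHom a (E := E) (ℳ := X.gr) d ⟨x, hxg⟩ hx
    rw [h E, AddSubgroup.mem_bot] at h1
    exact congrArg Subtype.val ((Chain.h0Map_bijective a).1 (h1.trans (map_zero _).symm))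
  · intro h E
    refine (AddSubgroup.eq_bot_iff_forall _).2 fun y hy => ?_
    have h1 := Chain.h0Equiv_symm_grHom a E d y hy
    have h2 : (Chain.h0Equiv a E).symm y = 0 := Subtype.ext (h _ h1 ((Chain.h0Equiv a E).symm y).2)
    exact (Chain.h0Equiv a E).symm.map_eq_zero_iff.1 h2

theorem V_of_subsingleton [Module.Free ℤ ι] [Module.Finite ℤ ι] [IsNoetherianRing R]
    (h : Subsingleton X.carrier) : V a X i d := by
  rcases Nat.eq_zero_or_pos i with rfl | hi
  · exact V_zero_iff.2 fun x _ _ => Subsingleton.elim _ _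
  · exact fun E => Torsion.Hgr_eq_bot a
      (eq_top_iff.2 fun x _ => ⟨0, fun r _ => Subsingleton.elim _ _⟩) E i hi d

theorem V_torsion [Module.Free ℤ ι] [Module.Finite ℤ ι] [IsNoetherianRing R]
    (h : GrLC.gam a.toIdeal X.carrier = ⊤) (hi : 1 ≤ i) : V a X i d :=
  fun E => Torsion.Hgr_eq_bot a h E i hi d

section Standard

variable (X) (P : Submodule R X.carrier) (hP : P.IsHomogeneous X.gr)

theorem ses_quot : SES (subMod 𝒜 X.gr P hP).gr X.gr (qMod 𝒜 X.gr P hP).gr P.subtype P.mkQ where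
  grHom_i _ _ hx := hx
  grHom_π _ _ hx := mkQ_mem_qGr X.gr P hx
  injective := P.injective_subtype
  surjective := P.mkQ_surjective
  exact := (Submodule.ker_mkQ P).trans (Submodule.range_subtype P).symm

variable {X P}

theorem ses_ker_range {f : X.carrier →ₗ[R] Y.carrier} (hf : GrLC.IsGrHom X.gr Y.gr f) :
    SES (subMod 𝒜 X.gr (LinearMap.ker f) (isHomogeneous_ker hf)).gr X.gr
      (subMod 𝒜 Y.gr (LinearMap.range f) (isHomogeneous_range hf)).gr
      (LinearMap.ker f).subtype f.rangeRestrict where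
  grHom_i _ _ hx := hx
  grHom_π g x hx := hf g x hx
  injective := (LinearMap.ker f).injective_subtype
  surjective := f.surjective_rangeRestrict
  exact := (LinearMap.ker_rangeRestrict f).trans (Submodule.range_subtype _).symm

variable (X Y) in
theorem ses_prod : SES X.gr (prodMod X Y).gr Y.gr (LinearMap.inl R X.carrier Y.carrier)
    (LinearMap.snd R X.carrier Y.carrier) where
  grHom_i _ _ hx := AddSubgroup.mem_prod.2 ⟨hx, zero_mem _⟩
  grHom_π _ _ hx := (AddSubgroup.mem_prod.1 hx).2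
  injective _ _ h := congrArg Prod.fst h
  surjective y := ⟨(0, y), rfl⟩
  exact := LinearMap.ker_snd (R := R) (M := X.carrier) (M₂ := Y.carrier)

theorem V_prod (hX : V a X i d) (hY : V a Y i d) : V a (prodMod X Y) i d :=
  V_mid (ses_prod X Y) hX hY

/-- Divide a module by a homogeneous submodule which is a torsion module. -/
theorem V_iff_quot_torsion [Module.Free ℤ ι] [Module.Finite ℤ ι] [IsNoetherianRing R]
    (hP : P.IsHomogeneous X.gr) (htors : GrLC.gam a.toIdeal P = ⊤) (hi : 1 ≤ i) :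
    V a X i d ↔ V a (qMod 𝒜 X.gr P hP) i d :=
  ⟨fun h => V_right (ses_quot X P hP) h (V_torsion (X := subMod 𝒜 X.gr P hP) htors i.succ_pos),
    fun h => V_mid (ses_quot X P hP) (V_torsion (X := subMod 𝒜 X.gr P hP) htors hi) h⟩

end Standard

end Groth.Agent.Lib.Graded.Van
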