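import Groth.Agent.Lib.Graded.LocCohCompare
import Groth.Agent.Lib.Graded.Van
import Groth.Agent.Lib.Depth.LocalCoh
import Groth.Agent.Lib.LocalCoh.Vanishing

/-!
# Vanishing of graded local cohomology below the depth and above the dimension
-/

universe u

set_option maxHeartbeats 600000
set_option linter.unusedSectionVars false

open DirectSum

namespace Groth.Agent.Lib.Graded.CMVanish

open Groth.Agent.Lib.Graded.Basic Groth.Agent.Lib.Graded.StarInj Groth.Agent.Lib.Graded.Van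

variable {R : Type u} [CommRing R] [IsNoetherianRing R] {σ : Type u} [SetLike σ R] [AddSubgroupClass σ R]
variable {𝒜 : ℤ → σ} [GradedRing 𝒜] {a : HomogeneousIdeal 𝒜}
variable {M : Type u} [AddCommGroup M] [Module R M] {τ : Type u} [SetLike τ M] [AddSubgroupClass τ M]
variable {ℳ : ℤ → τ} [DirectSum.Decomposition ℳ] [SetLike.GradedSMul 𝒜 ℳ]

theorem Hgr_eq_bot_of_subsingleton (E : GrLC.StarInjRes 𝒜 ℳ) {i : ℕ} (g : ℤ)
    (h : Subsingleton (LocCoh.H a.toIdeal i M)) : E.Hgr a i g = ⊥ := by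
  haveI : Subsingleton (E.H a i) := (LocCohCompare.equiv E a i).toEquiv.subsingleton
  exact (AddSubgroup.eq_bot_iff_forall _).2 fun x _ => Subsingleton.elim _ _

theorem V_of_subsingleton_H {i : ℕ} (g : ℤ) (h : Subsingleton (LocCoh.H a.toIdeal i M)) :
    V a (toMod 𝒜 ℳ) i g := by
  obtain ⟨E⟩ := Res.nonempty_starInjRes 𝒜 ℳ
  exact (V_toMod_iff E).2 (Hgr_eq_bot_of_subsingleton E g h)

theorem V_of_lt_idealDepth [Module.Finite R M] {i : ℕ} (g : ℤ)
    (h : (i : ℕ∞) < LocCoh.idealDepth a.toIdeal M) : V a (toMod 𝒜 ℳ) i g :=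
  V_of_subsingleton_H g ((Depth.LocalCoh.le_idealDepth_iff_H a.toIdeal M (i + 1)).1
    (by rw [Nat.cast_add, Nat.cast_one]; exact Order.add_one_le_of_lt h) i i.lt_succ_self)

theorem V_of_supportDim_lt [Module.Finite R M] {i : ℕ} (g : ℤ)
    (h : Module.supportDim R M < (i : WithBot ℕ∞)) : V a (toMod 𝒜 ℳ) i g :=
  V_of_subsingleton_H g (Groth.Agent.Lib.LocalCoh.lc_subsingleton_of_supportDim_lt i R a.toIdeal M h)

end Groth.Agent.Lib.Graded.CMVanish
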