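import Groth.Agent.Lib.Graded.Van

/-!
# The sequence of multiplication by a homogeneous regular element
-/

universe u

set_option linter.unusedSectionVars false

open DirectSum

namespace Groth.Agent.Lib.Graded.SmulSeq

open Groth.Agent.Lib.Graded.Basic Groth.Agent.Lib.Graded.StarInj Groth.Agent.Lib.Graded.Horseshoe

variable {ι : Type} [AddCommGroup ι] [DecidableEq ι]
variable {R : Type u} [CommRing R] {σ : Type u} [SetLike σ R] [AddSubgroupClass σ R]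
variable {𝒜 : ι → σ} [GradedRing 𝒜]
variable {M : Type u} [AddCommGroup M] [Module R M] {τ : Type u} [SetLike τ M] [AddSubgroupClass τ M]
variable {ℳ : ι → τ} [DirectSum.Decomposition ℳ] [SetLike.GradedSMul 𝒜 ℳ]
variable {N : Type u} [AddCommGroup N] [Module R N] {τ' : Type u} [SetLike τ' N] [AddSubgroupClass τ' N]
variable {𝒩 : ι → τ'} [DirectSum.Decomposition 𝒩] [SetLike.GradedSMul 𝒜 𝒩]

theorem ses_smul {x : R} {k : ι} (hx : x ∈ 𝒜 k) (hreg : IsSMulRegular M x) {π : M →ₗ[R] N}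
    (hπ : GrLC.IsGrHom ℳ 𝒩 π) (hsurj : Function.Surjective π)
    (hker : LinearMap.ker π = LinearMap.range (x • (LinearMap.id : M →ₗ[R] M))) :
    SES (shiftMod 𝒜 ℳ (-k)).gr ℳ 𝒩 (x • (LinearMap.id : M →ₗ[R] M)) π where
  grHom_i g m hm := smul_mem' 𝒜 ℳ hx (show m ∈ ℳ (g + -k) from hm) (by abel)
  grHom_π := hπ
  injective := hreg
  surjective := hsurj
  exact := hker

/-- The quotient by a homogeneous multiple, as a graded module. -/
theorem isHomogeneous_range_smul {x : R} {k : ι} (hx : x ∈ 𝒜 k) :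
    (LinearMap.range (x • (LinearMap.id : M →ₗ[R] M))).IsHomogeneous ℳ := by
  rintro g _ ⟨y, rfl⟩
  exact ⟨proj ℳ (g - k) y, (proj_smul_of_mem 𝒜 ℳ hx g y).symm⟩

variable (a : HomogeneousIdeal 𝒜)

/-- The long exact sequence of multiplication by a regular element. -/
theorem exists_seq {x : R} {k : ι} (hx : x ∈ 𝒜 k) (hreg : IsSMulRegular M x) {π : M →ₗ[R] N}
    (hπ : GrLC.IsGrHom ℳ 𝒩 π) (hsurj : Function.Surjective π)
    (hker : LinearMap.ker π = LinearMap.range (x • (LinearMap.id : M →ₗ[R] M)))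
    (E : GrLC.StarInjRes 𝒜 ℳ) (F : GrLC.StarInjRes 𝒜 𝒩) :
    ∃ (g : ∀ n, E.H a n →ₗ[R] F.H a n) (δ : ∀ n, F.H a n →ₗ[R] E.H a (n + 1)),
      (∀ n, GrLC.IsGrHom (E.Hgr a n) (F.Hgr a n) (g n)) ∧
      (∀ n, GrLC.IsGrHomDeg (F.Hgr a n) (E.Hgr a (n + 1)) (δ n) (-k)) ∧
      (∀ n y, g n y = 0 ↔ ∃ z, x • z = y) ∧
      (∀ n y, δ n y = 0 ↔ ∃ z, g n z = y) ∧
      (∀ n y, x • y = 0 ↔ ∃ z, δ n z = y) ∧
      (∀ y : E.H a 0, x • y = 0 → y = 0) := by
  let φ : Chain.Map (LES.shiftRes ℳ E (-k)) E :=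
    ⟨fun n => x • LinearMap.id,
      fun n g m hm => smul_mem' 𝒜 (E.X n).gr hx (show m ∈ (E.X n).gr (g + -k) from hm) (by abel),
      fun n => LinearMap.ext fun m => (map_smul (E.d n) x m).symm⟩
  let ψ := Chain.lift E F π
  obtain ⟨δ, hδ, h1, h2, h3, h4⟩ := LES.exists_les (LES.shiftRes ℳ E (-k)) E F a
    (ses_smul hx hreg hπ hsurj hker) φ (LinearMap.ext fun m => (map_smul E.ε x m).symm) ψ
    (Chain.lift_ε E F π hπ)
  have hφ : ∀ n (y : E.H a n), φ.hMap a n y = x • y := by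
    intro n y
    obtain ⟨z, rfl⟩ := Chain.toH_surjective a n y
    rfl
  refine ⟨fun n => ψ.hMap a n, δ, fun n => Chain.Map.hMap_grHom a ψ n, fun n d y hy => ?_,
    fun n y => ?_, fun n y => ?_, fun n y => ?_, fun y hy => h4 ?_⟩
  · exact (LES.mem_shiftRes_Hgr a E (-k) (n + 1) d (δ n y)).1 (hδ n d y hy)
  · exact ⟨fun h => by
      obtain ⟨z, hz⟩ := (h1 n).le (LinearMap.mem_ker.2 h)
      exact ⟨z, (hφ n z).symm.trans hz⟩,
      fun ⟨z, hz⟩ => LinearMap.mem_ker.1 ((h1 n).ge ⟨z, (hφ n z).trans hz⟩)⟩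
  · exact ⟨fun h => (h2 n).le h, fun h => (h2 n).ge h⟩
  · exact ⟨fun h => (h3 n).le (show φ.hMap a (n + 1) y = 0 from (hφ (n + 1) y).trans h),
      fun h => (hφ (n + 1) y).symm.trans
        (show φ.hMap a (n + 1) y = 0 from (h3 n).ge h)⟩
  · exact ((hφ 0 y).trans hy).trans (map_zero (φ.hMap a 0)).symm

/-- Local cohomology is torsion. -/
theorem gam_H_eq_top {L : Type u} [AddCommGroup L] [Module R L] {τ₀ : Type u} [SetLike τ₀ L]
    [AddSubgroupClass τ₀ L] {ℒ : ι → τ₀} [DirectSum.Decomposition ℒ] [SetLike.GradedSMul 𝒜 ℒ]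
    (E : GrLC.StarInjRes 𝒜 ℒ) (n : ℕ) : GrLC.gam a.toIdeal (E.H a n) = ⊤ := by
  refine eq_top_iff.2 fun y _ => ?_
  obtain ⟨z, rfl⟩ := Chain.toH_surjective a n y
  obtain ⟨m, hm⟩ := z.2.1
  exact ⟨m, fun r hr => by
    rw [← map_smul, show r • z = 0 from Subtype.ext (hm r hr), map_zero]⟩

end Groth.Agent.Lib.Graded.SmulSeq
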