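import Groth.Agent.Lib.Graded.Avoid
import Groth.Agent.Lib.Graded.SmulSeq

/-!
# An induction principle for finitely generated graded modules over a nonnegatively graded ring
-/

universe u

set_option linter.unusedSectionVars false

open DirectSum

namespace Groth.Agent.Lib.Graded.FGInduction

open Groth.Agent.Lib.Graded.Basic Groth.Agent.Lib.Graded.StarInj

variable {R : Type u} [CommRing R] [IsNoetherianRing R] {σ : Type u} [SetLike σ R] [AddSubgroupClass σ R]
variable (𝒜 : ℤ → σ) [GradedRing 𝒜]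

/-- The homogeneous elements of positive degree. -/
def posSet : Set R := {r | ∃ k : ℤ, 0 < k ∧ r ∈ 𝒜 k}

/-- The ideal of elements of positive degree. -/
def posIdeal : HomogeneousIdeal 𝒜 :=
  ⟨Ideal.span (posSet 𝒜), Ideal.homogeneous_span 𝒜 _ fun _ hr => hr.elim fun k hk => ⟨k, hk.2⟩⟩

theorem span_iUnion_Ioi :
    Ideal.span (⋃ n ∈ Set.Ioi (0 : ℤ), (𝒜 n : Set R)) = (posIdeal 𝒜).toIdeal := by
  refine congrArg Ideal.span (Set.ext fun r => ?_)
  simp [posSet]

theorem span_one_le_posIdeal : Ideal.span (𝒜 1 : Set R) ≤ (posIdeal 𝒜).toIdeal :=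
  Ideal.span_mono fun _ hr => ⟨1, one_pos, hr⟩

variable {𝒜}

theorem mem_smul_top_pow {M : Type u} [AddCommGroup M] [Module R M] {I : Ideal R} {x : M}
    (h : ∀ r ∈ I, ∀ y : M, r • y = 0) (hx : x ∈ I • (⊤ : Submodule R M)) : x = 0 :=
  Submodule.smul_induction_on hx (fun r hr y _ => h r hr y) fun u v hu hv => by rw [hu, hv, add_zero]

theorem smul_sub_eq_zero {M : Type u} [AddCommGroup M] [Module R M] (P : Submodule R M) {r : R}
    (h : ∀ y : M, y ∈ P → r • y = 0) (y : P) : r • y = 0 :=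
  Subtype.ext (h y y.2)

theorem smul_mkQ_eq_zero {M : Type u} [AddCommGroup M] [Module R M] (P : Submodule R M) {r : R}
    (h : ∀ y : M, r • y ∈ P) (z : M ⧸ P) : r • z = 0 := by
  obtain ⟨y, rfl⟩ := P.mkQ_surjective z
  exact (Submodule.Quotient.mk_eq_zero P).2 (h y)

/-- Modules killed by a power of the positive part are bounded above. -/
theorem bdd_of_pow_kills (k : ℕ) : ∀ (X : GrLC.GMod.{u} 𝒜), Module.Finite R X.carrier →
    (∀ r ∈ (posIdeal 𝒜).toIdeal ^ k, ∀ y : X.carrier, r • y = 0) →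
    ∃ b : ℤ, ∀ n : ℤ, b < n → ∀ x ∈ X.gr n, x = 0 := by
  induction k with
  | zero =>
    refine fun X _ h => ⟨0, fun n _ x _ => ?_⟩
    have := h 1 (by rw [pow_zero, Ideal.one_eq_top]; trivial) x
    rwa [one_smul] at this
  | succ k ih =>
    intro X hX h
    let P : Submodule R X.carrier := (posIdeal 𝒜).toIdeal • ⊤
    have hP : P.IsHomogeneous X.gr := by
      have hPs : P = Submodule.span R {z | ∃ r ∈ posSet 𝒜, ∃ g, ∃ y ∈ X.gr g, r • y = z} := by
        refine le_antisymm (Submodule.smul_le.2 fun r hr y _ => ?_) (Submodule.span_le.2 ?_)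
        · induction hr using Submodule.span_induction generalizing y with
          | mem c hc =>
            rw [← sum_proj X.gr y, Finset.smul_sum]
            exact sum_mem fun g _ => Submodule.subset_span ⟨c, hc, g, _, proj_mem X.gr g y, rfl⟩
          | zero => rw [zero_smul]; exact zero_mem _
          | add u v _ _ hu hv => rw [add_smul]; exact add_mem (hu y trivial) (hv y trivial)
          | smul t u _ hu => rw [smul_eq_mul, mul_comm, mul_smul]; exact hu (t • y) trivial
        · rintro _ ⟨r, hr, g, y, -, rfl⟩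
          exact Submodule.smul_mem_smul (Ideal.subset_span hr) trivial
      rw [hPs]
      refine isHomogeneous_span 𝒜 X.gr ?_
      rintro _ ⟨r, ⟨e, -, hr⟩, g, y, hy, rfl⟩
      exact ⟨e + g, smul_mem_add 𝒜 X.gr hr hy⟩
    haveI : Module.Finite R P := Module.Finite.iff_fg.2 (IsNoetherian.noetherian _)
    obtain ⟨b, hb⟩ := ih (subMod 𝒜 X.gr P hP) ‹_› fun r hr => smul_sub_eq_zero P fun y hy => by
      refine Submodule.smul_induction_on hy (fun c hc z _ => ?_) fun u v hu hv => by
        rw [smul_add, hu, hv, add_zero]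
      rw [← mul_smul]
      exact h _ (pow_succ (posIdeal 𝒜).toIdeal k ▸ Ideal.mul_mem_mul hr hc) z
    obtain ⟨lo, hi, hgen⟩ := IntGraded.exists_bound_gen (R := R) X.gr
    refine ⟨max b hi, fun n hn x hx => ?_⟩
    have key : ∀ z ∈ Submodule.span R (⋃ m ∈ Set.Icc lo hi, (X.gr m : Set X.carrier)),
        ∀ m, hi < m → proj X.gr m z ∈ P := by
      intro z hz
      induction hz using Submodule.span_induction with
      | mem w hw =>
        obtain ⟨m', hm', hwm⟩ := Set.mem_iUnion₂.1 hw
        exact fun m hm => by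
          rw [proj_of_mem_ne X.gr hwm (by have := hm'.2; omega)]
          exact zero_mem _
      | zero => simp
      | add u v _ _ hu hv => exact fun m hm => by rw [map_add]; exact add_mem (hu m hm) (hv m hm)
      | smul r u _ hu =>
        intro m hm
        induction r using induction_hom 𝒜 with
        | zero => simp
        | hom i r hr =>
          rw [proj_smul_of_mem 𝒜 X.gr hr]
          rcases lt_or_ge 0 i with hi0 | hi0
          · exact Submodule.smul_mem_smul (Ideal.subset_span ⟨i, hi0, hr⟩) trivial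
          · exact P.smul_mem r (hu _ (by omega))
        | add p q hp hq => rw [add_smul, map_add]; exact add_mem hp hq
    have hxP : x ∈ P := by
      rw [← proj_of_mem X.gr hx]
      exact key x (hgen ▸ trivial) n (by omega)
    exact congrArg Subtype.val (hb n (by omega) ⟨x, hxP⟩ hx)

/-- A finitely generated torsion module is killed by a power. -/
theorem exists_pow_kills {M : Type u} [AddCommGroup M] [Module R M] [Module.Finite R M] {a : Ideal R}
    (h : GrLC.gam a M = ⊤) : ∃ k : ℕ, ∀ r ∈ a ^ k, ∀ y : M, r • y = 0 := by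
  classical
  obtain ⟨s, hs⟩ := Module.finite_def.1 ‹Module.Finite R M›
  have hk : ∀ y : M, ∃ k, ∀ r ∈ a ^ k, r • y = 0 := fun y => h.ge (trivial : y ∈ (⊤ : Submodule R M))
  choose k hk using hk
  refine ⟨s.sup k, fun r hr y => ?_⟩
  have hy : y ∈ Submodule.span R (s : Set M) := hs ▸ trivial
  induction hy using Submodule.span_induction with
  | mem z hz => exact hk z r (Ideal.pow_le_pow_right (Finset.le_sup hz) hr)
  | zero => rw [smul_zero]
  | add u v _ _ hu hv => rw [smul_add, hu, hv, add_zero]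
  | smul t u _ hu => rw [smul_comm, hu, smul_zero]

variable {a : HomogeneousIdeal 𝒜}

theorem finite_sub (X : GrLC.GMod.{u} 𝒜) (hX : Module.Finite R X.carrier)
    (P : Submodule R X.carrier) (hP : P.IsHomogeneous X.gr) :
    Module.Finite R (subMod 𝒜 X.gr P hP).carrier :=
  Module.Finite.iff_fg.2 (IsNoetherian.noetherian P)

theorem finite_qMod (X : GrLC.GMod.{u} 𝒜) (hX : Module.Finite R X.carrier)
    (P : Submodule R X.carrier) (hP : P.IsHomogeneous X.gr) :
    Module.Finite R (qMod 𝒜 X.gr P hP).carrier :=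
  Module.Finite.of_surjective P.mkQ P.mkQ_surjective

/-- Induction on finitely generated graded modules: torsion modules, extensions, and multiplication
by homogeneous regular elements of nonnegative degree in `a`. -/
theorem induction (hpos : ∀ n : ℤ, n < 0 → ∀ r ∈ 𝒜 n, r = 0)
    (hQ : (posIdeal 𝒜).toIdeal ≤ a.toIdeal) {C : GrLC.GMod.{u} 𝒜 → Prop}
    (torsion : ∀ X : GrLC.GMod.{u} 𝒜, Module.Finite R X.carrier →
      GrLC.gam a.toIdeal X.carrier = ⊤ → C X)
    (ses : ∀ (X : GrLC.GMod.{u} 𝒜) (P : Submodule R X.carrier) (hP : P.IsHomogeneous X.gr),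
      Module.Finite R X.carrier → C (subMod 𝒜 X.gr P hP) → C (qMod 𝒜 X.gr P hP) → C X)
    (smul : ∀ (X : GrLC.GMod.{u} 𝒜) (k : ℤ) (x : R) (hx : x ∈ 𝒜 k), 0 ≤ k → x ∈ a.toIdeal →
      IsSMulRegular X.carrier x → Module.Finite R X.carrier →
      C (qMod 𝒜 X.gr _ (SmulSeq.isHomogeneous_range_smul (ℳ := X.gr) hx)) → C X)
    (X : GrLC.GMod.{u} 𝒜) (hX : Module.Finite R X.carrier) : C X := by
  suffices H : ∀ (I : Ideal R) (X : GrLC.GMod.{u} 𝒜), Module.Finite R X.carrier →
      (∀ r ∈ I, ∀ y : X.carrier, r • y = 0) → C X from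
    H ⊥ X hX fun r hr y => by rw [(Ideal.mem_bot.1 hr), zero_smul]
  intro I
  induction I using WellFoundedGT.induction with
  | _ I IH =>
  intro X hX hI
  refine ses X _ (Res.isHomogeneous_gam 𝒜 X.gr a) hX (torsion _ (finite_sub X hX _ _) ?_) ?_
  · refine eq_top_iff.2 ?_
    rintro ⟨y, m, hm⟩ -
    exact ⟨m, fun r hr => Subtype.ext (hm r hr)⟩
  suffices H : ∀ Y : GrLC.GMod.{u} 𝒜, Module.Finite R Y.carrier →
      (∀ r ∈ I, ∀ y : Y.carrier, r • y = 0) → GrLC.gam a.toIdeal Y.carrier = ⊥ → C Y from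
    H _ (finite_qMod X hX _ _)
      (fun r hr => smul_mkQ_eq_zero _ fun y => (hI r hr y).symm ▸ zero_mem _)
      (Ass.gam_quot_eq_bot a.toIdeal X.carrier)
  intro Y hY hIY hYa
  -- a homogeneous regular element in `a` reduces to a larger annihilator
  have step : ∀ (Z : GrLC.GMod.{u} 𝒜) (k : ℤ) (x : R) (hx : x ∈ 𝒜 k), 0 ≤ k → x ∈ a.toIdeal →
      IsSMulRegular Z.carrier x → Module.Finite R Z.carrier →
      (∀ r ∈ I, ∀ y : Z.carrier, r • y = 0) → C Z := by
    intro Z k x hx hk hxa hreg hZ hIZ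
    by_cases hxI : x ∈ I
    · have hsub : Subsingleton Z.carrier := subsingleton_of_forall_eq 0 fun y =>
        hreg ((hIZ x hxI y).trans (smul_zero x).symm)
      exact torsion Z hZ (eq_top_iff.2 fun y _ => ⟨0, fun r _ => Subsingleton.elim _ _⟩)
    refine smul Z k x hx hk hxa hreg hZ (IH (I ⊔ Ideal.span {x}) ?_ _ (finite_qMod Z hZ _ _) ?_)
    · exact lt_of_le_not_ge le_sup_left fun hle => hxI (hle (Submodule.mem_sup_right (Ideal.subset_span rfl)))
    · intro r hr y
      obtain ⟨y, rfl⟩ := Submodule.mkQ_surjective _ y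
      obtain ⟨p, hp, q, hq, rfl⟩ := Submodule.mem_sup.1 hr
      obtain ⟨c, rfl⟩ := Ideal.mem_span_singleton'.1 hq
      refine (Submodule.Quotient.mk_eq_zero _).2 ?_
      change (p + c * x) • y ∈ _
      rw [add_smul, hIZ p hp y, zero_add, mul_comm, mul_smul]
      exact ⟨c • y, rfl⟩
  obtain ⟨J, hJ⟩ : ∃ J, J = GrLC.gam (posIdeal 𝒜).toIdeal Y.carrier := ⟨_, rfl⟩
  have hJh : J.IsHomogeneous Y.gr := hJ ▸ Res.isHomogeneous_gam 𝒜 Y.gr (posIdeal 𝒜)
  haveI := hY
  haveI : Module.Finite R J := Module.Finite.iff_fg.2 (IsNoetherian.noetherian _)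
  obtain ⟨k, hk⟩ := exists_pow_kills (a := (posIdeal 𝒜).toIdeal) (M := J) (eq_top_iff.2 (by
    rintro ⟨y, hy⟩ -
    obtain ⟨m, hm⟩ := hJ ▸ hy
    exact ⟨m, fun r hr => Subtype.ext (hm r hr)⟩))
  by_cases hkI : (posIdeal 𝒜).toIdeal ^ k ≤ I
  · -- every associated prime contains the positive part: use a regular element of degree zero
    obtain ⟨x, hx, hxa, hreg⟩ := Avoid.exists_zero_regular (𝒜 := 𝒜) (M := Y.carrier) a.toIdeal
      (fun p hp => by
        have hp' := isAssociatedPrime_iff.1 hp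
        have hQp : (posIdeal 𝒜).toIdeal ≤ p := by
          haveI := hp'.1
          obtain ⟨y, hy⟩ := hp'.2
          intro c hc
          refine Ideal.IsPrime.mem_of_pow_mem ‹_› k ?_
          rw [hy, Submodule.mem_colon_singleton, hIY _ (hkI (Ideal.pow_mem_pow hc k)) y]
          exact zero_mem _
        have hap : ¬ a.toIdeal ≤ p := fun hle => Avoid.gam_ne_bot_of_le_associated hp hle hYa
        obtain ⟨d, c, hc, hca, hcp⟩ := Ass.exists_hom_not_mem_of_not_le 𝒜 a hap
        rcases lt_trichotomy d 0 with h | h | h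
        · exact absurd (hpos d h c hc ▸ zero_mem _) hcp
        · exact ⟨c, h ▸ hc, hca, hcp⟩
        · exact absurd (hQp (Ideal.subset_span ⟨d, h, hc⟩)) hcp)
    exact step Y 0 x hx le_rfl hxa hreg hY hIY
  · refine ses Y J hJh hY ?_ ?_
    · refine IH (I ⊔ (posIdeal 𝒜).toIdeal ^ k)
        (lt_of_le_not_ge le_sup_left fun hle => hkI (le_sup_right.trans hle)) _ ‹Module.Finite R J›
        fun r hr => smul_sub_eq_zero J fun y hy => ?_
      obtain ⟨p, hp, q, hq, rfl⟩ := Submodule.mem_sup.1 hr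
      rw [add_smul, hIY p hp y, show q • y = 0 from congrArg Subtype.val (hk q hq ⟨y, hy⟩), add_zero]
    · obtain ⟨d, hd, x, hx, hxQ, hreg⟩ := Avoid.exists_pos_regular (M := Y.carrier ⧸ J) hpos
        (s := posSet 𝒜) (fun r hr => hr) (by rw [hJ]; exact Ass.gam_quot_eq_bot _ _)
      exact step _ d x hx hd.le (hQ hxQ) hreg (finite_qMod Y hY _ _) fun r hr =>
        smul_mkQ_eq_zero J fun y => (hIY r hr y).symm ▸ zero_mem _

end Groth.Agent.Lib.Graded.FGInduction
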