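import Groth.Agent.Lib.Graded.Dim
import Groth.Agent.Lib.Graded.CMVanish
import Groth.Agent.Lib.Graded.FGInduction
import Groth.Agent.S14424

/-!
# Positively graded rings with a field in degree zero
-/

universe u

set_option maxHeartbeats 600000
set_option linter.unusedSectionVars false

open DirectSum

namespace Groth.Agent.Lib.Graded.FieldDeg0

open Groth.Agent.Lib.Graded.Basic Groth.Agent.Lib.Graded.StarInj

variable {R : Type u} [CommRing R] {𝒜 : ℤ → AddSubgroup R} [GradedRing 𝒜]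
variable {m : HomogeneousIdeal 𝒜} (hpos : ∀ n : ℤ, n < 0 → 𝒜 n = ⊥) (h0 : IsField (GrLC.deg0 𝒜))
  (hmsp : m.toIdeal = Ideal.span (⋃ n ∈ Set.Ioi (0 : ℤ), (𝒜 n : Set R)))

include hpos h0

theorem eq_zero_or_unit {x : R} (hx : x ∈ 𝒜 0) : x = 0 ∨ IsUnit x := by
  refine or_iff_not_imp_left.2 fun hne => ?_
  obtain ⟨⟨y, hy⟩, hxy⟩ := h0.mul_inv_cancel (a := (⟨x, hx⟩ : GrLC.deg0 𝒜)) fun h => hne (congrArg Subtype.val h)
  exact IsUnit.of_mul_eq_one y (congrArg Subtype.val hxy)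

include hmsp

theorem proj_mem_of_ne_zero {i : ℤ} (hi : i ≠ 0) (x : R) : proj 𝒜 i x ∈ m.toIdeal := by
  rcases lt_or_gt_of_ne hi with h | h
  · have := proj_mem 𝒜 i x
    rw [hpos i h, AddSubgroup.mem_bot] at this
    rw [this]
    exact zero_mem _
  · rw [hmsp]
    exact Ideal.subset_span (Set.mem_iUnion₂.2 ⟨i, h, proj_mem 𝒜 i x⟩)

theorem proj_zero_of_mem {x : R} (hx : x ∈ m.toIdeal) : proj 𝒜 0 x = 0 := by
  rw [hmsp] at hx
  induction hx using Submodule.span_induction with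
  | mem r hr =>
    obtain ⟨i, hi, hr⟩ := Set.mem_iUnion₂.1 hr
    exact proj_of_mem_ne 𝒜 hr (ne_of_gt hi)
  | zero => rw [map_zero]
  | add u v _ _ hu hv => rw [map_add, hu, hv, add_zero]
  | smul t u _ hu =>
    rw [smul_eq_mul]
    induction t using induction_hom 𝒜 with
    | zero => rw [zero_mul, map_zero]
    | hom i r hr =>
      rw [Dim.proj_mul_of_left hr]
      rcases lt_trichotomy i 0 with h | rfl | h
      · rw [hpos i h, AddSubgroup.mem_bot] at hr
        rw [hr, zero_mul]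
      · rw [sub_zero, hu, mul_zero]
      · have := proj_mem 𝒜 (0 - i) u
        rw [hpos _ (by omega), AddSubgroup.mem_bot] at this
        rw [this, mul_zero]
    | add p q hp hq => rw [add_mul, map_add, hp, hq, add_zero]

theorem mem_iff {x : R} : x ∈ m.toIdeal ↔ proj 𝒜 0 x = 0 := by
  refine ⟨proj_zero_of_mem hpos h0 hmsp, fun h => ?_⟩
  rw [← sum_proj 𝒜 x]
  refine sum_mem fun i _ => ?_
  rcases eq_or_ne i 0 with rfl | hi
  · rw [h]; exact zero_mem _
  · exact proj_mem_of_ne_zero hpos h0 hmsp hi x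

theorem isMaximal : m.toIdeal.IsMaximal := by
  refine Ideal.isMaximal_iff.2 ⟨fun h => ?_, fun J x hJ hx hxJ => ?_⟩
  · have h2 := (mem_iff hpos h0 hmsp).1 h
    rw [proj_of_mem 𝒜 (SetLike.one_mem_graded 𝒜)] at h2
    haveI := h0.nontrivial
    exact one_ne_zero (α := GrLC.deg0 𝒜) (Subtype.ext h2)
  · have hu : IsUnit (proj 𝒜 0 x) := (eq_zero_or_unit hpos h0 (proj_mem 𝒜 0 x)).resolve_left
      fun h => hx ((mem_iff hpos h0 hmsp).2 h)
    have h1 : x - proj 𝒜 0 x ∈ m.toIdeal := (mem_iff hpos h0 hmsp).2 (by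
      rw [map_sub, proj_of_mem 𝒜 (proj_mem 𝒜 0 x), sub_self])
    have h2 : proj 𝒜 0 x ∈ J := by
      have := J.sub_mem hxJ (hJ h1)
      rwa [sub_sub_cancel] at this
    rw [Ideal.eq_top_of_isUnit_mem _ h2 hu]
    trivial

theorem le_of_ne_top (P : HomogeneousIdeal 𝒜) (hP : P.toIdeal ≠ ⊤) : P.toIdeal ≤ m.toIdeal := fun x hx =>
  (mem_iff hpos h0 hmsp).2 ((eq_zero_or_unit hpos h0 (proj_mem 𝒜 0 x)).resolve_right
    fun hu => hP (Ideal.eq_top_of_isUnit_mem _ (P.isHomogeneous 0 hx) hu))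

theorem ringKrullDim_eq : ringKrullDim R = (m.toIdeal.height : WithBot ℕ∞) :=
  haveI := isMaximal hpos h0 hmsp
  Dim.ringKrullDim_eq_height (le_of_ne_top hpos h0 hmsp)

/-- In the Cohen–Macaulay case the depth is the dimension. -/
theorem idealDepth_eq [IsNoetherianRing R] [LocCoh.IsCohenMacaulayRing R] {n : ℕ} (hn : ringKrullDim R = n) :
    LocCoh.idealDepth m.toIdeal R = n := by
  rw [(Groth.Agent.S14424.result R).1 ‹_› _ (isMaximal hpos h0 hmsp).ne_top]
  have h := (ringKrullDim_eq hpos h0 hmsp).symm.trans hn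
  exact_mod_cast h

end Groth.Agent.Lib.Graded.FieldDeg0
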