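import Groth.Agent.Lib.Graded.StarInj
import Mathlib.RingTheory.Finiteness.Basic
import Mathlib.RingTheory.Noetherian.Basic
import Mathlib.Algebra.Order.Group.Int

/-!
# Integer gradings: bounds on degrees, graded Nakayama, `endDeg`
-/

universe u

set_option linter.unusedSectionVars false

open DirectSum

namespace Groth.Agent.Lib.Graded.IntGraded

open Groth.Agent.Lib.Graded.Basic

variable {R : Type u} [CommRing R] {σ : Type u} [SetLike σ R] [AddSubgroupClass σ R]
variable {𝒜 : ℤ → σ} [GradedRing 𝒜]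
variable {M : Type u} [AddCommGroup M] [Module R M] {τ : Type u} [SetLike τ M] [AddSubgroupClass τ M]
variable {ℳ : ℤ → τ} [DirectSum.Decomposition ℳ] [SetLike.GradedSMul 𝒜 ℳ]

variable (ℳ) in
/-- A finitely generated module is generated by its pieces in a bounded range of degrees. -/
theorem exists_bound_gen [Module.Finite R M] :
    ∃ lo hi : ℤ, Submodule.span R (⋃ n ∈ Set.Icc lo hi, (ℳ n : Set M)) = ⊤ := by
  obtain ⟨s, hs⟩ := (Module.finite_def.1 ‹Module.Finite R M›)
  let T : Finset ℤ := insert 0 (s.biUnion (supp ℳ))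
  have hne : T.Nonempty := Finset.insert_nonempty _ _
  refine ⟨T.min' hne, T.max' hne, eq_top_iff.2 ?_⟩
  rw [← hs, Submodule.span_le]
  intro x hx
  rw [SetLike.mem_coe, ← sum_proj ℳ x]
  refine sum_mem fun g hg => Submodule.subset_span ?_
  have hgT : g ∈ T := Finset.mem_insert_of_mem (Finset.mem_biUnion.2 ⟨x, hx, hg⟩)
  exact Set.mem_iUnion₂.2 ⟨g, ⟨T.min'_le g hgT, T.le_max' g hgT⟩, proj_mem ℳ g x⟩

/-- A finitely generated module over a ring graded in nonnegative degrees is bounded below. -/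
theorem exists_bot (hpos : ∀ n : ℤ, n < 0 → ∀ r ∈ 𝒜 n, r = 0) [Module.Finite R M] :
    ∃ lo : ℤ, ∀ n : ℤ, n < lo → ∀ x ∈ ℳ n, x = 0 := by
  obtain ⟨lo, hi, h⟩ := exists_bound_gen (R := R) ℳ
  refine ⟨lo, fun n hn x hx => ?_⟩
  have key : ∀ y ∈ Submodule.span R (⋃ m ∈ Set.Icc lo hi, (ℳ m : Set M)), ∀ k, k < lo → proj ℳ k y = 0 := by
    intro y hy
    induction hy using Submodule.span_induction with
    | mem z hz =>
      obtain ⟨m, hm, hzm⟩ := Set.mem_iUnion₂.1 hz
      exact fun k hk => proj_of_mem_ne ℳ hzm (by have := hm.1; omega)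
    | zero => simp
    | add u v _ _ hu hv => exact fun k hk => by rw [map_add, hu k hk, hv k hk, add_zero]
    | smul r u _ hu =>
      intro k hk
      induction r using induction_hom 𝒜 with
      | zero => simp
      | hom i r hr =>
        rcases lt_or_ge i 0 with hi0 | hi0
        · rw [hpos i hi0 r hr, zero_smul, map_zero]
        · rw [proj_smul_of_mem 𝒜 ℳ hr, hu _ (by omega), smul_zero]
      | add p q hp hq => rw [add_smul, map_add, hp, hq, add_zero]
  rw [← proj_of_mem ℳ hx]
  exact key x (h ▸ trivial) n hn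

/-- Graded Nakayama: a bounded below module equal to a homogeneous submodule plus `a` times itself,
with `a` spanned by elements of positive degree. -/
theorem eq_top_of_sup_smul_eq_top {lo : ℤ} (hlo : ∀ n : ℤ, n < lo → ∀ x ∈ ℳ n, x = 0)
    {s : Set R} (hs : ∀ r ∈ s, ∃ k : ℤ, 0 < k ∧ r ∈ 𝒜 k) {P : Submodule R M}
    (h : ∀ n, ∀ x ∈ ℳ n, x ∈ P ⊔ Ideal.span s • (⊤ : Submodule R M)) (hP : P.IsHomogeneous ℳ) :
    P = ⊤ := by
  have key : ∀ (k : ℕ) (n : ℤ), n < lo + k → ∀ x ∈ ℳ n, x ∈ P := by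
    intro k
    induction k with
    | zero =>
      intro n hn x hx
      rw [hlo n (by simpa using hn) x hx]
      exact zero_mem _
    | succ k ih =>
      intro n hn x hx
      obtain ⟨p, hp, q, hq, hpq⟩ := Submodule.mem_sup.1 (h n x hx)
      rw [← proj_of_mem ℳ hx, ← hpq, map_add]
      refine add_mem (hP n hp) ?_
      have key2 : ∀ z ∈ Ideal.span s • (⊤ : Submodule R M), ∀ m, m < lo + (k : ℤ) + 1 → proj ℳ m z ∈ P := by
        intro z hz
        refine Submodule.smul_induction_on hz (fun r hr y _ => ?_) (fun u v hu hv m hm => ?_)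
        · induction hr using Submodule.span_induction generalizing y with
          | mem c hc =>
            intro m hm
            obtain ⟨e, he, hce⟩ := hs c hc
            rw [proj_smul_of_mem 𝒜 ℳ hce]
            exact P.smul_mem c (ih _ (by omega) _ (proj_mem ℳ _ y))
          | zero => simp
          | add u v _ _ hu hv =>
            exact fun m hm => by rw [add_smul, map_add]; exact add_mem (hu y trivial m hm) (hv y trivial m hm)
          | smul t u _ hu =>
            exact fun m hm => by rw [smul_eq_mul, mul_comm, mul_smul]; exact hu (t • y) trivial m hm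
        · rw [map_add]
          exact add_mem (hu m hm) (hv m hm)
      exact key2 q hq n (by push_cast at hn; omega)
  refine eq_top_iff.2 (le_of_hom (isHomogeneous_top (ℳ := ℳ)) fun n x hx _ => ?_)
  exact key (n - lo + 1).toNat n (by omega) x hx

section EndDeg

variable {A : Type u} [AddCommGroup A] (𝔸 : ℤ → AddSubgroup A)

theorem le_endDeg {n : ℤ} (h : 𝔸 n ≠ ⊥) :
    ((n : WithTop ℤ) : WithBot (WithTop ℤ)) ≤ GrLC.endDeg 𝔸 :=
  le_iSup₂ (f := fun (m : ℤ) (_ : 𝔸 m ≠ ⊥) => ((m : WithTop ℤ) : WithBot (WithTop ℤ))) n h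

theorem endDeg_le_iff {d : ℤ} :
    GrLC.endDeg 𝔸 ≤ ((d : WithTop ℤ) : WithBot (WithTop ℤ)) ↔ ∀ n : ℤ, d < n → 𝔸 n = ⊥ := by
  rw [GrLC.endDeg, iSup₂_le_iff]
  simp only [WithBot.coe_le_coe, WithTop.coe_le_coe]
  exact ⟨fun h n hn => not_not.1 fun hne => absurd (h n hne) (not_le.2 hn),
    fun h n hne => not_lt.1 fun hn => hne (h n hn)⟩

theorem endDeg_add_le_iff {c d : ℤ} :
    GrLC.endDeg 𝔸 + ((c : WithTop ℤ) : WithBot (WithTop ℤ)) ≤ ((d : WithTop ℤ) : WithBot (WithTop ℤ)) ↔
      ∀ n : ℤ, d < n + c → 𝔸 n = ⊥ := by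
  have key : ∀ x : WithBot (WithTop ℤ), x + ((c : WithTop ℤ) : WithBot (WithTop ℤ)) ≤
      ((d : WithTop ℤ) : WithBot (WithTop ℤ)) ↔ x ≤ (((d - c : ℤ) : WithTop ℤ) : WithBot (WithTop ℤ)) := by
    intro x
    induction x using WithBot.recBotCoe with
    | bot => simp
    | coe y =>
      induction y using WithTop.recTopCoe with
      | top =>
        rw [← WithBot.coe_add, WithTop.top_add, WithBot.coe_le_coe, WithBot.coe_le_coe]
        simp
      | coe z =>
        rw [← WithBot.coe_add, ← WithTop.coe_add, WithBot.coe_le_coe, WithBot.coe_le_coe,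
          WithTop.coe_le_coe, WithTop.coe_le_coe]
        omega
  rw [key, endDeg_le_iff]
  constructor
  · exact fun h n hn => h n (by omega)
  · exact fun h n hn => h n (by omega)

/-- A degree above `endDeg + c` is a vanishing degree. -/
theorem eq_bot_of_lt {c n : ℤ} {b : WithBot (WithTop ℤ)}
    (hb : GrLC.endDeg 𝔸 + ((c : WithTop ℤ) : WithBot (WithTop ℤ)) ≤ b)
    (hn : ¬ ((n : WithTop ℤ) : WithBot (WithTop ℤ)) ≤ b) : 𝔸 (n - c) = ⊥ := by
  by_contra hne
  refine hn (le_trans ?_ hb)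
  calc ((n : WithTop ℤ) : WithBot (WithTop ℤ))
      = (((n - c : ℤ) : WithTop ℤ) : WithBot (WithTop ℤ)) + ((c : WithTop ℤ) : WithBot (WithTop ℤ)) := by
        rw [← WithBot.coe_add, ← WithTop.coe_add, sub_add_cancel]
    _ ≤ _ := add_le_add (le_endDeg 𝔸 hne) le_rfl

end EndDeg

end Groth.Agent.Lib.Graded.IntGraded
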