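import Groth.Agent.Lib.Graded.Ass
import Groth.Agent.Lib.Graded.IntGraded
import Mathlib.RingTheory.Ideal.Operations

/-!
# Homogeneous prime avoidance and existence of homogeneous regular elements
-/

universe u

set_option linter.unusedSectionVars false

open DirectSum

namespace Groth.Agent.Lib.Graded.Avoid

open Groth.Agent.Lib.Graded.Basic

variable {R : Type u} [CommRing R] {σ : Type u} [SetLike σ R] [AddSubgroupClass σ R]
variable {𝒜 : ℤ → σ} [GradedRing 𝒜]

/-- The set of homogeneous elements of an ideal lying outside another. -/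
theorem exists_hom_mem_core_not_mem {p q : Ideal R}
    (h : ¬ (Ideal.homogeneousCore 𝒜 p).toIdeal ≤ q) : ∃ d, ∃ c ∈ 𝒜 d, c ∈ p ∧ c ∉ q := by
  obtain ⟨d, c, hc, hcp, hcq⟩ := Ass.exists_hom_not_mem_of_not_le 𝒜 (Ideal.homogeneousCore 𝒜 p) h
  exact ⟨d, c, hc, Ideal.toIdeal_homogeneousCore_le 𝒜 p hcp, hcq⟩

/-- Homogeneous prime avoidance. -/
theorem exists_pos_hom_not_mem (hpos : ∀ n : ℤ, n < 0 → ∀ r ∈ 𝒜 n, r = 0)
    (a : Ideal R) (S : Finset (Ideal R)) (hprime : ∀ p ∈ S, p.IsPrime)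
    (h : ∀ p ∈ S, ∃ k : ℤ, 0 < k ∧ ∃ r ∈ 𝒜 k, r ∈ a ∧ r ∉ p) :
    ∃ k : ℤ, 0 < k ∧ ∃ r ∈ 𝒜 k, r ∈ a ∧ ∀ p ∈ S, r ∉ p := by
  classical
  induction hS : S.card using Nat.strong_induction_on generalizing S with
  | _ n ih =>
    rcases S.eq_empty_or_nonempty with rfl | hne
    · exact ⟨1, one_pos, 0, zero_mem _, zero_mem _, by simp⟩
    obtain ⟨c, hc, hmin⟩ := (S.image fun p => (Ideal.homogeneousCore 𝒜 p).toIdeal).exists_minimal
      (hne.image _)
    obtain ⟨p₀, hp₀, rfl⟩ := Finset.mem_image.1 hc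
    set c := (Ideal.homogeneousCore 𝒜 p₀).toIdeal with hcdef
    let T := S.filter fun p => ¬ (Ideal.homogeneousCore 𝒜 p).toIdeal = c
    have hTS : T ⊆ S := Finset.filter_subset _ _
    have hp₀T : p₀ ∉ T := fun h' => (Finset.mem_filter.1 h').2 rfl
    have hT : T.card < n := hS ▸ Finset.card_lt_card
      (Finset.ssubset_iff_subset_ne.2 ⟨hTS, fun heq => hp₀T (heq ▸ hp₀)⟩)
    obtain ⟨k, hk, x, hx, hxa, hxT⟩ := ih T.card hT T (fun p hp => hprime p (hTS hp))
      (fun p hp => h p (hTS hp)) rfl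
    have hsame : ∀ p ∈ S, p ∉ T → ∀ (d : ℤ), ∀ r ∈ 𝒜 d, (r ∈ p ↔ r ∈ p₀) := by
      intro p hp hpT d r hr
      have heq : (Ideal.homogeneousCore 𝒜 p).toIdeal = c := by
        by_contra hne'
        exact hpT (Finset.mem_filter.2 ⟨hp, hne'⟩)
      have e1 : ∀ q : Ideal R, r ∈ q ↔ r ∈ (Ideal.homogeneousCore 𝒜 q).toIdeal := fun q =>
        ⟨fun hq => Ideal.mem_homogeneousCore_of_homogeneous_of_mem ⟨d, hr⟩ hq,
          fun hq => Ideal.toIdeal_homogeneousCore_le 𝒜 q hq⟩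
      rw [e1 p, heq, hcdef, ← e1 p₀]
    by_cases hxp : x ∈ p₀
    · obtain ⟨e, he, w, hw, hwa, hwp⟩ := h p₀ hp₀
      have hy : ∀ q ∈ T, ∃ d, ∃ r ∈ 𝒜 d, r ∈ q ∧ r ∉ p₀ := by
        intro q hq
        refine exists_hom_mem_core_not_mem fun hle => (Finset.mem_filter.1 hq).2 ?_
        have hle' : (Ideal.homogeneousCore 𝒜 q).toIdeal ≤ c := by
          intro r hr
          rw [hcdef]
          have hcore := (Ideal.homogeneousCore 𝒜 q).isHomogeneous
          rw [← sum_proj 𝒜 r]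
          exact sum_mem fun i _ => Ideal.mem_homogeneousCore_of_homogeneous_of_mem
            ⟨i, proj_mem 𝒜 i r⟩ (hle (hcore i hr))
        exact le_antisymm hle' (hmin (Finset.mem_image.2 ⟨q, hTS hq, rfl⟩) hle')
      choose dy ry hry hryq hryp using hy
      let y := ∏ q ∈ T.attach, ry q.1 q.2
      have hym : y ∈ 𝒜 (∑ q ∈ T.attach, dy q.1 q.2) :=
        SetLike.prod_mem_graded (A := 𝒜) _ _ fun q _ => hry q.1 q.2
      have hyp : y ∉ p₀ := by
        haveI := hprime p₀ hp₀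
        rw [Ideal.IsPrime.prod_mem_iff]
        exact fun ⟨q, _, hq⟩ => hryp q.1 q.2 hq
      have hyT : ∀ q ∈ T, y ∈ q := fun q hq =>
        Ideal.prod_mem q (Finset.mem_attach T ⟨q, hq⟩) (hryq q hq)
      set f := e + ∑ q ∈ T.attach, dy q.1 q.2 with hf
      have hfpos : 0 < f := by
        refine add_pos_of_pos_of_nonneg he (not_lt.1 fun hlt => hyp ?_)
        rw [hpos _ hlt y hym]
        exact zero_mem _
      have hwy : w * y ∈ 𝒜 f := SetLike.mul_mem_graded hw hym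
      have hxpow : x ^ f.toNat ∈ 𝒜 (f * k) := by
        have := SetLike.pow_mem_graded (A := 𝒜) f.toNat hx
        rwa [nsmul_eq_mul, Int.toNat_of_nonneg hfpos.le] at this
      have hwypow : (w * y) ^ k.toNat ∈ 𝒜 (f * k) := by
        have := SetLike.pow_mem_graded (A := 𝒜) k.toNat hwy
        rwa [nsmul_eq_mul, Int.toNat_of_nonneg hk.le, mul_comm] at this
      refine ⟨f * k, mul_pos hfpos hk, x ^ f.toNat + (w * y) ^ k.toNat, add_mem hxpow hwypow,
        add_mem (Ideal.pow_mem_of_mem a hxa _ (by omega))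
          (Ideal.pow_mem_of_mem a (a.mul_mem_right _ hwa) _ (by omega)), fun p hp => ?_⟩
      haveI := hprime p hp
      by_cases hpT : p ∈ T
      · intro hmem
        refine hxT p hpT (Ideal.IsPrime.mem_of_pow_mem ‹_› f.toNat ?_)
        have hyk : (w * y) ^ k.toNat ∈ p :=
          Ideal.pow_mem_of_mem p (p.mul_mem_left _ (hyT p hpT)) _ (by omega)
        exact (Ideal.add_mem_iff_left p hyk).1 hmem
      · intro hmem
        rw [hsame p hp hpT _ _ (add_mem hxpow hwypow),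
          Ideal.add_mem_iff_right p₀ (Ideal.pow_mem_of_mem p₀ hxp _ (by omega))] at hmem
        haveI := hprime p₀ hp₀
        exact ((Ideal.IsPrime.mem_or_mem ‹_› (Ideal.IsPrime.mem_of_pow_mem ‹_› _ hmem)).elim hwp hyp)
    · refine ⟨k, hk, x, hx, hxa, fun p hp => ?_⟩
      by_cases hpT : p ∈ T
      · exact hxT p hpT
      · exact fun hmem => hxp ((hsame p hp hpT k x hx).1 hmem)

variable [IsNoetherianRing R]
variable {M : Type u} [AddCommGroup M] [Module R M] [Module.Finite R M]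

/-- An ideal contained in an associated prime of a module meets the torsion. -/
theorem gam_ne_bot_of_le_associated {a p : Ideal R} (hp : p ∈ associatedPrimes R M) (hap : a ≤ p) :
    GrLC.gam a M ≠ ⊥ := by
  obtain ⟨hpp, x, hx⟩ := isAssociatedPrime_iff.1 hp
  refine (Submodule.ne_bot_iff _).2 ⟨x, ⟨1, fun r hr => ?_⟩, fun h0 => hpp.ne_top ?_⟩
  · rw [pow_one] at hr
    have := hap hr
    rwa [hx, Submodule.mem_colon_singleton] at this
  · rw [hx, Ideal.eq_top_iff_one, Submodule.mem_colon_singleton, h0, smul_zero]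
    exact zero_mem _

/-- Elements outside all associated primes are regular. -/
theorem isSMulRegular_of_not_mem {r : R} (h : ∀ p ∈ associatedPrimes R M, r ∉ p) : IsSMulRegular M r := by
  refine isSMulRegular_iff_right_eq_zero_of_smul.2 fun x hx => ?_
  by_contra h0
  have hr : r ∈ {r : R | ∃ x : M, x ≠ 0 ∧ r • x = 0} := ⟨x, h0, hx⟩
  rw [← biUnion_associatedPrimes_eq_zero_divisors R M] at hr
  obtain ⟨p, hp, hrp⟩ := Set.mem_iUnion₂.1 hr
  exact h p hp hrp

/-- A module without torsion for an ideal of positive degree elements has a homogeneous regular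
element of positive degree in it. -/
theorem exists_pos_regular (hpos : ∀ n : ℤ, n < 0 → ∀ r ∈ 𝒜 n, r = 0) {s : Set R}
    (hs : ∀ r ∈ s, ∃ k : ℤ, 0 < k ∧ r ∈ 𝒜 k) (h : GrLC.gam (Ideal.span s) M = ⊥) :
    ∃ k : ℤ, 0 < k ∧ ∃ r ∈ 𝒜 k, r ∈ Ideal.span s ∧ IsSMulRegular M r := by
  classical
  have hfin := associatedPrimes.finite R M
  obtain ⟨k, hk, r, hr, hra, hrp⟩ := exists_pos_hom_not_mem hpos (Ideal.span s) hfin.toFinset
    (fun p hp => (hfin.mem_toFinset.1 hp).1) (fun p hp => by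
      by_contra hc
      simp only [not_exists, not_and, not_not] at hc
      refine gam_ne_bot_of_le_associated (hfin.mem_toFinset.1 hp) (Ideal.span_le.2 fun r hr => ?_) h
      obtain ⟨k, hk, hrk⟩ := hs r hr
      exact hc k hk r hrk (Ideal.subset_span hr))
  exact ⟨k, hk, r, hr, hra, isSMulRegular_of_not_mem fun p hp => hrp p (hfin.mem_toFinset.2 hp)⟩

/-- A regular element of degree zero. -/
theorem exists_zero_regular (a : Ideal R)
    (h : ∀ p ∈ associatedPrimes R M, ∃ r ∈ 𝒜 0, r ∈ a ∧ r ∉ p) :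
    ∃ r ∈ 𝒜 0, r ∈ a ∧ IsSMulRegular M r := by
  classical
  have hfin := associatedPrimes.finite R M
  let c : Ideal R → Ideal (GrLC.deg0 𝒜) := Ideal.comap (GrLC.deg0 𝒜).subtype
  have hnle : ¬ ((c a : Set (GrLC.deg0 𝒜)) ⊆ ⋃ p ∈ (↑hfin.toFinset : Set (Ideal R)), ↑(c p)) := by
    intro hle
    obtain ⟨p, hp, hle'⟩ := (Ideal.subset_union_prime (f := c) ⊥ ⊥ fun p hp _ _ => by
      haveI := (hfin.mem_toFinset.1 hp).1
      exact Ideal.IsPrime.comap _).1 hle
    obtain ⟨r, hr, hra, hrp⟩ := h p (hfin.mem_toFinset.1 hp)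
    exact hrp (hle' (show (⟨r, hr⟩ : GrLC.deg0 𝒜) ∈ c a from hra))
  obtain ⟨r, hra, hr⟩ := Set.not_subset.1 hnle
  exact ⟨r, r.2, hra, isSMulRegular_of_not_mem fun p hp hrp =>
    hr (Set.mem_iUnion₂.2 ⟨p, hfin.mem_toFinset.2 hp, hrp⟩)⟩

end Groth.Agent.Lib.Graded.Avoid
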