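import Groth.Agent.Lib.Graded.SmulSeq
import Groth.Agent.Lib.Graded.IntGraded
import Mathlib.RingTheory.Regular.RegularSequence

/-!
# Top degrees of local cohomology modulo a homogeneous regular sequence
-/

universe u

set_option maxHeartbeats 600000
set_option linter.unusedSectionVars false

open DirectSum

namespace Groth.Agent.Lib.Graded.RegDeg

open Groth.Agent.Lib.Graded.Basic Groth.Agent.Lib.Graded.StarInj Groth.Agent.Lib.Graded.Van

variable {R : Type u} [CommRing R] {σ : Type u} [SetLike σ R] [AddSubgroupClass σ R]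
variable {𝒜 : ℤ → σ} [GradedRing 𝒜] {a : HomogeneousIdeal 𝒜}
variable {X Y : GrLC.GMod.{u} 𝒜} {x : R} {k : ℤ} {π : X.carrier →ₗ[R] Y.carrier}

section One

variable (hx : x ∈ 𝒜 k) (hreg : IsSMulRegular X.carrier x) (hπ : GrLC.IsGrHom X.gr Y.gr π)
  (hsurj : Function.Surjective π)
  (hker : LinearMap.ker π = LinearMap.range (x • (LinearMap.id : X.carrier →ₗ[R] X.carrier)))

include hx hreg hπ hsurj hker

theorem V_quot {i : ℕ} {g : ℤ} (h : V a X i g) (h' : V a X (i + 1) (g - k)) : V a Y i g :=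
  V_right (SmulSeq.ses_smul hx hreg hπ hsurj hker) h
    ((V_shift_iff (X := X) (-k)).2 (by rwa [← sub_eq_add_neg]))

theorem V_of_quot (hk : 0 ≤ k) (hxa : x ∈ a.toIdeal) {i : ℕ} {r : ℤ}
    (hY : ∀ g, r < g → V a Y i g) (g : ℤ) (hg : r < g + k) : V a X (i + 1) g := by
  intro E
  obtain ⟨F⟩ := Res.nonempty_starInjRes 𝒜 Y.gr
  obtain ⟨-, δ, -, hδ, -, -, hker', -⟩ := SmulSeq.exists_seq a hx hreg hπ hsurj hker E F
  letI := Res.hgrDecomp F a i
  letI := Res.hgrDecomp E a (i + 1)
  haveI := Res.hgrGSMul E a (i + 1)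
  have key : ∀ g, r < g + k → ∀ z ∈ E.Hgr a (i + 1) g, x • z = 0 → z = 0 := by
    intro g hg z hz hxz
    obtain ⟨w, hw⟩ := (hker' i z).1 hxz
    have h1 := map_proj_deg (hδ i) (g + k) w
    rw [hw, show g + k + -k = g by ring, proj_of_mem _ hz] at h1
    have h2 : proj (F.Hgr a i) (g + k) w = 0 := by
      have h3 := proj_mem (F.Hgr a i) (g + k) w
      rwa [hY _ hg F, AddSubgroup.mem_bot] at h3
    rw [h2, map_zero] at h1
    exact h1.symm
  have key2 : ∀ (m : ℕ) (g : ℤ), r < g + k → ∀ z ∈ E.Hgr a (i + 1) g, x ^ m • z = 0 → z = 0 := by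
    intro m
    induction m with
    | zero => intro g _ z _ h; rwa [pow_zero, one_smul] at h
    | succ m ih =>
      intro g hg z hz h
      refine key g hg z hz (ih (k + g) (by omega) (x • z) (smul_mem_add 𝒜 _ hx hz) ?_)
      rwa [← mul_smul, ← pow_succ]
  refine (AddSubgroup.eq_bot_iff_forall _).2 fun z hz => ?_
  obtain ⟨m, hm⟩ : z ∈ GrLC.gam a.toIdeal (E.H a (i + 1)) :=
    (SmulSeq.gam_H_eq_top a E (i + 1)).ge trivial
  exact key2 m g hg z hz (hm _ (Ideal.pow_mem_pow hxa m))

/-- Modulo a regular element the top degree goes up by its degree. -/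
theorem endLE_quot_iff (hk : 0 ≤ k) (hxa : x ∈ a.toIdeal) {i : ℕ} (hlow : ∀ g, V a X i g) (r : ℤ) :
    (∀ g, r < g → V a Y i g) ↔ ∀ g, r < g + k → V a X (i + 1) g :=
  ⟨fun h g hg => V_of_quot hx hreg hπ hsurj hker hk hxa h g hg,
    fun h g hg => V_quot hx hreg hπ hsurj hker (hlow g) (h _ (by omega))⟩

end One

theorem range_smul_id (x : R) (M : Type u) [AddCommGroup M] [Module R M] :
    LinearMap.range (x • (LinearMap.id : M →ₗ[R] M)) = Ideal.span {x} • (⊤ : Submodule R M) := by
  ext y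
  rw [Submodule.ideal_span_singleton_smul, Submodule.mem_smul_pointwise_iff_exists, LinearMap.mem_range]
  simp

/-- Modulo a regular sequence. -/
theorem endLE_seq_iff : ∀ {t : ℕ} (f : Fin t → R) (deg : Fin t → ℤ) (X Y : GrLC.GMod.{u} 𝒜)
    (π : X.carrier →ₗ[R] Y.carrier), (∀ j, f j ∈ 𝒜 (deg j)) → (∀ j, 0 ≤ deg j) →
    (∀ j, f j ∈ a.toIdeal) → RingTheory.Sequence.IsWeaklyRegular X.carrier (List.ofFn f) →
    GrLC.IsGrHom X.gr Y.gr π → Function.Surjective π →
    LinearMap.ker π = Ideal.span (Set.range f) • (⊤ : Submodule R X.carrier) →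
    ∀ (n : ℕ), t ≤ n → (∀ i < n, ∀ g, V a X i g) →
    (∀ i < n - t, ∀ g, V a Y i g) ∧ ∀ r : ℤ, ((∀ g, r < g → V a Y (n - t) g) ↔
      ∀ g, r < g + ∑ j, deg j → V a X n g) := by
  intro t
  induction t with
  | zero =>
    intro f deg X Y π _ _ _ _ hπ hsurj hker n _ hlow
    have hinj : Function.Injective π := by
      rw [← LinearMap.ker_eq_bot, hker, Set.range_eq_empty, Ideal.span_empty, Submodule.bot_smul]
    let e := LinearEquiv.ofBijective π ⟨hinj, hsurj⟩
    have hiff : ∀ i g, V a Y i g ↔ V a X i g := fun i g =>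
      ⟨V_congr e.symm (isGrHom_symm (e := e) hπ), V_congr e hπ⟩
    refine ⟨fun i hi g => (hiff i g).2 (hlow i hi g), fun r => ?_⟩
    simp only [Finset.univ_eq_empty, Finset.sum_empty, add_zero, Nat.sub_zero, hiff]
  | succ t ih =>
    intro f deg X Y π hf hd hfa hreg hπ hsurj hker n hn hlow
    rw [List.ofFn_succ, RingTheory.Sequence.isWeaklyRegular_cons_iff] at hreg
    obtain ⟨hreg0, hregt⟩ := hreg
    let P := LinearMap.range (f 0 • (LinearMap.id : X.carrier →ₗ[R] X.carrier))
    have hP : P.IsHomogeneous X.gr := SmulSeq.isHomogeneous_range_smul (hf 0)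
    have hPe : P = Ideal.span {f 0} • (⊤ : Submodule R X.carrier) := range_smul_id _ _
    have hPker : P ≤ LinearMap.ker π := by
      rw [hker, hPe]
      exact Submodule.smul_mono_left (Ideal.span_mono (by simp))
    have hregt' : RingTheory.Sequence.IsWeaklyRegular (qMod 𝒜 X.gr P hP).carrier
        (List.ofFn fun j : Fin t => f j.succ) :=
      (LinearEquiv.isWeaklyRegular_congr (Submodule.quotEquivOfEq _ P
        (by rw [hPe, Submodule.ideal_span_singleton_smul])) _).1 hregt
    have hkerq : LinearMap.ker (P.liftQ π hPker) =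
        Ideal.span (Set.range fun j : Fin t => f j.succ) • (⊤ : Submodule R (X.carrier ⧸ P)) := by
      rw [Submodule.ker_liftQ, hker,
        show Set.range f = insert (f 0) (Set.range fun j : Fin t => f j.succ) by
          ext y
          simp [Fin.exists_fin_succ, eq_comm],
        Ideal.span_insert, Submodule.sup_smul, Submodule.map_sup, ← hPe, Submodule.mkQ_map_self,
        bot_sup_eq, Submodule.map_smul'', Submodule.map_top, Submodule.range_mkQ]
    have hπq : GrLC.IsGrHom (qMod 𝒜 X.gr P hP).gr Y.gr (P.liftQ π hPker) := by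
      rintro g _ ⟨y, hy, rfl⟩
      exact hπ g y hy
    have hq : GrLC.IsGrHom X.gr (qMod 𝒜 X.gr P hP).gr P.mkQ := (ses_quot X P hP).grHom_π
    have hlowq : ∀ i < n - 1, ∀ g, V a (qMod 𝒜 X.gr P hP) i g := fun i hi g =>
      V_quot (hf 0) hreg0 hq P.mkQ_surjective P.ker_mkQ (hlow i (by omega) g) (hlow (i + 1) (by omega) _)
    obtain ⟨h1, h2⟩ := ih (fun j => f j.succ) (fun j => deg j.succ) (qMod 𝒜 X.gr P hP) Y (P.liftQ π hPker)
      (fun j => hf j.succ) (fun j => hd j.succ) (fun j => hfa j.succ) hregt' hπq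
      (fun y => by
        obtain ⟨z, hz⟩ := hsurj y
        exact ⟨P.mkQ z, hz⟩)
      hkerq (n - 1) (by omega) hlowq
    obtain ⟨m, rfl⟩ : ∃ m, n = m + 1 := ⟨n - 1, by omega⟩
    rw [Nat.add_sub_cancel] at h1 h2 hlowq
    rw [Nat.add_sub_add_right]
    refine ⟨h1, fun r => ?_⟩
    rw [h2 r, Fin.sum_univ_succ]
    have h3 := endLE_quot_iff (a := a) (Y := qMod 𝒜 X.gr P hP) (hf 0) hreg0 hq P.mkQ_surjective P.ker_mkQ
      (hd 0) (hfa 0) (hlow m (by omega)) (r - ∑ j : Fin t, deg j.succ)
    constructor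
    · exact fun h g hg => h3.1 (fun g' hg' => h g' (by omega)) g (by omega)
    · exact fun h g hg => h3.2 (fun g' hg' => h g' (by omega)) g (by omega)

section EndDeg

variable {A B : Type u} [AddCommGroup A] [AddCommGroup B]

theorem eq_of_forall_le_int {x y : WithBot (WithTop ℤ)}
    (h : ∀ r : ℤ, x ≤ ((r : WithTop ℤ) : WithBot (WithTop ℤ)) ↔ y ≤ ((r : WithTop ℤ) : WithBot (WithTop ℤ))) :
    x = y := by
  have key : ∀ x y : WithBot (WithTop ℤ),
      (∀ r : ℤ, y ≤ ((r : WithTop ℤ) : WithBot (WithTop ℤ)) → x ≤ ((r : WithTop ℤ) : WithBot (WithTop ℤ))) →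
      x ≤ y := by
    intro x y h
    induction y using WithBot.recBotCoe with
    | bot =>
      induction x using WithBot.recBotCoe with
      | bot => exact le_rfl
      | coe x =>
        induction x using WithTop.recTopCoe with
        | top => exact absurd (top_le_iff.1 (WithBot.coe_le_coe.1 (h 0 bot_le))) WithTop.coe_ne_top
        | coe z =>
          have := h (z - 1) bot_le
          simp only [WithBot.coe_le_coe, WithTop.coe_le_coe] at this
          omega
    | coe y =>
      induction y using WithTop.recTopCoe with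
      | top =>
        induction x using WithBot.recBotCoe with
        | bot => exact bot_le
        | coe x => exact WithBot.coe_le_coe.2 le_top
      | coe z => exact h z le_rfl
  exact le_antisymm (key x y fun r => (h r).2) (key y x fun r => (h r).1)

/-- Comparison of top degrees. -/
theorem endDeg_eq_add {𝔸 : ℤ → AddSubgroup A} {𝔹 : ℤ → AddSubgroup B} {c : ℤ}
    (h : ∀ r : ℤ, (∀ g, r < g → 𝔸 g = ⊥) ↔ ∀ g, r < g + c → 𝔹 g = ⊥) :
    GrLC.endDeg 𝔸 = GrLC.endDeg 𝔹 + ((c : WithTop ℤ) : WithBot (WithTop ℤ)) := by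
  refine eq_of_forall_le_int fun r => ?_
  rw [IntGraded.endDeg_le_iff, IntGraded.endDeg_add_le_iff]
  exact h r

end EndDeg

end Groth.Agent.Lib.Graded.RegDeg
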