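import Groth.Agent.Lib.Graded.Dual0

/-!
# The pairing of a graded module with its *dual
-/

universe u

set_option maxHeartbeats 800000
set_option linter.unusedSectionVars false

open DirectSum

namespace Groth.Agent.Lib.Graded.Dual1

open Groth.Agent.Lib.Graded.Basic Groth.Agent.Lib.Graded.StarInj

variable {R : Type u} [CommRing R] {𝒜 : ℤ → AddSubgroup R} [GradedRing 𝒜] {m : HomogeneousIdeal 𝒜}
variable {E' : Type u} [AddCommGroup E'] [Module R E'] {𝓔 : ℤ → AddSubgroup E'} [DirectSum.Decomposition 𝓔]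
  [SetLike.GradedSMul 𝒜 𝓔]
variable {e : (R ⧸ m.toIdeal) →ₗ[R] E'}
variable {C : Type u} [AddCommGroup C] [Module R C] {𝒞 : ℤ → AddSubgroup C} [DirectSum.Decomposition 𝒞]
  [SetLike.GradedSMul 𝒜 𝒞]
variable (hpos : ∀ n : ℤ, n < 0 → 𝒜 n = ⊥) (h0 : IsField (GrLC.deg0 𝒜))
  (hmsp : m.toIdeal = Ideal.span (⋃ n ∈ Set.Ioi (0 : ℤ), (𝒜 n : Set R)))
  (he : GrLC.IsStarInjHull 𝒜 (GrLC.quotGr 𝒜 m) 𝓔 e)

include hpos h0 hmsp he

/-- The coefficient of the socle generator in the component of degree zero. -/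
noncomputable def coef : E' →ₗ[GrLC.deg0 𝒜] GrLC.deg0 𝒜 :=
  (Dual0.line hpos h0 hmsp he.toIsStarEss).symm.toLinearMap ∘ₗ
    { toFun := fun x => ⟨proj 𝓔 0 x, proj_mem 𝓔 0 x⟩
      map_add' := fun x y => Subtype.ext (map_add _ x y)
      map_smul' := fun c x => Subtype.ext (by
        change proj 𝓔 0 ((c : R) • x) = (c : R) • proj 𝓔 0 x
        rw [proj_smul_of_mem 𝒜 𝓔 (show (c : R) ∈ 𝒜 0 from c.2), sub_zero]) }

theorem coef_of_ne {g : ℤ} (hg : g ≠ 0) {x : E'} (hx : x ∈ 𝓔 g) : coef hpos h0 hmsp he x = 0 := by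
  change (Dual0.line hpos h0 hmsp he.toIsStarEss).symm ⟨proj 𝓔 0 x, _⟩ = 0
  rw [LinearEquiv.map_eq_zero_iff]
  exact Subtype.ext (proj_of_mem_ne 𝓔 hx hg)

theorem coef_form {d : ℤ} (f : GrLC.homDeg 𝒜 𝒞 𝓔 d) (x : GrLC.comp 𝒜 𝒞 (-d)) :
    coef hpos h0 hmsp he (f.1 x) = Dual0.form hpos h0 hmsp he.toIsStarEss d f x := by
  refine congrArg (Dual0.line hpos h0 hmsp he.toIsStarEss).symm (Subtype.ext ?_)
  have h1 := f.2 (-d) x x.2
  rw [neg_add_cancel] at h1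
  exact proj_of_mem 𝓔 h1

theorem coef_apply_eq_zero {d g : ℤ} {f : C →ₗ[R] E'} (hf : f ∈ GrLC.homDeg 𝒜 𝒞 𝓔 d) {x : C} (hx : x ∈ 𝒞 g)
    (hne : g + d ≠ 0) : coef hpos h0 hmsp he (f x) = 0 :=
  coef_of_ne hpos h0 hmsp he hne (hf g x hx)

variable (𝒞) in
include 𝒞 in
/-- The pairing separates the points. -/
theorem eq_zero_of_forall {x : C} (hx : ∀ f : C →ₗ[R] E', coef hpos h0 hmsp he (f x) = 0) : x = 0 := by
  letI : Field (GrLC.deg0 𝒜) := h0.toField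
  refine eq_zero_of_proj 𝒞 fun g => ?_
  obtain ⟨d, rfl⟩ : ∃ d, g = -d := ⟨-g, (neg_neg g).symm⟩
  have h1 : (⟨proj 𝒞 (-d) x, proj_mem 𝒞 (-d) x⟩ : GrLC.comp 𝒜 𝒞 (-d)) = 0 := by
    refine (Module.forall_dual_apply_eq_zero_iff (GrLC.deg0 𝒜) _).1 fun l => ?_
    obtain ⟨f, rfl⟩ := Dual0.form_surjective (𝒞 := 𝒞) hpos h0 hmsp he d l
    rw [← coef_form hpos h0 hmsp he f]
    have h3 := hx f.1
    change coef hpos h0 hmsp he (f.1 (proj 𝒞 (-d) x)) = 0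
    rw [map_proj_deg f.2, neg_add_cancel]
    refine Eq.trans ?_ h3
    exact congrArg (Dual0.line hpos h0 hmsp he.toIsStarEss).symm
      (Subtype.ext (proj_of_mem 𝓔 (proj_mem 𝓔 0 (f.1 x))))
  exact congrArg Subtype.val h1

variable [IsNoetherianRing R] [Module.Finite R C]

/-- A functional on the *dual concentrated in one degree is evaluation at an element. -/
theorem exists_rep {j : ℤ} (Φ : (C →ₗ[R] E') →ₗ[GrLC.deg0 𝒜] GrLC.deg0 𝒜)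
    (hΦ : ∀ d, d ≠ -j → ∀ f ∈ GrLC.homDeg 𝒜 𝒞 𝓔 d, Φ f = 0) :
    ∃ c ∈ 𝒞 j, ∀ f, coef hpos h0 hmsp he (f c) = Φ f := by
  classical
  letI : Field (GrLC.deg0 𝒜) := h0.toField
  obtain ⟨d₀, rfl⟩ : ∃ d, j = -d := ⟨-j, (neg_neg j).symm⟩
  haveI : IsNoetherian (GrLC.deg0 𝒜) (GrLC.comp 𝒜 𝒞 (-d₀)) := Pieces.isNoetherian_comp 𝒜 𝒞 (-d₀)
  let e₁ := Dual0.equiv (𝒞 := 𝒞) hpos h0 hmsp he d₀
  obtain ⟨c, hc⟩ := (Module.evalEquiv (GrLC.deg0 𝒜) (GrLC.comp 𝒜 𝒞 (-d₀))).surjective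
    ((Φ ∘ₗ (GrLC.homDeg 𝒜 𝒞 𝓔 d₀).subtype) ∘ₗ e₁.symm.toLinearMap)
  refine ⟨c.1, c.2, fun f => ?_⟩
  obtain ⟨D, k, hk, rfl⟩ := Dual0.exists_sum_components (𝒜 := 𝒜) (𝒞 := 𝒞) (𝓔 := 𝓔) f
  simp only [LinearMap.sum_apply, map_sum]
  refine Finset.sum_congr rfl fun d _ => ?_
  by_cases hd : d = d₀
  · subst hd
    rw [coef_form hpos h0 hmsp he ⟨k d, hk d⟩]
    have h2 := LinearMap.congr_fun hc (e₁ ⟨k d, hk d⟩)
    rw [Module.evalEquiv_apply, LinearMap.comp_apply, LinearMap.comp_apply, Module.Dual.eval_apply] at h2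
    refine h2.trans ?_
    change Φ (e₁.symm (e₁ ⟨k d, hk d⟩)).1 = Φ (k d)
    rw [LinearEquiv.symm_apply_apply]
  · rw [coef_apply_eq_zero hpos h0 hmsp he (hk d) c.2 (by omega), hΦ d (by omega) _ (hk d)]

omit hpos h0 hmsp he

/-- The inverse of the isomorphism of a *canonical module keeps degrees. -/
theorem symm_mem {n : ℕ} {I : GrLC.StarInjRes 𝒜 𝒜} (φ : (C →ₗ[R] E') ≃ₗ[R] I.H m n)
    (hφ : GrLC.IsGrHom (fun d => (GrLC.homDeg 𝒜 𝒞 𝓔 d).toAddSubgroup) (I.Hgr m n) φ.toLinearMap)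
    {d : ℤ} {y : I.H m n} (hy : y ∈ I.Hgr m n d) : φ.symm y ∈ GrLC.homDeg 𝒜 𝒞 𝓔 d := by
  classical
  obtain ⟨D, c, hc, hsum⟩ := Dual0.exists_sum_components (𝒜 := 𝒜) (𝒞 := 𝒞) (𝓔 := 𝓔) (φ.symm y)
  letI := Res.hgrDecomp I m n
  have h1 : y = ∑ i ∈ D, φ (c i) := by rw [← map_sum, ← hsum, LinearEquiv.apply_symm_apply]
  have h2 := congrArg (proj (I.Hgr m n) d) h1
  rw [proj_of_mem (I.Hgr m n) hy, map_sum, Finset.sum_congr rfl fun i _ =>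
    (show proj (I.Hgr m n) d (φ (c i)) = if d = i then φ (c i) else 0 by
      split_ifs with hi
      · subst hi; exact proj_of_mem (I.Hgr m n) (hφ d _ (hc d))
      · exact proj_of_mem_ne (I.Hgr m n) (hφ i _ (hc i)) (Ne.symm hi)), Finset.sum_ite_eq] at h2
  rw [h2]
  split_ifs
  · rw [LinearEquiv.symm_apply_apply]; exact hc d
  · rw [map_zero]; exact zero_mem _

end Groth.Agent.Lib.Graded.Dual1
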