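import Groth.Agent.Lib.Graded.Basic
import Mathlib.RingTheory.Noetherian.Basic
import Mathlib.RingTheory.Artinian.Module

/-!
# Pieces as modules over the degree zero subring
-/

universe u

set_option linter.unusedSectionVars false

open DirectSum

namespace Groth.Agent.Lib.Graded.Pieces

open Groth.Agent.Lib.Graded.Basic

variable {ι : Type} [AddCommGroup ι] [DecidableEq ι]
variable {R : Type u} [CommRing R] {σ : Type u} [SetLike σ R] [AddSubgroupClass σ R]
variable (𝒜 : ι → σ) [GradedRing 𝒜]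
variable {M : Type u} [AddCommGroup M] [Module R M] {τ : Type u} [SetLike τ M] [AddSubgroupClass τ M]
variable (ℳ : ι → τ) [SetLike.GradedSMul 𝒜 ℳ]

/-- An `R_0`-submodule of a piece is recovered from the submodule it spans. -/
theorem span_inter_comp [DirectSum.Decomposition ℳ] {g : ι}
    (N : Submodule (GrLC.deg0 𝒜) (GrLC.comp 𝒜 ℳ g)) (x : GrLC.comp 𝒜 ℳ g)
    (hx : (x : M) ∈ Submodule.span R (Subtype.val '' (N : Set (GrLC.comp 𝒜 ℳ g)))) : x ∈ N := by
  have key : ∀ y ∈ Submodule.span R (Subtype.val '' (N : Set (GrLC.comp 𝒜 ℳ g))), ∀ s : R,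
      proj ℳ g (s • y) ∈ N.map (GrLC.comp 𝒜 ℳ g).subtype := by
    intro y hy
    induction hy using Submodule.span_induction with
    | mem z hz =>
      obtain ⟨w, hw, rfl⟩ := hz
      intro s
      rw [proj_smul_mem 𝒜 ℳ (show (w : M) ∈ ℳ g from w.2), sub_self]
      exact Submodule.smul_mem _ (⟨_, proj_mem 𝒜 0 s⟩ : GrLC.deg0 𝒜) ⟨w, hw, rfl⟩
    | zero => simp
    | add u v _ _ hu hv => exact fun s => by rw [smul_add, map_add]; exact add_mem (hu s) (hv s)
    | smul r u _ hu => exact fun s => by rw [← mul_smul]; exact hu (s * r)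
  obtain ⟨w, hw, hwx⟩ := key x hx 1
  rw [one_smul, proj_of_mem ℳ (show (x : M) ∈ ℳ g from x.2)] at hwx
  rwa [← Subtype.ext hwx]

/-- The pieces of a Noetherian module are Noetherian over the degree zero subring. -/
theorem isNoetherian_comp [DirectSum.Decomposition ℳ] [IsNoetherian R M] (g : ι) :
    IsNoetherian (GrLC.deg0 𝒜) (GrLC.comp 𝒜 ℳ g) := by
  rw [isNoetherian_iff']
  let F : Submodule (GrLC.deg0 𝒜) (GrLC.comp 𝒜 ℳ g) → Submodule R M :=
    fun N => Submodule.span R (Subtype.val '' (N : Set (GrLC.comp 𝒜 ℳ g)))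
  have hmono : StrictMono F := by
    refine Monotone.strictMono_of_injective (fun N N' h => Submodule.span_mono (Set.image_mono h))
      fun N N' h => ?_
    ext x
    constructor
    · intro hx
      refine span_inter_comp 𝒜 ℳ N' x ?_
      rw [show Submodule.span R (Subtype.val '' (N' : Set (GrLC.comp 𝒜 ℳ g))) = F N from h.symm]
      exact Submodule.subset_span ⟨x, hx, rfl⟩
    · intro hx
      refine span_inter_comp 𝒜 ℳ N x ?_
      rw [show Submodule.span R (Subtype.val '' (N : Set (GrLC.comp 𝒜 ℳ g))) = F N' from h]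
      exact Submodule.subset_span ⟨x, hx, rfl⟩
  exact StrictMono.wellFoundedGT hmono

theorem isNoetherianRing_deg0 [IsNoetherianRing R] : IsNoetherianRing (GrLC.deg0 𝒜) := by
  haveI := isNoetherian_comp 𝒜 𝒜 (0 : ι) (M := R)
  let e : GrLC.comp 𝒜 𝒜 (0 : ι) ≃ₗ[GrLC.deg0 𝒜] GrLC.deg0 𝒜 :=
    { toFun := fun x => ⟨x.1, x.2⟩
      invFun := fun x => ⟨x.1, x.2⟩
      map_add' := fun _ _ => rfl
      map_smul' := fun _ _ => rfl }
  exact isNoetherian_of_linearEquiv e

section Restrict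

variable {N : Type u} [AddCommGroup N] [Module R N] {τ' : Type u} [SetLike τ' N] [AddSubgroupClass τ' N]
variable (𝒩 : ι → τ') [SetLike.GradedSMul 𝒜 𝒩]

/-- A homogeneous map restricted to pieces, linear over the degree zero subring. -/
def restr (f : M →ₗ[R] N) {d e : ι} (h : ∀ x ∈ ℳ d, f x ∈ 𝒩 e) :
    GrLC.comp 𝒜 ℳ d →ₗ[GrLC.deg0 𝒜] GrLC.comp 𝒜 𝒩 e :=
  (f.restrictScalars (GrLC.deg0 𝒜)).restrict h

theorem restr_apply (f : M →ₗ[R] N) {d e : ι} (h : ∀ x ∈ ℳ d, f x ∈ 𝒩 e)
    (x : GrLC.comp 𝒜 ℳ d) : (restr 𝒜 ℳ 𝒩 f h x : N) = f x := rfl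

end Restrict

end Groth.Agent.Lib.Graded.Pieces
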