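import Groth.Agent.Lib.Graded.FGInduction
import Groth.Agent.Lib.Graded.Pieces

/-!
# Vanishing in large degrees and finiteness of the pieces of graded local cohomology
-/

universe u

set_option linter.unusedSectionVars false

open DirectSum

namespace Groth.Agent.Lib.Graded.Finiteness

open Groth.Agent.Lib.Graded.Basic Groth.Agent.Lib.Graded.StarInj Groth.Agent.Lib.Graded.Van
open Groth.Agent.Lib.Graded.FGInduction

variable {R : Type u} [CommRing R] [IsNoetherianRing R] {σ : Type u} [SetLike σ R] [AddSubgroupClass σ R]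
variable {𝒜 : ℤ → σ} [GradedRing 𝒜] {a : HomogeneousIdeal 𝒜}

theorem gam_eq_bot_of_regular {M : Type u} [AddCommGroup M] [Module R M] {I : Ideal R} {x : R}
    (hx : x ∈ I) (hreg : IsSMulRegular M x) : GrLC.gam I M = ⊥ := by
  refine (Submodule.eq_bot_iff _).2 fun y hy => ?_
  obtain ⟨m, hm⟩ := hy
  exact (hreg.pow m).right_eq_zero_of_smul (hm _ (Ideal.pow_mem_pow hx m))

/-- A degree-respecting preimage. -/
theorem exists_hom_preimage_deg {A B : Type u} [AddCommGroup A] [Module R A] [AddCommGroup B] [Module R B]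
    {𝔸 : ℤ → AddSubgroup A} [DirectSum.Decomposition 𝔸] {𝔹 : ℤ → AddSubgroup B}
    [DirectSum.Decomposition 𝔹] {f : A →ₗ[R] B} {c : ℤ} (hf : GrLC.IsGrHomDeg 𝔸 𝔹 f c) {d : ℤ} {y : B}
    (hy : y ∈ 𝔹 d) (h : ∃ z, f z = y) : ∃ z ∈ 𝔸 (d - c), f z = y := by
  obtain ⟨z, rfl⟩ := h
  exact ⟨proj 𝔸 (d - c) z, proj_mem 𝔸 _ z, by
    rw [map_proj_deg hf, sub_add_cancel, proj_of_mem 𝔹 hy]⟩

/-- Eventual vanishing of all the graded local cohomology modules, uniformly in the index. -/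
theorem exists_V_of_le (hpos : ∀ n : ℤ, n < 0 → ∀ r ∈ 𝒜 n, r = 0)
    (hQ : (posIdeal 𝒜).toIdeal ≤ a.toIdeal) (X : GrLC.GMod.{u} 𝒜) (hX : Module.Finite R X.carrier) :
    ∃ r : ℤ, ∀ (i : ℕ) (n : ℤ), r ≤ n → V a X i n := by
  refine FGInduction.induction (C := fun X => ∃ r : ℤ, ∀ (i : ℕ) (n : ℤ), r ≤ n → V a X i n)
    hpos hQ ?_ ?_ ?_ X hX
  · intro X hX htors
    obtain ⟨k, hk⟩ := exists_pow_kills htors
    obtain ⟨b, hb⟩ := bdd_of_pow_kills k X hX fun r hr => hk r (Ideal.pow_right_mono hQ k hr)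
    refine ⟨b + 1, fun i n hn => ?_⟩
    rcases Nat.eq_zero_or_pos i with rfl | hi
    · exact V_zero_iff.2 fun x hx _ => hb n (by omega) x hx
    · exact V_torsion htors hi
  · rintro X P hP - ⟨r₁, h₁⟩ ⟨r₂, h₂⟩
    exact ⟨max r₁ r₂, fun i n hn => V_mid (ses_quot X P hP) (h₁ i n (le_trans (le_max_left _ _) hn))
      (h₂ i n (le_trans (le_max_right _ _) hn))⟩
  · rintro X k x hx hk hxa hreg - ⟨r, hr⟩
    refine ⟨r, fun i n hn => ?_⟩
    cases i with
    | zero =>
      refine V_zero_iff.2 fun y _ hy => ?_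
      rwa [gam_eq_bot_of_regular hxa hreg, Submodule.mem_bot] at hy
    | succ i =>
      intro E
      letI := qDecomp X.gr _ (SmulSeq.isHomogeneous_range_smul (ℳ := X.gr) hx)
      haveI := qGSMul 𝒜 X.gr (LinearMap.range (x • (LinearMap.id : X.carrier →ₗ[R] X.carrier)))
      obtain ⟨F⟩ := Res.nonempty_starInjRes 𝒜
        (qGr X.gr (LinearMap.range (x • (LinearMap.id : X.carrier →ₗ[R] X.carrier))))
      obtain ⟨g, δ, -, hδ, -, -, hker, -⟩ := SmulSeq.exists_seq a (ℳ := X.gr)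
        (𝒩 := qGr X.gr (LinearMap.range (x • (LinearMap.id : X.carrier →ₗ[R] X.carrier)))) hx hreg
        (π := Submodule.mkQ _) (fun _ _ hm => mkQ_mem_qGr X.gr _ hm) (Submodule.mkQ_surjective _)
        (Submodule.ker_mkQ _) E F
      haveI := Res.hgrGSMul E a (i + 1)
      letI := Res.hgrDecomp E a (i + 1)
      letI := Res.hgrDecomp F a i
      have key : ∀ (m : ℕ) (n : ℤ), r ≤ n → ∀ y ∈ E.Hgr a (i + 1) n, x ^ m • y = 0 → y = 0 := by
        intro m
        induction m with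
        | zero =>
          intro n _ y _ hy
          rwa [pow_zero, one_smul] at hy
        | succ m ih =>
          intro n hn y hy h0
          rw [pow_succ, mul_smul] at h0
          have hxy : x • y = 0 := ih (k + n) (by omega) _ (smul_mem_add 𝒜 (E.Hgr a (i + 1)) hx hy) h0
          obtain ⟨z, hz, rfl⟩ := exists_hom_preimage_deg (hδ i) hy ((hker i y).1 hxy)
          have hz0 : z = 0 := (AddSubgroup.eq_bot_iff_forall _).1 (hr i (n - -k) (by omega) F) z hz
          rw [hz0, map_zero]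
      refine (AddSubgroup.eq_bot_iff_forall _).2 fun y hy => ?_
      obtain ⟨m, hm⟩ : y ∈ GrLC.gam a.toIdeal (E.H a (i + 1)) :=
        (SmulSeq.gam_H_eq_top a E (i + 1)).ge trivial
      exact key m n hn y hy (hm _ (Ideal.pow_mem_pow hxa m))

/-- A class of modules over the degree zero subring to which the finiteness argument applies. -/
structure Good (a : HomogeneousIdeal 𝒜)
    (P : ∀ (A : Type u) [AddCommGroup A] [Module (GrLC.deg0 𝒜) A], Prop) : Prop where
  zero : ∀ (A : Type u) [AddCommGroup A] [Module (GrLC.deg0 𝒜) A], Subsingleton A → P A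
  exact : ∀ (A B C : Type u) [AddCommGroup A] [Module (GrLC.deg0 𝒜) A] [AddCommGroup B]
    [Module (GrLC.deg0 𝒜) B] [AddCommGroup C] [Module (GrLC.deg0 𝒜) C]
    (f : A →ₗ[GrLC.deg0 𝒜] B) (g : B →ₗ[GrLC.deg0 𝒜] C),
    LinearMap.ker g = LinearMap.range f → P A → P C → P B
  torsion_ker : ∀ (A B : Type u) [AddCommGroup A] [Module (GrLC.deg0 𝒜) A] [AddCommGroup B]
    [Module (GrLC.deg0 𝒜) B] (r : GrLC.deg0 𝒜), (r : R) ∈ a.toIdeal →
    ∀ f : A →ₗ[GrLC.deg0 𝒜] B, (∀ y : B, r • y = 0 → ∃ z, f z = y) →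
    (∀ z, r • f z = 0) → (∀ y : B, ∃ m : ℕ, r ^ m • y = 0) → P A → P B
  base : ∀ (X : GrLC.GMod.{u} 𝒜), Module.Finite R X.carrier → GrLC.gam a.toIdeal X.carrier = ⊤ →
    ∀ n : ℤ, P (GrLC.comp 𝒜 X.gr n)

section Hcomp

variable {X Y : GrLC.GMod.{u} 𝒜}

/-- A homogeneous map on pieces of cohomology. -/
def restrH {E : GrLC.StarInjRes 𝒜 X.gr} {F : GrLC.StarInjRes 𝒜 Y.gr} {i j : ℕ} {d e : ℤ}
    (f : E.H a i →ₗ[R] F.H a j) (h : ∀ x ∈ E.Hcomp a i d, f x ∈ F.Hcomp a j e) :
    E.Hcomp a i d →ₗ[GrLC.deg0 𝒜] F.Hcomp a j e :=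
  (f.restrictScalars (GrLC.deg0 𝒜)).restrict h

variable {P : ∀ (A : Type u) [AddCommGroup A] [Module (GrLC.deg0 𝒜) A], Prop}

theorem good_surj (hP : Good a P) {A B : Type u} [AddCommGroup A] [Module (GrLC.deg0 𝒜) A] [AddCommGroup B]
    [Module (GrLC.deg0 𝒜) B] (f : A →ₗ[GrLC.deg0 𝒜] B) (hf : Function.Surjective f) (hA : P A) : P B :=
  hP.exact A B PUnit f 0 (by rw [LinearMap.ker_zero, LinearMap.range_eq_top.2 hf]) hA (hP.zero _ inferInstance)

/-- A good class contains all the pieces. -/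
theorem good_Hcomp (hpos : ∀ n : ℤ, n < 0 → ∀ r ∈ 𝒜 n, r = 0)
    (hQ : (posIdeal 𝒜).toIdeal ≤ a.toIdeal) (hP : Good a P) (X : GrLC.GMod.{u} 𝒜)
    (hX : Module.Finite R X.carrier) (E : GrLC.StarInjRes 𝒜 X.gr) (i : ℕ) (n : ℤ) :
    P (E.Hcomp a i n) := by
  revert i n E
  refine FGInduction.induction
    (C := fun X => ∀ (E : GrLC.StarInjRes 𝒜 X.gr) (i : ℕ) (n : ℤ), P (E.Hcomp a i n)) hpos hQ ?_ ?_ ?_ X hX
  · intro X hX htors E i n
    rcases Nat.eq_zero_or_pos i with rfl | hi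
    · let f : X.carrier →ₗ[R] E.H a 0 := Chain.h0Map (E := E) a ∘ₗ
        (LinearMap.id.codRestrict (GrLC.gam a.toIdeal X.carrier) fun _ => htors.ge trivial)
      have hf : GrLC.IsGrHom X.gr (E.Hgr a 0) f := fun g x hx => Chain.h0Map_grHom a g ⟨x, _⟩ hx
      refine good_surj hP ((f.restrictScalars (GrLC.deg0 𝒜)).restrict
        (p := GrLC.comp 𝒜 X.gr n) (q := E.Hcomp a 0 n) fun x hx => hf n x hx) (fun y => ?_) (hP.base X hX htors n)
      letI := Res.hgrDecomp E a 0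
      obtain ⟨x, hx, hfx⟩ := exists_hom_preimage hf (y := y.1) y.2 (by
        obtain ⟨w, hw⟩ := (Chain.h0Map_bijective a).2 y.1
        exact ⟨w.1, hw⟩)
      exact ⟨⟨x, hx⟩, Subtype.ext hfx⟩
    · haveI := Torsion.subsingleton_H a htors E i hi
      exact hP.zero _ inferInstance
  · intro X Q hQh _ h₁ h₂ E i n
    obtain ⟨E'⟩ := Res.nonempty_starInjRes 𝒜 (subMod 𝒜 X.gr Q hQh).gr
    obtain ⟨E''⟩ := Res.nonempty_starInjRes 𝒜 (qMod 𝒜 X.gr Q hQh).gr
    have hses := ses_quot X Q hQh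
    obtain ⟨δ, hδ, hex, -⟩ := LES.exists_les E' E E'' a hses _ (Chain.lift_ε E' E _ hses.grHom_i) _
      (Chain.lift_ε E E'' _ hses.grHom_π)
    let φ := Chain.lift E' E Q.subtype
    let ψ := Chain.lift E E'' Q.mkQ
    refine hP.exact _ _ _ (restrH (φ.hMap a i) fun x hx => Chain.Map.hMap_grHom a φ i n x hx)
      (restrH (ψ.hMap a i) fun x hx => Chain.Map.hMap_grHom a ψ i n x hx) ?_ (h₁ E' i n) (h₂ E'' i n)
    ext y
    constructor
    · intro hy
      have hy' : ψ.hMap a i y.1 = 0 := congrArg Subtype.val (LinearMap.mem_ker.1 hy)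
      letI := Res.hgrDecomp E a i
      letI := Res.hgrDecomp E' a i
      obtain ⟨x, hx, hxy⟩ := exists_hom_preimage (Chain.Map.hMap_grHom a φ i) (y := y.1) y.2
        ((hex i).le (LinearMap.mem_ker.2 hy'))
      exact ⟨⟨x, hx⟩, Subtype.ext hxy⟩
    · rintro ⟨x, rfl⟩
      refine LinearMap.mem_ker.2 (Subtype.ext ?_)
      change ψ.hMap a i (φ.hMap a i x.1) = 0
      exact LinearMap.mem_ker.1 ((hex i).ge ⟨x.1, rfl⟩)
  · intro X k x hx hk hxa hreg hX hq E i n
    letI := qDecomp X.gr _ (SmulSeq.isHomogeneous_range_smul (ℳ := X.gr) hx)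
    haveI := qGSMul 𝒜 X.gr (LinearMap.range (x • (LinearMap.id : X.carrier →ₗ[R] X.carrier)))
    obtain ⟨F⟩ := Res.nonempty_starInjRes 𝒜
      (qGr X.gr (LinearMap.range (x • (LinearMap.id : X.carrier →ₗ[R] X.carrier))))
    obtain ⟨g, δ, -, hδ, -, -, hker, -⟩ := SmulSeq.exists_seq a (ℳ := X.gr)
      (𝒩 := qGr X.gr (LinearMap.range (x • (LinearMap.id : X.carrier →ₗ[R] X.carrier)))) hx hreg
      (π := Submodule.mkQ _) (fun _ _ hm => mkQ_mem_qGr X.gr _ hm) (Submodule.mkQ_surjective _)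
      (Submodule.ker_mkQ _) E F
    cases i with
    | zero =>
      haveI : Subsingleton (E.H a 0) := by
        refine subsingleton_of_forall_eq 0 fun y => ?_
        obtain ⟨w, rfl⟩ := (Chain.h0Map_bijective a).2 y
        have hw : (w : X.carrier) = 0 :=
          (Submodule.eq_bot_iff _).1 (gam_eq_bot_of_regular hxa hreg) _ w.2
        rw [show w = 0 from Subtype.ext hw, map_zero]
      exact hP.zero _ inferInstance
    | succ i =>
      haveI := Res.hgrGSMul E a (i + 1)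
      letI := Res.hgrDecomp E a (i + 1)
      letI := Res.hgrDecomp F a i
      let dl : ∀ n : ℤ, F.Hcomp a i (n + k) →ₗ[GrLC.deg0 𝒜] E.Hcomp a (i + 1) n := fun n =>
        ((δ i).restrictScalars (GrLC.deg0 𝒜)).restrict (p := F.Hcomp a i (n + k))
          (q := E.Hcomp a (i + 1) n) fun z hz => by
            have h1 := hδ i (n + k) z hz
            rw [add_neg_cancel_right] at h1
            exact h1
      have hdl : ∀ n (y : E.Hcomp a (i + 1) n), x • (y : E.H a (i + 1)) = 0 → ∃ z, dl n z = y := by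
        intro n y hy
        obtain ⟨z, hz, hzy⟩ := exists_hom_preimage_deg (hδ i) (y := y.1) y.2 ((hker i y.1).1 hy)
        exact ⟨⟨z, (sub_neg_eq_add n k ▸ hz :)⟩, Subtype.ext hzy⟩
      have hdl0 : ∀ n (z : F.Hcomp a i (n + k)), x • (dl n z : E.H a (i + 1)) = 0 :=
        fun n z => (hker i _).2 ⟨z.1, rfl⟩
      rcases hk.lt_or_eq with hk0 | hk0
      · obtain ⟨b, hb⟩ := exists_V_of_le hpos hQ X hX
        have key : ∀ (m : ℕ) (n : ℤ), b ≤ n + m → P (E.Hcomp a (i + 1) n) := by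
          intro m
          induction m with
          | zero =>
            intro n hn
            haveI : Subsingleton (E.Hcomp a (i + 1) n) := by
              rw [Submodule.subsingleton_iff_eq_bot, LES.Hcomp_eq_bot_iff]
              exact hb (i + 1) n (by simpa using hn) E
            exact hP.zero _ inferInstance
          | succ m ih =>
            intro n hn
            let mx : E.Hcomp a (i + 1) n →ₗ[GrLC.deg0 𝒜] E.Hcomp a (i + 1) (k + n) :=
              restrH (x • LinearMap.id) fun y hy => smul_mem_add 𝒜 (E.Hgr a (i + 1)) hx hy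
            refine hP.exact _ _ _ (dl n) mx ?_ (hq F i (n + k)) (ih (k + n) (by push_cast at hn; omega))
            ext y
            exact ⟨fun hy => hdl n y (congrArg Subtype.val (LinearMap.mem_ker.1 hy)), fun ⟨z, hz⟩ =>
              hz ▸ LinearMap.mem_ker.2 (Subtype.ext (hdl0 n z))⟩
        exact key (b - n).toNat n (by omega)
      · subst hk0
        refine hP.torsion_ker _ _ (⟨x, hx⟩ : GrLC.deg0 𝒜) hxa (dl n)
          (fun y hy => hdl n y (congrArg Subtype.val hy)) (fun z => Subtype.ext (hdl0 n z)) (fun y => ?_)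
          (hq F i (n + 0))
        obtain ⟨m, hm⟩ : (y : E.H a (i + 1)) ∈ GrLC.gam a.toIdeal (E.H a (i + 1)) :=
          (SmulSeq.gam_H_eq_top a E (i + 1)).ge trivial
        exact ⟨m, Subtype.ext (hm _ (Ideal.pow_mem_pow hxa m))⟩

end Hcomp

section Melkersson

variable {S : Type u} [CommRing S] {B : Type u} [AddCommGroup B] [Module S B]

/-- A module in which a single element acts locally nilpotently with Artinian kernel is Artinian. -/
theorem isArtinian_of_ker (r : S) (hK : IsArtinian S (LinearMap.ker (r • (LinearMap.id : B →ₗ[S] B))))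
    (htors : ∀ y : B, ∃ m : ℕ, r ^ m • y = 0) : IsArtinian S B := by
  rw [← monotone_stabilizes_iff_artinian]
  intro f
  let N : ℕ → Submodule S B := fun j => OrderDual.ofDual (f j)
  have hN : ∀ {i j}, i ≤ j → N j ≤ N i := fun h => f.monotone h
  let A : ℕ → ℕ → Submodule S (LinearMap.ker (r • (LinearMap.id : B →ₗ[S] B))) := fun j t =>
    ((N j ⊓ LinearMap.ker (r ^ (t + 1) • (LinearMap.id : B →ₗ[S] B))).map
      (r ^ t • (LinearMap.id : B →ₗ[S] B))).comap (LinearMap.ker (r • (LinearMap.id : B →ₗ[S] B))).subtype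
  have hmem : ∀ j t z, z ∈ A j t ↔ ∃ y ∈ N j, r ^ (t + 1) • y = 0 ∧ r ^ t • y = z.1 := fun j t z =>
    ⟨fun ⟨y, ⟨h1, h2⟩, h3⟩ => ⟨y, h1, h2, h3⟩, fun ⟨y, h1, h2, h3⟩ => ⟨y, ⟨h1, h2⟩, h3⟩⟩
  have hj : ∀ {i j} t, i ≤ j → A j t ≤ A i t := fun {i j} t h z hz => by
    obtain ⟨y, h1, h2, h3⟩ := (hmem _ _ _).1 hz
    exact (hmem _ _ _).2 ⟨y, hN h h1, h2, h3⟩
  have ht : ∀ j {s t}, s ≤ t → A j t ≤ A j s := by
    intro j s t hst
    induction hst with
    | refl => exact le_rfl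
    | @step t _ ih =>
      refine le_trans (fun z hz => ?_) ih
      obtain ⟨y, h1, h2, h3⟩ := (hmem _ _ _).1 hz
      refine (hmem _ _ _).2 ⟨r • y, (N j).smul_mem r h1, ?_, ?_⟩
      · rwa [← mul_smul, ← pow_succ]
      · rwa [← mul_smul, ← pow_succ]
  let diag : ℕ →o (Submodule S (LinearMap.ker (r • (LinearMap.id : B →ₗ[S] B))))ᵒᵈ :=
    ⟨fun j => OrderDual.toDual (A j j), fun i j h => (ht j h).trans (hj i h)⟩
  obtain ⟨J, hJ⟩ := IsArtinian.monotone_stabilizes diag
  have hrow : ∀ t, ∃ Jt, ∀ j, Jt ≤ j → A Jt t = A j t := fun t =>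
    IsArtinian.monotone_stabilizes
      (⟨fun j => OrderDual.toDual (A j t), fun i j h => hj t h⟩ :
        ℕ →o (Submodule S (LinearMap.ker (r • (LinearMap.id : B →ₗ[S] B))))ᵒᵈ)
  choose Jt hJt using hrow
  let j₁ := max J ((Finset.range J).sup Jt)
  have hbig : ∀ j t, J ≤ j → J ≤ t → A j t = A J J := by
    intro j t hjJ htJ
    refine le_antisymm ((hj t hjJ).trans (ht J htJ)) ?_
    rw [show A J J = A (max j t) (max j t) from hJ _ (hjJ.trans (le_max_left j t))]
    exact (ht (max j t) (le_max_right j t)).trans (hj t (le_max_left j t))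
  refine ⟨j₁, fun j hjle => ?_⟩
  have hA : ∀ t, A j₁ t = A j t := by
    intro t
    rcases lt_or_ge t J with h | h
    · have h1 : Jt t ≤ j₁ := le_trans (Finset.le_sup (Finset.mem_range.2 h)) (le_max_right _ _)
      rw [← hJt t j₁ h1, ← hJt t j (h1.trans hjle)]
    · rw [hbig j₁ t (le_max_left _ _) h, hbig j t ((le_max_left _ _).trans hjle) h]
  change N j₁ = N j
  refine le_antisymm ?_ (hN hjle)
  suffices H : ∀ m, ∀ y ∈ N j₁, r ^ m • y = 0 → y ∈ N j by
    intro y hy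
    obtain ⟨m, hm⟩ := htors y
    exact H m y hy hm
  intro m
  induction m with
  | zero =>
    intro y _ hy
    rw [pow_zero, one_smul] at hy
    rw [hy]
    exact zero_mem _
  | succ m ih =>
    intro y hy h0
    have hk : r ^ m • y ∈ LinearMap.ker (r • (LinearMap.id : B →ₗ[S] B)) := by
      change r • r ^ m • y = 0
      rwa [← mul_smul, ← pow_succ']
    have h1 : (⟨r ^ m • y, hk⟩ : LinearMap.ker (r • (LinearMap.id : B →ₗ[S] B))) ∈ A j₁ m :=
      (hmem _ _ _).2 ⟨y, hy, h0, rfl⟩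
    rw [hA m, hmem] at h1
    obtain ⟨y', hy', -, hyy⟩ := h1
    have h2 := ih (y - y') (sub_mem hy (hN hjle hy')) (by rw [smul_sub, hyy, sub_self])
    simpa using add_mem h2 hy'

end Melkersson

end Groth.Agent.Lib.Graded.Finiteness
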