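import Groth.Agent.Lib.Graded.FreeMod

/-!
# Minimal homogeneous generators and minimal graded free resolutions
-/

universe u

set_option maxHeartbeats 600000

set_option linter.unusedSectionVars false

open DirectSum

namespace Groth.Agent.Lib.Graded.MinRes

open Groth.Agent.Lib.Graded.Basic Groth.Agent.Lib.Graded.StarInj Groth.Agent.Lib.Graded.FreeMod

variable {R : Type u} [CommRing R] {σ : Type u} [SetLike σ R] [AddSubgroupClass σ R]
variable {𝒜 : ℤ → σ} [GradedRing 𝒜]
variable {M : Type u} [AddCommGroup M] [Module R M] {τ : Type u} [SetLike τ M] [AddSubgroupClass τ M]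
variable {ℳ : ℤ → τ} [DirectSum.Decomposition ℳ] [SetLike.GradedSMul 𝒜 ℳ]

/-- Elements outside the ideal have a unit as their component of degree zero. -/
def UnitOutside (𝒜 : ℤ → σ) [GradedRing 𝒜] (a : Ideal R) : Prop :=
  ∀ x : R, x ∉ a → IsUnit (proj 𝒜 0 x)

/-- The relations between the members of the family lie in the ideal. -/
def RelIn {n : ℕ} (x : Fin n → M) (a : Ideal R) : Prop :=
  ∀ v : Fin n → R, Fintype.linearCombination R x v = 0 → ∀ b, v b ∈ a

variable {a : Ideal R} (ha : UnitOutside 𝒜 a)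
include ha

theorem mem_span_others {n : ℕ} {deg : Fin n → ℤ} {x : Fin n → M} (hx : ∀ b, x b ∈ ℳ (deg b))
    {v : Fin n → R} (hv : Fintype.linearCombination R x v = 0) {b : Fin n} (hb : v b ∉ a) :
    x b ∈ Submodule.span R (x '' {b' | b' ≠ b}) := by
  have h1 := congrArg (proj ℳ (deg b)) hv
  rw [Fintype.linearCombination_apply, map_sum, map_zero] at h1
  simp only [proj_smul_mem 𝒜 ℳ (hx _)] at h1
  rw [← Finset.add_sum_erase _ _ (Finset.mem_univ b), sub_self, add_eq_zero_iff_eq_neg] at h1
  obtain ⟨w, hw⟩ := ha (v b) hb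
  have hmem : (w : R) • x b ∈ Submodule.span R (x '' {b' | b' ≠ b}) := by
    rw [hw, h1]
    refine neg_mem (sum_mem fun c hc => Submodule.smul_mem _ _ (Submodule.subset_span ⟨c, ?_, rfl⟩))
    exact (Finset.mem_erase.1 hc).1
  exact (Submodule.smul_mem_iff_of_isUnit _ w.isUnit).1 hmem

theorem relIn_iff (hone : (1 : R) ∉ a) {n : ℕ} {deg : Fin n → ℤ} {x : Fin n → M}
    (hx : ∀ b, x b ∈ ℳ (deg b)) :
    RelIn x a ↔ ∀ b, x b ∉ Submodule.span R (x '' {b' | b' ≠ b}) := by
  constructor
  · intro h b hb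
    obtain ⟨c, hc, hcx⟩ := (Finsupp.mem_span_image_iff_linearCombination R).1 hb
    have hcb : c b = 0 := by
      by_contra hne
      exact (Finsupp.mem_supported R c).1 hc (Finsupp.mem_support_iff.2 hne) rfl
    have h1 := h (⇑c - Pi.single b 1) (by
      rw [map_sub, Fintype.linearCombination_apply_single, one_smul, sub_eq_zero,
        Fintype.linearCombination_apply, ← hcx, Finsupp.linearCombination_apply]
      exact (Finsupp.sum_fintype c (fun i r => r • x i) fun i => zero_smul R (x i)).symm) b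
    rw [Pi.sub_apply, hcb, Pi.single_eq_same, zero_sub] at h1
    exact hone (neg_mem_iff.1 h1)
  · intro h v hv b
    by_contra hb
    exact h b (mem_span_others ha hx hv hb)

variable (𝒜 ℳ) in
/-- A homogeneous finitely generated submodule has a minimal homogeneous generating family. -/
theorem exists_minGens (K : Submodule R M) (hK : K.IsHomogeneous ℳ) (hfg : K.FG) :
    ∃ (n : ℕ) (deg : Fin n → ℤ) (x : Fin n → M), (∀ b, x b ∈ ℳ (deg b)) ∧
      Submodule.span R (Set.range x) = K ∧ RelIn x a := by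
  classical
  have hex : ∃ (n : ℕ) (deg : Fin n → ℤ) (x : Fin n → M), (∀ b, x b ∈ ℳ (deg b)) ∧
      Submodule.span R (Set.range x) = K := by
    obtain ⟨s, hs⟩ := hfg
    let T : Finset (ℤ × M) := s.biUnion fun m => (supp ℳ m).image fun g => (g, proj ℳ g m)
    let e := T.equivFin.symm
    refine ⟨_, fun b => (e b).1.1, fun b => (e b).1.2, fun b => ?_, ?_⟩
    · obtain ⟨m, -, hm⟩ := Finset.mem_biUnion.1 (e b).2
      obtain ⟨g, -, hg⟩ := Finset.mem_image.1 hm
      simp only [← hg]
      exact proj_mem ℳ g m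
    · refine le_antisymm (Submodule.span_le.2 ?_) ?_
      · rintro _ ⟨b, rfl⟩
        obtain ⟨m, hms, hm⟩ := Finset.mem_biUnion.1 (e b).2
        obtain ⟨g, -, hg⟩ := Finset.mem_image.1 hm
        simp only [← hg]
        exact hK g (hs ▸ Submodule.subset_span hms)
      · rw [← hs, Submodule.span_le]
        intro m hm
        rw [← sum_proj ℳ m]
        refine sum_mem fun g hg => Submodule.subset_span ?_
        obtain ⟨b, hb⟩ := e.surjective ⟨(g, proj ℳ g m),
          Finset.mem_biUnion.2 ⟨m, hm, Finset.mem_image.2 ⟨g, hg, rfl⟩⟩⟩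
        exact ⟨b, by simp only [hb]⟩
  obtain ⟨N, hN⟩ : ∃ N, Nat.find hex = N := ⟨_, rfl⟩
  obtain ⟨deg, x, hx, hspan⟩ := hN ▸ Nat.find_spec hex
  refine ⟨_, deg, x, hx, hspan, fun v hv b => ?_⟩
  by_contra hb
  have hmem := mem_span_others ha hx hv hb
  obtain ⟨m, rfl⟩ : ∃ m, N = m + 1 := Nat.exists_eq_add_one.2 b.pos
  refine Nat.find_min hex (show m < Nat.find hex by omega) ?_
  refine ⟨deg ∘ b.succAbove, x ∘ b.succAbove, fun c => hx _, ?_⟩
  rw [← hspan, Set.range_comp, Fin.range_succAbove]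
  refine le_antisymm (Submodule.span_mono (Set.image_subset_range _ _)) (Submodule.span_le.2 ?_)
  rintro _ ⟨c, rfl⟩
  rcases eq_or_ne c b with rfl | hc
  · exact hmem
  · exact Submodule.subset_span ⟨c, hc, rfl⟩

omit ha

section Existence

variable [IsNoetherianRing R]

variable (𝒜) in
/-- A stage of the construction: a free module and a homogeneous submodule to be covered. -/
structure Stage : Type u where
  n : ℕ
  deg : Fin n → ℤ
  K : Submodule R (freeMod 𝒜 deg).carrier
  hom : K.IsHomogeneous (freeMod 𝒜 deg).gr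

theorem Stage.fg (s : Stage 𝒜) : s.K.FG :=
  have h : IsNoetherian R (Fin s.n → R) := inferInstance
  h.noetherian s.K

theorem Stage.exists_cover (s : Stage 𝒜) (ha : UnitOutside 𝒜 a) :
    ∃ (n : ℕ) (deg : Fin n → ℤ) (x : Fin n → (freeMod 𝒜 s.deg).carrier),
      (∀ b, x b ∈ (freeMod 𝒜 s.deg).gr (deg b)) ∧ Submodule.span R (Set.range x) = s.K ∧ RelIn x a :=
  exists_minGens 𝒜 (freeMod 𝒜 s.deg).gr ha s.K s.hom s.fg

/-- The chosen generators of a stage. -/
structure Cover (s : Stage 𝒜) (a : Ideal R) : Type u where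
  n : ℕ
  deg : Fin n → ℤ
  x : Fin n → (freeMod 𝒜 s.deg).carrier
  mem : ∀ b, x b ∈ (freeMod 𝒜 s.deg).gr (deg b)
  span_eq : Submodule.span R (Set.range x) = s.K
  rel : RelIn x a

/-- A chosen cover. -/
noncomputable def Stage.cover (s : Stage 𝒜) (ha : UnitOutside 𝒜 a) : Cover s a :=
  Classical.choice (let ⟨n, deg, x, h1, h2, h3⟩ := s.exists_cover ha; ⟨⟨n, deg, x, h1, h2, h3⟩⟩)

/-- The map of free modules of a cover. -/
noncomputable def Cover.map {s : Stage 𝒜} (c : Cover s a) :
    (freeMod 𝒜 c.deg).carrier →ₗ[R] (freeMod 𝒜 s.deg).carrier := Fintype.linearCombination R c.x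

theorem Cover.map_grHom {s : Stage 𝒜} (c : Cover s a) :
    GrLC.IsGrHom (freeMod 𝒜 c.deg).gr (freeMod 𝒜 s.deg).gr c.map :=
  isGrHom_linearCombination c.mem

/-- The next stage. -/
noncomputable def Stage.next (s : Stage 𝒜) (ha : UnitOutside 𝒜 a) : Stage 𝒜 :=
  ⟨(s.cover ha).n, (s.cover ha).deg, LinearMap.ker (s.cover ha).map,
    isHomogeneous_ker (s.cover ha).map_grHom⟩

/-- The stages after a given one. -/
noncomputable def stages (s : Stage 𝒜) (ha : UnitOutside 𝒜 a) : ℕ → Stage 𝒜
  | 0 => s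
  | i + 1 => (stages s ha i).next ha

/-- The generators of a cover, as vectors. -/
def Cover.vec {s : Stage 𝒜} (c : Cover s a) : Fin c.n → Fin s.n → R := c.x

/-- The matrix of a cover. -/
def Cover.mat {s : Stage 𝒜} (c : Cover s a) : Matrix (Fin s.n) (Fin c.n) R :=
  Matrix.of fun p q => c.vec q p

theorem Cover.mulVecLin_mat {s : Stage 𝒜} (c : Cover s a) :
    (c.mat.mulVecLin : (Fin c.n → R) →ₗ[R] Fin s.n → R) =
      Fintype.linearCombination R c.vec := by
  refine LinearMap.ext fun v => funext fun p => ?_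
  rw [Fintype.linearCombination_apply, Finset.sum_apply]
  change ∑ q, c.vec q p * v q = ∑ q, v q * c.vec q p
  exact Finset.sum_congr rfl fun q _ => (mul_comm _ _ : c.vec q p * v q = v q * c.vec q p)

theorem Cover.range_mat {s : Stage 𝒜} (c : Cover s a) :
    LinearMap.range c.mat.mulVecLin = (s.K : Submodule R (Fin s.n → R)) := by
  rw [c.mulVecLin_mat, Fintype.range_linearCombination]
  exact c.span_eq

theorem Cover.ker_mat {s : Stage 𝒜} (c : Cover s a) :
    LinearMap.ker c.mat.mulVecLin = (LinearMap.ker c.map : Submodule R (Fin c.n → R)) := by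
  rw [c.mulVecLin_mat]
  rfl

variable (𝒜 ℳ) in
/-- Minimal graded free resolutions exist. -/
theorem exists_res [Module.Finite R M] (ha : UnitOutside 𝒜 a) :
    ∃ F : GrSyz.FreeRes 𝒜 ℳ, F.IsMinimal a := by
  obtain ⟨n, deg, x, hx, hspan, hrel⟩ := exists_minGens 𝒜 ℳ ha ⊤ isHomogeneous_top
    ‹Module.Finite R M›.fg_top
  let φ : (freeMod 𝒜 deg).carrier →ₗ[R] M := Fintype.linearCombination R x
  have hφ : GrLC.IsGrHom (freeMod 𝒜 deg).gr ℳ φ := isGrHom_linearCombination hx
  let S := stages ⟨n, deg, LinearMap.ker φ, isHomogeneous_ker hφ⟩ ha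
  refine ⟨{ rk := fun i => (S i).n, deg := fun i => (S i).deg,
            d := fun i => ((S i).cover ha).mat, aug := x,
            d_mem := fun i p q => (mem_freeMod 𝒜 _).1 (((S i).cover ha).mem q) p,
            aug_mem := hx,
            aug_surjective := LinearMap.range_eq_top.1 ((Fintype.range_linearCombination R x).trans hspan),
            exact_zero := ((S 0).cover ha).range_mat.symm,
            exact_succ := fun i => ((S i).cover ha).ker_mat.trans ((S (i + 1)).cover ha).range_mat.symm },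
    fun i p q => ?_⟩
  have hq : ((S i).cover ha).x q ∈ (S i).K := ((S i).cover ha).span_eq.le (Submodule.subset_span ⟨q, rfl⟩)
  cases i with
  | zero => exact hrel _ (LinearMap.mem_ker.1 hq) p
  | succ i => exact ((S i).cover ha).rel _ (LinearMap.mem_ker.1 hq) p

end Existence

end Groth.Agent.Lib.Graded.MinRes
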