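import Groth.Agent.Lib.Graded.Koszul

/-!
# Generation and vanishing diagonals for ideals generated in degree one
-/

universe u

set_option linter.unusedSectionVars false

open DirectSum

namespace Groth.Agent.Lib.Graded.StdVanish

open Groth.Agent.Lib.Graded.Basic Groth.Agent.Lib.Graded.StarInj Groth.Agent.Lib.Graded.Van

variable {R : Type u} [CommRing R] [IsNoetherianRing R] {σ : Type u} [SetLike σ R] [AddSubgroupClass σ R]
variable {𝒜 : ℤ → σ} [GradedRing 𝒜] {a : HomogeneousIdeal 𝒜}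

theorem exists_list_of_span (ha : a.toIdeal = Ideal.span (𝒜 1 : Set R)) :
    ∃ xs : List R, (∀ x ∈ xs, x ∈ 𝒜 1) ∧ a.toIdeal = Ideal.span {r | r ∈ xs} := by
  obtain ⟨s, hs, hss⟩ := (Submodule.fg_span_iff_fg_span_finset_subset (R := R) (𝒜 1 : Set R)).1
    (IsNoetherian.noetherian _)
  refine ⟨s.toList, fun x hx => hs (Finset.mem_toList.1 hx), ?_⟩
  rw [ha]
  simpa [Ideal.span] using hss

/-- A vanishing diagonal in positive cohomological degrees propagates to the next degree. -/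
theorem V_next (ha : a.toIdeal = Ideal.span (𝒜 1 : Set R)) {X : GrLC.GMod.{u} 𝒜} {i : ℕ} (hi : 1 ≤ i)
    {n : ℤ} (h : ∀ j : ℕ, V a X (i + j) (n - (j + 1))) : V a X i n := by
  obtain ⟨xs, hxs, hspan⟩ := exists_list_of_span ha
  obtain ⟨C, hC, -, hsub, hV⟩ := Koszul.exists_koszul a X xs hxs
  have hB := Koszul.V_range_d C hspan hC hsub (i := i) (n := n) fun j => hV j (i + j) n (h j)
  refine V_mid (ses_quot X _ (isHomogeneous_range C.d0_grHom)) hB (V_torsion ?_ hi)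
  rw [hspan]
  refine Koszul.gam_eq_top_of_kills fun r hr z => ?_
  obtain ⟨z, rfl⟩ := Submodule.mkQ_surjective _ z
  obtain ⟨m, hm⟩ := (hC r hr).base z
  exact ⟨m, (Submodule.Quotient.mk_eq_zero _).2 hm⟩

/-- The diagonal criterion. -/
theorem V_diag (ha : a.toIdeal = Ideal.span (𝒜 1 : Set R)) {X : GrLC.GMod.{u} 𝒜} {r : ℤ} {l : ℕ}
    (hl : 1 ≤ l) (hvan : ∀ i : ℕ, l ≤ i → V a X i (r + 1 - i)) (i : ℕ) (hi : l ≤ i) {s : ℤ}
    (hs : r < s) : V a X i (s - i) := by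
  obtain ⟨k, rfl⟩ : ∃ k : ℕ, s = r + 1 + k := ⟨(s - r - 1).toNat, by omega⟩
  clear hs
  induction k generalizing i with
  | zero => simpa using hvan i hi
  | succ k ih =>
    refine V_next ha (hl.trans hi) fun j => ?_
    rw [show r + 1 + ((k + 1 : ℕ) : ℤ) - (i : ℤ) - ((j : ℤ) + 1) = r + 1 + (k : ℤ) - ((i + j : ℕ) : ℤ) by
      push_cast; ring]
    exact ih (i + j) (by omega)

/-- Elements in a degree where all the diagonal cohomology vanishes lie in `a M`. -/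
theorem mem_smul_top (ha : a.toIdeal = Ideal.span (𝒜 1 : Set R)) {X : GrLC.GMod.{u} 𝒜} {n : ℤ}
    (h : ∀ i : ℕ, V a X i (n - i)) {x : X.carrier} (hx : x ∈ X.gr n) :
    x ∈ a.toIdeal • (⊤ : Submodule R X.carrier) := by
  obtain ⟨xs, hxs, hspan⟩ := exists_list_of_span ha
  obtain ⟨C, hC, hrange, hsub, hV⟩ := Koszul.exists_koszul a X xs hxs
  have hB := Koszul.V_range_d C hspan hC hsub (i := 1) (n := n) fun j => hV j (1 + j) n (by
    rw [show n - ((j : ℤ) + 1) = n - ((1 + j : ℕ) : ℤ) by push_cast; ring]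
    exact h (1 + j))
  have h0 := V_right (ses_quot X _ (isHomogeneous_range C.d0_grHom)) (by simpa using h 0) hB
  rw [V_zero_iff] at h0
  rw [hspan]
  refine hrange ((Submodule.Quotient.mk_eq_zero _).1 (h0 _ (mkQ_mem_qGr X.gr _ hx) ?_))
  have htop : GrLC.gam a.toIdeal (X.carrier ⧸ LinearMap.range C.d0) = ⊤ := by
    rw [hspan]
    refine Koszul.gam_eq_top_of_kills fun r hr z => ?_
    obtain ⟨z, rfl⟩ := Submodule.mkQ_surjective _ z
    obtain ⟨m, hm⟩ := (hC r hr).base z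
    exact ⟨m, (Submodule.Quotient.mk_eq_zero _).2 hm⟩
  exact htop.ge trivial

/-- A finitely generated module is generated in the degrees where some diagonal cohomology is
nonzero or which are below such degrees. -/
theorem span_eq_top (hpos : ∀ n : ℤ, n < 0 → ∀ r ∈ 𝒜 n, r = 0)
    (ha : a.toIdeal = Ideal.span (𝒜 1 : Set R)) {M : Type u} [AddCommGroup M] [Module R M]
    [Module.Finite R M] {τ : Type u} [SetLike τ M] [AddSubgroupClass τ M] (ℳ : ℤ → τ)
    [DirectSum.Decomposition ℳ] [SetLike.GradedSMul 𝒜 ℳ] (S : Set ℤ)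
    (hS : ∀ n ∉ S, ∀ i : ℕ, V a (toMod 𝒜 ℳ) i (n - i)) :
    Submodule.span R (⋃ n ∈ S, (ℳ n : Set M)) = ⊤ := by
  obtain ⟨lo, hlo⟩ := IntGraded.exists_bot (ℳ := ℳ) hpos
  refine IntGraded.eq_top_of_sup_smul_eq_top (𝒜 := 𝒜) hlo (s := (𝒜 1 : Set R))
    (fun r hr => ⟨1, one_pos, hr⟩) (fun n x hx => ?_) (isHomogeneous_span 𝒜 ℳ fun y hy => ?_)
  · by_cases hn : n ∈ S
    · exact Submodule.mem_sup_left (Submodule.subset_span (Set.mem_iUnion₂.2 ⟨n, hn, hx⟩))
    · refine Submodule.mem_sup_right ?_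
      rw [← ha]
      exact mem_smul_top ha (hS n hn) ((mem_toMod 𝒜 ℳ).2 hx)
  · obtain ⟨n, -, hy⟩ := Set.mem_iUnion₂.1 hy
    exact ⟨n, hy⟩

end Groth.Agent.Lib.Graded.StdVanish
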