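import Groth.Agent.Lib.Graded.Poly
import Groth.Agent.Lib.Graded.MinRes
import Groth.Agent.Lib.Graded.StdVanish
import Groth.Agent.Lib.Graded.IntGraded
import Groth.Agent.Lib.Graded.Finiteness

/-!
# Regularity over the polynomial ring: minimal resolutions against local cohomology
-/

universe u

set_option maxHeartbeats 600000

set_option linter.unusedSectionVars false

open DirectSum MvPolynomial

namespace Groth.Agent.Lib.Graded.Reg

open Groth.Agent.Lib.Graded.Basic Groth.Agent.Lib.Graded.StarInj Groth.Agent.Lib.Graded.Van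
  Groth.Agent.Lib.Graded.FreeMod Groth.Agent.Lib.Graded.MinRes

variable {k : Type u} [Field k] {σ : Type} [Finite σ]

/-- Vanishing of local cohomology strictly above the diagonal `n + i = d`. -/
def VR (X : GrLC.GMod.{u} (GrSyz.stdGr k σ)) (d : ℤ) : Prop := ∀ (i : ℕ) (n : ℤ), d < n + i → V (GrSyz.irrel (GrSyz.stdGr k σ)) X i n

theorem unitOutside : UnitOutside (GrSyz.stdGr k σ) (GrSyz.irrel (GrSyz.stdGr k σ)).toIdeal := fun _ hx => Poly.isUnit_proj_zero hx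

theorem smul_top_eq (X : GrLC.GMod.{u} (GrSyz.stdGr k σ)) [Module.Finite (MvPolynomial σ k) X.carrier] {d : ℤ} (h : VR X d) :
    Submodule.span (MvPolynomial σ k) (⋃ n ∈ Set.Iic d, (X.gr n : Set X.carrier)) = ⊤ :=
  StdVanish.span_eq_top Poly.eq_zero_of_neg Poly.irrel_eq_span_one X.gr (Set.Iic d) fun n hn i =>
    (V_shift_iff (X := X) 0).2 (h i _ (by simp only [Set.mem_Iic, not_le] at hn; omega))

section Minimal

variable {n : ℕ} {deg : Fin n → ℤ} {X : GrLC.GMod.{u} (GrSyz.stdGr k σ)}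
variable {φ : (freeMod (GrSyz.stdGr k σ) deg).carrier →ₗ[(MvPolynomial σ k)] X.carrier} (hφ : GrLC.IsGrHom (freeMod (GrSyz.stdGr k σ) deg).gr X.gr φ)
  (hsurj : Function.Surjective φ)
  (hker : ∀ v : Fin n → (MvPolynomial σ k), φ v = 0 → ∀ b, v b ∈ (GrSyz.irrel (GrSyz.stdGr k σ)).toIdeal)

include hφ hsurj hker in
theorem deg_le [Module.Finite (MvPolynomial σ k) X.carrier] {d : ℤ} (h : VR X d) (b : Fin n) : deg b ≤ d := by
  classical
  by_contra hb
  let φ' : (Fin n → MvPolynomial σ k) →ₗ[MvPolynomial σ k] X.carrier := φ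
  have hle : Submodule.span (MvPolynomial σ k) (⋃ g ∈ Set.Iic d, (X.gr g : Set X.carrier)) ≤
      (LinearMap.ker (LinearMap.proj b : (Fin n → (MvPolynomial σ k)) →ₗ[(MvPolynomial σ k)] (MvPolynomial σ k))).map φ' := by
    refine Submodule.span_le.2 (Set.iUnion₂_subset fun g hg y hy => ?_)
    obtain ⟨v, hv, rfl⟩ := exists_hom_preimage (ℳ := (freeMod (GrSyz.stdGr k σ) deg).gr) (𝒩 := X.gr) hφ hy (hsurj y)
    refine ⟨v, LinearMap.mem_ker.2 ?_, rfl⟩
    exact Poly.eq_zero_of_neg _ (by simp only [Set.mem_Iic] at hg; omega) _ ((mem_freeMod (GrSyz.stdGr k σ) deg).1 hv b)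
  obtain ⟨v, hv, hvb⟩ := hle ((smul_top_eq X h).ge (trivial : φ' (Pi.single b (1 : (MvPolynomial σ k))) ∈ _))
  have h1 := hker (v - Pi.single b (1 : (MvPolynomial σ k))) ((map_sub φ' v (Pi.single b (1 : (MvPolynomial σ k)))).trans (sub_eq_zero.2 hvb)) b
  rw [Pi.sub_apply, show v b = 0 from LinearMap.mem_ker.1 hv, Pi.single_eq_same, zero_sub, neg_mem_iff] at h1
  exact Poly.one_not_mem_irrel h1

end Minimal

theorem V_free_of_le {n : ℕ} {deg : Fin n → ℤ} {d : ℤ} (h : ∀ b, deg b ≤ d) (i : ℕ) (g : ℤ)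
    (hg : d < g + i) : V (GrSyz.irrel (GrSyz.stdGr k σ)) (freeMod (GrSyz.stdGr k σ) deg) i g :=
  V_free _ fun b => Poly.V_ring i _ (by have := h b; omega)

theorem VR_kernel {n : ℕ} {deg : Fin n → ℤ} {d : ℤ} (hd : ∀ b, deg b ≤ d) {X Y : GrLC.GMod.{u} (GrSyz.stdGr k σ)}
    {f : X.carrier →ₗ[(MvPolynomial σ k)] (freeMod (GrSyz.stdGr k σ) deg).carrier} {g : (freeMod (GrSyz.stdGr k σ) deg).carrier →ₗ[(MvPolynomial σ k)] Y.carrier}
    (h : Horseshoe.SES X.gr (freeMod (GrSyz.stdGr k σ) deg).gr Y.gr f g) (hY : VR Y d) : VR X (d + 1) := by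
  intro i m hm
  cases i with
  | zero => exact V_left_zero h (V_free_of_le hd 0 m (by omega))
  | succ i => exact V_left h (hY i m (by omega)) (V_free_of_le hd (i + 1) m (by omega))

variable {M : Type u} [AddCommGroup M] [Module (MvPolynomial σ k) M] {τ : Type u} [SetLike τ M] [AddSubgroupClass τ M]
variable {ℳ : ℤ → τ} [DirectSum.Decomposition ℳ] [SetLike.GradedSMul (GrSyz.stdGr k σ) ℳ]

variable (F : GrSyz.FreeRes (GrSyz.stdGr k σ) ℳ)

theorem VR_of_isGenLE {d : ℤ} (hF : F.IsGenLE d) : VR (toMod (GrSyz.stdGr k σ) ℳ) d := fun i g hg =>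
  FreeMod.V_of_isGenLE F (N := Nat.card σ) (fun X i g hi => Poly.V_of_card_lt X g hi)
    (fun i g h => Poly.V_ring i g h) hF i g hg

theorem mulVec_mem {j : ℕ} (hF : F.IsMinimal (GrSyz.irrel (GrSyz.stdGr k σ)).toIdeal) (w : Fin (F.rk (j + 1)) → (MvPolynomial σ k))
    (p : Fin (F.rk j)) : F.dLin j w p ∈ (GrSyz.irrel (GrSyz.stdGr k σ)).toIdeal :=
  show ∑ q, F.d j p q * w q ∈ _ from sum_mem fun q _ => Ideal.mul_mem_right _ _ (hF j p q)

theorem ker_aug_mem (hF : F.IsMinimal (GrSyz.irrel (GrSyz.stdGr k σ)).toIdeal) (v : Fin (F.rk 0) → (MvPolynomial σ k)) (hv : F.augLin v = 0)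
    (b : Fin (F.rk 0)) : v b ∈ (GrSyz.irrel (GrSyz.stdGr k σ)).toIdeal := by
  obtain ⟨w, rfl⟩ := F.exact_zero.le (LinearMap.mem_ker.2 hv)
  exact mulVec_mem F hF w b

theorem ker_d_mem (hF : F.IsMinimal (GrSyz.irrel (GrSyz.stdGr k σ)).toIdeal) (j : ℕ) (v : Fin (F.rk (j + 1)) → (MvPolynomial σ k))
    (hv : F.dLin j v = 0) (b : Fin (F.rk (j + 1))) : v b ∈ (GrSyz.irrel (GrSyz.stdGr k σ)).toIdeal := by
  obtain ⟨w, rfl⟩ := (F.exact_succ j).le (LinearMap.mem_ker.2 hv)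
  exact mulVec_mem F hF w b

theorem finite_syz (j : ℕ) : Module.Finite (MvPolynomial σ k) (syz F j).carrier :=
  have h : IsNoetherian (MvPolynomial σ k) (Fin (F.rk j) → (MvPolynomial σ k)) := inferInstance
  Module.Finite.iff_fg.2 (h.noetherian _)

theorem isGenLE_iff [Module.Finite (MvPolynomial σ k) M] (hF : F.IsMinimal (GrSyz.irrel (GrSyz.stdGr k σ)).toIdeal) {d : ℤ} :
    F.IsGenLE d ↔ VR (toMod (GrSyz.stdGr k σ) ℳ) d := by
  refine ⟨VR_of_isGenLE F, fun h => ?_⟩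
  haveI : Module.Finite (MvPolynomial σ k) (toMod (GrSyz.stdGr k σ) ℳ).carrier := ‹Module.Finite (MvPolynomial σ k) M›
  have h0 : ∀ b, F.deg 0 b ≤ d := deg_le (X := toMod (GrSyz.stdGr k σ) ℳ) (φ := augMap F) (ses_zero F).grHom_π
    (ses_zero F).surjective (fun v hv => ker_aug_mem F hF v hv) h
  have key : ∀ j, VR (syz F j) (d + j + 1) := by
    intro j
    induction j with
    | zero => simpa using VR_kernel h0 (ses_zero F) h
    | succ j ih =>
      haveI := finite_syz F j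
      have h1 : ∀ b, F.deg (j + 1) b ≤ d + j + 1 := deg_le (X := syz F j)
        (φ := (dMap F j).rangeRestrict) (ses_step F j).grHom_π
        (ses_step F j).surjective (fun v hv => ker_d_mem F hF j v (congrArg Subtype.val hv)) ih
      have h2 := VR_kernel h1 (ses_step F j) ih
      rwa [show d + ((j + 1 : ℕ) : ℤ) + 1 = d + j + 1 + 1 by push_cast; ring]
  intro j b
  cases j with
  | zero => simpa using h0 b
  | succ j =>
    haveI := finite_syz F j
    have h1 := deg_le (X := syz F j) (φ := (dMap F j).rangeRestrict) (ses_step F j).grHom_π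
      (ses_step F j).surjective (fun v hv => ker_d_mem F hF j v (congrArg Subtype.val hv)) (key j) b
    push_cast
    omega

theorem isRegLE_iff [Module.Finite (MvPolynomial σ k) M] {d : ℤ} :
    GrSyz.IsRegLE (GrSyz.stdGr k σ) ℳ (GrSyz.irrel (GrSyz.stdGr k σ)).toIdeal d ↔ VR (toMod (GrSyz.stdGr k σ) ℳ) d := by
  refine ⟨fun ⟨F, hF, hd⟩ => (isGenLE_iff F hF).1 hd, fun h => ?_⟩
  obtain ⟨F, hF⟩ := exists_res (GrSyz.stdGr k σ) ℳ (unitOutside (k := k) (σ := σ))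
  exact ⟨F, hF, (isGenLE_iff F hF).2 h⟩

section Lattice

theorem iInf_le_eq (x : WithBot (WithTop ℤ)) :
    ⨅ (r : ℤ) (_ : x ≤ ((r : WithTop ℤ) : WithBot (WithTop ℤ))),
      ((r : WithTop ℤ) : WithBot (WithTop ℤ)) = x := by
  refine le_antisymm ?_ (le_iInf₂ fun r hr => hr)
  induction x using WithBot.recBotCoe with
  | bot =>
    rw [le_bot_iff, iInf_eq_bot]
    intro b hb
    induction b using WithBot.recBotCoe with
    | bot => exact absurd hb (lt_irrefl _)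
    | coe y =>
      induction y using WithTop.recTopCoe with
      | top =>
        exact ⟨0, lt_of_le_of_lt (iInf_le _ bot_le) (WithBot.coe_lt_coe.2 (WithTop.coe_lt_top _))⟩
      | coe z =>
        exact ⟨z - 1, lt_of_le_of_lt (iInf_le _ bot_le)
          (WithBot.coe_lt_coe.2 (WithTop.coe_lt_coe.2 (by omega)))⟩
  | coe y =>
    induction y using WithTop.recTopCoe with
    | top => exact le_top
    | coe z => exact iInf₂_le (f := fun (r : ℤ) (_ : _) => ((r : WithTop ℤ) : WithBot (WithTop ℤ))) z le_rfl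

theorem reg_eq_of [Module.Finite (MvPolynomial σ k) M] {x : WithBot (WithTop ℤ)}
    (hx : ∀ r : ℤ, x ≤ ((r : WithTop ℤ) : WithBot (WithTop ℤ)) ↔ VR (toMod (GrSyz.stdGr k σ) ℳ) r) :
    GrSyz.reg (GrSyz.stdGr k σ) ℳ (GrSyz.irrel (GrSyz.stdGr k σ)).toIdeal = x := by
  refine Eq.trans (iInf_congr fun r => ?_) (iInf_le_eq x)
  exact iInf_congr_Prop (isRegLE_iff.trans (hx r).symm) fun _ => rfl

theorem reg_le_iff [Module.Finite (MvPolynomial σ k) M] {r : ℤ} :
    GrSyz.reg (GrSyz.stdGr k σ) ℳ (GrSyz.irrel (GrSyz.stdGr k σ)).toIdeal ≤ ((r : WithTop ℤ) : WithBot (WithTop ℤ)) ↔ VR (toMod (GrSyz.stdGr k σ) ℳ) r := by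
  obtain ⟨E⟩ := Res.nonempty_starInjRes (GrSyz.stdGr k σ) ℳ
  have hx : ∀ r : ℤ, (⨆ i : ℕ, GrLC.endDeg (E.Hgr (GrSyz.irrel (GrSyz.stdGr k σ)) i) + (((i : ℤ) : WithTop ℤ) : WithBot (WithTop ℤ)))
      ≤ ((r : WithTop ℤ) : WithBot (WithTop ℤ)) ↔ VR (toMod (GrSyz.stdGr k σ) ℳ) r := fun r => by
    simp only [iSup_le_iff, IntGraded.endDeg_add_le_iff]
    exact forall_congr' fun i => forall_congr' fun n => imp_congr Iff.rfl (V_toMod_iff E).symm
  rw [reg_eq_of hx]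
  exact hx r

theorem VR_iff_endDeg (E : GrLC.StarInjRes (GrSyz.stdGr k σ) ℳ) {d : ℤ} :
    VR (toMod (GrSyz.stdGr k σ) ℳ) d ↔ ∀ i : ℕ, GrLC.endDeg (E.Hgr (GrSyz.irrel (GrSyz.stdGr k σ)) i) +
      (((i : ℤ) : WithTop ℤ) : WithBot (WithTop ℤ)) ≤ ((d : WithTop ℤ) : WithBot (WithTop ℤ)) := by
  simp only [IntGraded.endDeg_add_le_iff]
  exact forall_congr' fun i => forall_congr' fun n => imp_congr Iff.rfl (V_toMod_iff E)

theorem VR_iff_diag (E : GrLC.StarInjRes (GrSyz.stdGr k σ) ℳ) {d : ℤ} :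
    VR (toMod (GrSyz.stdGr k σ) ℳ) d ↔ (GrLC.endDeg (E.Hgr (GrSyz.irrel (GrSyz.stdGr k σ)) 0) ≤ ((d : WithTop ℤ) : WithBot (WithTop ℤ)) ∧
      ∀ i : ℕ, 0 < i → E.Hcomp (GrSyz.irrel (GrSyz.stdGr k σ)) i (d - (i : ℤ) + 1) = ⊥) := by
  rw [IntGraded.endDeg_le_iff]
  constructor
  · intro h
    refine ⟨fun n hn => (V_toMod_iff E).1 (h 0 n (by simpa using hn)), fun i _ => ?_⟩
    exact (LES.Hcomp_eq_bot_iff (GrSyz.irrel (GrSyz.stdGr k σ)) E i _).2 ((V_toMod_iff E).1 (h i _ (by omega)))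
  · rintro ⟨h0, h1⟩ i n hn
    rcases Nat.eq_zero_or_pos i with rfl | hi
    · exact (V_toMod_iff E).2 (h0 n (by simpa using hn))
    · have h2 := StdVanish.V_diag (X := toMod (GrSyz.stdGr k σ) ℳ) Poly.irrel_eq_span_one (r := d) (l := 1) le_rfl
        (fun j hj => by
          rw [show d + 1 - (j : ℤ) = d - j + 1 by ring]
          exact (V_toMod_iff E).2 ((LES.Hcomp_eq_bot_iff (GrSyz.irrel (GrSyz.stdGr k σ)) E j _).1 (h1 j hj))) i hi (s := n + i) (by omega)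
      rwa [add_sub_cancel_right] at h2

end Lattice

end Groth.Agent.Lib.Graded.Reg
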