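import Groth.Prelude.Def_GrLC
import Mathlib.RingTheory.GradedAlgebra.Homogeneous.Ideal
import Mathlib.RingTheory.Ideal.Maps
import Mathlib.LinearAlgebra.Prod
import Mathlib.LinearAlgebra.Pi

/-!
# Elementary lemmas about graded modules

Homogeneous components, homogeneous submodules, gradings on submodules, quotients, shifts and
finite products, over a ring graded by an additive commutative group.
-/

universe u

set_option linter.unusedSectionVars false

open DirectSum

namespace Groth.Agent.Lib.Graded.Basic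

section Proj

variable {ι : Type} [DecidableEq ι] {M : Type u} [AddCommGroup M] {τ : Type u} [SetLike τ M]
  [AddSubgroupClass τ M] (ℳ : ι → τ) [DirectSum.Decomposition ℳ]

/-- The homogeneous component of degree `g`. -/
noncomputable def proj (g : ι) : M →+ M where
  toFun x := (decompose ℳ x g : M)
  map_zero' := by simp
  map_add' x y := by simp

theorem proj_apply (g : ι) (x : M) : proj ℳ g x = (decompose ℳ x g : M) := rfl

theorem proj_mem (g : ι) (x : M) : proj ℳ g x ∈ ℳ g := (decompose ℳ x g).2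

theorem proj_of_mem {g : ι} {x : M} (hx : x ∈ ℳ g) : proj ℳ g x = x :=
  decompose_of_mem_same ℳ hx

theorem proj_of_mem_ne {g h : ι} {x : M} (hx : x ∈ ℳ h) (hne : h ≠ g) : proj ℳ g x = 0 :=
  decompose_of_mem_ne ℳ hx hne

/-- The support of the decomposition. -/
noncomputable def supp (x : M) : Finset ι :=
  letI := fun (i : ι) (y : ℳ i) => Classical.dec (y ≠ 0)
  (decompose ℳ x).support

theorem mem_supp {g : ι} {x : M} : g ∈ supp ℳ x ↔ proj ℳ g x ≠ 0 := by
  classical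
  simp [supp, proj_apply]

theorem sum_proj (x : M) : ∑ g ∈ supp ℳ x, proj ℳ g x = x := by
  letI := fun (i : ι) (y : ℳ i) => Classical.dec (y ≠ 0)
  exact DirectSum.sum_support_decompose ℳ x

theorem eq_zero_of_proj {x : M} (h : ∀ g, proj ℳ g x = 0) : x = 0 := by
  rw [← sum_proj ℳ x]
  exact Finset.sum_eq_zero fun g _ => h g

theorem eq_of_proj {x y : M} (h : ∀ g, proj ℳ g x = proj ℳ g y) : x = y :=
  sub_eq_zero.1 (eq_zero_of_proj ℳ fun g => by rw [map_sub, h g, sub_self])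

theorem exists_proj_ne_zero {x : M} (h : x ≠ 0) : ∃ g, proj ℳ g x ≠ 0 := by
  by_contra hc
  exact h (eq_zero_of_proj ℳ fun g => not_not.1 fun hg => hc ⟨g, hg⟩)

theorem induction_hom {p : M → Prop} (zero : p 0) (hom : ∀ g, ∀ x ∈ ℳ g, p x)
    (add : ∀ x y, p x → p y → p (x + y)) (x : M) : p x :=
  DirectSum.Decomposition.inductionOn ℳ zero (fun {i} m => hom i m m.2) add x

theorem eq_zero_of_mem_mem {g h : ι} {x : M} (hg : x ∈ ℳ g) (hh : x ∈ ℳ h) (hne : g ≠ h) : x = 0 := by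
  rw [← proj_of_mem ℳ hh]
  exact proj_of_mem_ne ℳ hg hne

end Proj

section Construct

variable {ι : Type} [DecidableEq ι] {N : Type u} [AddCommGroup N] {τ : Type u} [SetLike τ N]
  [AddSubgroupClass τ N] (𝒩 : ι → τ)

/-- A criterion for a family of subgroups to be a grading: it spans, and there are projections. -/
theorem isInternal_of_proj (π : ι → N →+ N) (h1 : ∀ g, ∀ x ∈ 𝒩 g, π g x = x)
    (h2 : ∀ g h, h ≠ g → ∀ x ∈ 𝒩 h, π g x = 0)
    (htop : ∀ x : N, x ∈ (DirectSum.coeAddMonoidHom 𝒩).range) :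
    DirectSum.IsInternal 𝒩 := by
  refine ⟨?_, fun x => ?_⟩
  · refine (injective_iff_map_eq_zero _).2 fun v hv => ?_
    ext g
    have key : ∀ v : ⨁ i, 𝒩 i, π g (DirectSum.coeAddMonoidHom 𝒩 v) = (v g : N) := by
      intro v
      induction v using DirectSum.induction_on with
      | zero => simp
      | of i y =>
        rw [DirectSum.coeAddMonoidHom_of]
        rcases eq_or_ne i g with rfl | hne
        · rw [h1 _ _ y.2, DirectSum.of_eq_same]
        · rw [h2 g i hne _ y.2, DirectSum.of_eq_of_ne _ _ _ hne.symm, ZeroMemClass.coe_zero]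
      | add a b ha hb => simp [ha, hb]
    rw [← key v, hv, map_zero]
    simp
  · obtain ⟨v, hv⟩ := htop x
    exact ⟨v, hv⟩

/-- The grading attached to projections. -/
@[instance_reducible]
noncomputable def decompositionOfProj (π : ι → N →+ N) (h1 : ∀ g, ∀ x ∈ 𝒩 g, π g x = x)
    (h2 : ∀ g h, h ≠ g → ∀ x ∈ 𝒩 h, π g x = 0)
    (htop : ∀ x : N, x ∈ (DirectSum.coeAddMonoidHom 𝒩).range) : DirectSum.Decomposition 𝒩 :=
  (isInternal_of_proj 𝒩 π h1 h2 htop).chooseDecomposition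

theorem proj_eq_of_isDecomp [DirectSum.Decomposition 𝒩] (π : ι → N →+ N)
    (h1 : ∀ g, ∀ x ∈ 𝒩 g, π g x = x) (h2 : ∀ g h, h ≠ g → ∀ x ∈ 𝒩 h, π g x = 0) (g : ι) (x : N) :
    proj 𝒩 g x = π g x := by
  induction x using induction_hom 𝒩 with
  | zero => simp
  | hom h x hx =>
    rcases eq_or_ne h g with rfl | hne
    · rw [proj_of_mem 𝒩 hx, h1 _ _ hx]
    · rw [proj_of_mem_ne 𝒩 hx hne, h2 g h hne x hx]
  | add a b ha hb => simp [ha, hb]

end Construct

section Graded

variable {ι : Type} [AddCommGroup ι] [DecidableEq ι]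
variable {R : Type u} [CommRing R] {σ : Type u} [SetLike σ R] [AddSubgroupClass σ R]
variable (𝒜 : ι → σ) [GradedRing 𝒜]
variable {M : Type u} [AddCommGroup M] [Module R M] {τ : Type u} [SetLike τ M] [AddSubgroupClass τ M]
variable (ℳ : ι → τ) [DirectSum.Decomposition ℳ] [SetLike.GradedSMul 𝒜 ℳ]

omit [DirectSum.Decomposition ℳ] [AddSubgroupClass τ M] [AddSubgroupClass σ R] in
theorem smul_mem_add {r : R} {x : M} {i j : ι} (hr : r ∈ 𝒜 i) (hx : x ∈ ℳ j) :
    r • x ∈ ℳ (i + j) :=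
  SetLike.GradedSMul.smul_mem (A := 𝒜) (B := ℳ) hr hx

omit [DirectSum.Decomposition ℳ] [AddSubgroupClass τ M] [AddSubgroupClass σ R] in
theorem smul_mem' {r : R} {x : M} {i j k : ι} (hr : r ∈ 𝒜 i) (hx : x ∈ ℳ j) (h : i + j = k) :
    r • x ∈ ℳ k :=
  h ▸ smul_mem_add 𝒜 ℳ hr hx

theorem proj_smul_of_mem {r : R} {i : ι} (hr : r ∈ 𝒜 i) (g : ι) (x : M) :
    proj ℳ g (r • x) = r • proj ℳ (g - i) x := by
  induction x using induction_hom ℳ with
  | zero => simp
  | hom h x hx =>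
    have hm := smul_mem_add 𝒜 ℳ hr hx
    rcases eq_or_ne h (g - i) with rfl | hne
    · rw [proj_of_mem ℳ hx, proj_of_mem ℳ]
      simpa using hm
    · rw [proj_of_mem_ne ℳ hx hne, proj_of_mem_ne ℳ hm, smul_zero]
      intro hc
      exact hne (by rw [← hc, add_sub_cancel_left])
  | add a b ha hb => simp only [smul_add, map_add, ha, hb]

theorem proj_smul_mem {r : R} {x : M} {j : ι} (hx : x ∈ ℳ j) (g : ι) :
    proj ℳ g (r • x) = proj 𝒜 (g - j) r • x := by
  induction r using induction_hom 𝒜 with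
  | zero => simp
  | hom i r hr =>
    rw [proj_smul_of_mem 𝒜 ℳ hr]
    rcases eq_or_ne i (g - j) with rfl | hne
    · rw [proj_of_mem 𝒜 hr, proj_of_mem ℳ]
      simpa using hx
    · rw [proj_of_mem_ne 𝒜 hr hne, zero_smul, proj_of_mem_ne ℳ hx, smul_zero]
      intro hc
      exact hne (by rw [hc]; abel)
  | add a b ha hb => simp only [add_smul, map_add, ha, hb]

include 𝒜 in
/-- A submodule spanned by homogeneous elements is homogeneous. -/
theorem isHomogeneous_span {s : Set M} (hs : ∀ x ∈ s, ∃ g, x ∈ ℳ g) :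
    (Submodule.span R s).IsHomogeneous ℳ := by
  intro g x hx
  change proj ℳ g x ∈ Submodule.span R s
  induction hx using Submodule.span_induction generalizing g with
  | mem y hy =>
    obtain ⟨h, hy'⟩ := hs y hy
    rcases eq_or_ne h g with rfl | hne
    · rw [proj_of_mem ℳ hy']; exact Submodule.subset_span hy
    · rw [proj_of_mem_ne ℳ hy' hne]; exact zero_mem _
  | zero => simp
  | add a b _ _ ha hb => rw [map_add]; exact add_mem (ha g) (hb g)
  | smul r a _ ha =>
    induction r using induction_hom 𝒜 generalizing g with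
    | zero => simp
    | hom i r hr => rw [proj_smul_of_mem 𝒜 ℳ hr]; exact Submodule.smul_mem _ _ (ha _)
    | add r₁ r₂ h₁ h₂ => rw [add_smul, map_add]; exact add_mem (h₁ g) (h₂ g)

end Graded

section Homog

variable {ι : Type} [DecidableEq ι] {R : Type u} [Ring R]
variable {M : Type u} [AddCommGroup M] [Module R M] {τ : Type u} [SetLike τ M] [AddSubgroupClass τ M]
variable {ℳ : ι → τ} [DirectSum.Decomposition ℳ]

theorem proj_mem_of_isHomogeneous {P : Submodule R M} (hP : P.IsHomogeneous ℳ) (g : ι) {x : M}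
    (hx : x ∈ P) : proj ℳ g x ∈ P := hP g hx

theorem isHomogeneous_top : (⊤ : Submodule R M).IsHomogeneous ℳ := fun _ _ _ => trivial

theorem isHomogeneous_bot : (⊥ : Submodule R M).IsHomogeneous ℳ := by
  intro g x hx
  have : x = 0 := by simpa using hx
  simp [this]

theorem isHomogeneous_inf {P Q : Submodule R M} (hP : P.IsHomogeneous ℳ) (hQ : Q.IsHomogeneous ℳ) :
    (P ⊓ Q).IsHomogeneous ℳ := fun g _ hx => ⟨hP g hx.1, hQ g hx.2⟩

theorem isHomogeneous_sup {P Q : Submodule R M} (hP : P.IsHomogeneous ℳ) (hQ : Q.IsHomogeneous ℳ) :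
    (P ⊔ Q).IsHomogeneous ℳ := by
  intro g x hx
  obtain ⟨a, ha, b, hb, rfl⟩ := Submodule.mem_sup.1 hx
  change proj ℳ g (a + b) ∈ P ⊔ Q
  rw [map_add]
  exact add_mem (Submodule.mem_sup_left (hP g ha)) (Submodule.mem_sup_right (hQ g hb))

theorem isHomogeneous_iSup {κ : Sort*} {P : κ → Submodule R M} (hP : ∀ k, (P k).IsHomogeneous ℳ) :
    (⨆ k, P k).IsHomogeneous ℳ := by
  intro g x hx
  change proj ℳ g x ∈ _
  induction hx using Submodule.iSup_induction' with
  | mem k y hy => exact Submodule.mem_iSup_of_mem k (hP k g hy)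
  | zero => simp
  | add a b _ _ ha hb => rw [map_add]; exact add_mem ha hb

theorem exists_hom_mem_ne_zero {P : Submodule R M} (hP : P.IsHomogeneous ℳ) (hne : P ≠ ⊥) :
    ∃ g, ∃ x ∈ ℳ g, x ∈ P ∧ x ≠ 0 := by
  obtain ⟨x, hx, hx0⟩ := P.exists_mem_ne_zero_of_ne_bot hne
  obtain ⟨g, hg⟩ := exists_proj_ne_zero ℳ hx0
  exact ⟨g, proj ℳ g x, proj_mem ℳ g x, hP g hx, hg⟩

theorem le_of_hom {P Q : Submodule R M} (hP : P.IsHomogeneous ℳ)
    (h : ∀ g, ∀ x ∈ ℳ g, x ∈ P → x ∈ Q) : P ≤ Q := by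
  intro x hx
  rw [← sum_proj ℳ x]
  exact sum_mem fun g _ => h g _ (proj_mem ℳ g x) (hP g hx)

end Homog

section GrHom

variable {ι : Type} [AddCommGroup ι] [DecidableEq ι] {R : Type u} [CommRing R]
variable {M : Type u} [AddCommGroup M] [Module R M] {τ : Type u} [SetLike τ M] [AddSubgroupClass τ M]
variable {N : Type u} [AddCommGroup N] [Module R N] {τ' : Type u} [SetLike τ' N] [AddSubgroupClass τ' N]
variable {ℳ : ι → τ} [DirectSum.Decomposition ℳ] {𝒩 : ι → τ'} [DirectSum.Decomposition 𝒩]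

theorem map_proj_deg {f : M →ₗ[R] N} {d : ι} (hf : GrLC.IsGrHomDeg ℳ 𝒩 f d) (g : ι) (x : M) :
    f (proj ℳ g x) = proj 𝒩 (g + d) (f x) := by
  induction x using induction_hom ℳ with
  | zero => simp
  | hom h x hx =>
    rcases eq_or_ne h g with rfl | hne
    · rw [proj_of_mem ℳ hx, proj_of_mem 𝒩 (hf _ _ hx)]
    · rw [proj_of_mem_ne ℳ hx hne, map_zero, proj_of_mem_ne 𝒩 (hf _ _ hx)]
      simpa using hne
  | add a b ha hb => simp only [map_add, ha, hb]

theorem map_proj {f : M →ₗ[R] N} (hf : GrLC.IsGrHom ℳ 𝒩 f) (g : ι) (x : M) :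
    f (proj ℳ g x) = proj 𝒩 g (f x) := by
  induction x using induction_hom ℳ with
  | zero => simp
  | hom h x hx =>
    rcases eq_or_ne h g with rfl | hne
    · rw [proj_of_mem ℳ hx, proj_of_mem 𝒩 (hf _ _ hx)]
    · rw [proj_of_mem_ne ℳ hx hne, map_zero, proj_of_mem_ne 𝒩 (hf _ _ hx) hne]
  | add a b ha hb => simp only [map_add, ha, hb]

theorem isHomogeneous_map {f : M →ₗ[R] N} (hf : GrLC.IsGrHom ℳ 𝒩 f) {P : Submodule R M}
    (hP : P.IsHomogeneous ℳ) : (P.map f).IsHomogeneous 𝒩 := by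
  rintro g y ⟨x, hx, rfl⟩
  exact ⟨proj ℳ g x, hP g hx, map_proj hf g x⟩

theorem isHomogeneous_range {f : M →ₗ[R] N} (hf : GrLC.IsGrHom ℳ 𝒩 f) :
    (LinearMap.range f).IsHomogeneous 𝒩 := by
  rw [← Submodule.map_top]
  exact isHomogeneous_map hf isHomogeneous_top

theorem isHomogeneous_comap {f : M →ₗ[R] N} (hf : GrLC.IsGrHom ℳ 𝒩 f) {Q : Submodule R N}
    (hQ : Q.IsHomogeneous 𝒩) : (Q.comap f).IsHomogeneous ℳ := by
  intro g x hx
  change f (proj ℳ g x) ∈ Q
  rw [map_proj hf]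
  exact hQ g hx

theorem isHomogeneous_ker {f : M →ₗ[R] N} (hf : GrLC.IsGrHom ℳ 𝒩 f) :
    (LinearMap.ker f).IsHomogeneous ℳ :=
  isHomogeneous_comap hf isHomogeneous_bot

/-- A homogeneous element in the image of a graded map has a homogeneous preimage. -/
theorem exists_hom_preimage {f : M →ₗ[R] N} (hf : GrLC.IsGrHom ℳ 𝒩 f) {g : ι} {y : N}
    (hy : y ∈ 𝒩 g) (h : y ∈ LinearMap.range f) : ∃ x ∈ ℳ g, f x = y := by
  obtain ⟨x, rfl⟩ := h
  exact ⟨proj ℳ g x, proj_mem ℳ g x, by rw [map_proj hf, proj_of_mem 𝒩 hy]⟩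

/-- A graded map is zero if it kills homogeneous elements. -/
theorem ext_hom {f₁ f₂ : M →ₗ[R] N} (h : ∀ g, ∀ x ∈ ℳ g, f₁ x = f₂ x) : f₁ = f₂ := by
  ext x
  rw [← sum_proj ℳ x, map_sum, map_sum]
  exact Finset.sum_congr rfl fun g _ => h g _ (proj_mem ℳ g x)

theorem isGrHom_symm {e : M ≃ₗ[R] N} (he : GrLC.IsGrHom ℳ 𝒩 e.toLinearMap) :
    GrLC.IsGrHom 𝒩 ℳ e.symm.toLinearMap := by
  intro g y hy
  have h := map_proj he g (e.symm y)
  simp only [LinearEquiv.coe_coe, LinearEquiv.apply_symm_apply, proj_of_mem 𝒩 hy] at h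
  have h' : e.symm y = proj ℳ g (e.symm y) := by
    conv_lhs => rw [← h, LinearEquiv.symm_apply_apply]
  change e.symm y ∈ ℳ g
  rw [h']
  exact proj_mem ℳ g _

end GrHom

section Comp

variable {ι : Type} [AddCommGroup ι] [DecidableEq ι] {R : Type u} [CommRing R]
variable {M : Type u} [AddCommGroup M] [Module R M] {τ : Type u} [SetLike τ M]
variable {N : Type u} [AddCommGroup N] [Module R N] {τ' : Type u} [SetLike τ' N]
variable {P : Type u} [AddCommGroup P] [Module R P] {τ'' : Type u} [SetLike τ'' P]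
variable {ℳ : ι → τ} {𝒩 : ι → τ'} {𝒬 : ι → τ''}

omit [AddCommGroup ι] [DecidableEq ι] in
theorem isGrHom_id : GrLC.IsGrHom ℳ ℳ (LinearMap.id : M →ₗ[R] M) := fun _ _ h => h

omit [AddCommGroup ι] [DecidableEq ι] in
theorem isGrHom_comp {f : M →ₗ[R] N} {h : N →ₗ[R] P} (hf : GrLC.IsGrHom ℳ 𝒩 f)
    (hh : GrLC.IsGrHom 𝒩 𝒬 h) : GrLC.IsGrHom ℳ 𝒬 (h ∘ₗ f) :=
  fun g m hm => hh g _ (hf g m hm)

end Comp

section Sub

variable {ι : Type} [DecidableEq ι] {R : Type u} [Ring R]
variable {M : Type u} [AddCommGroup M] [Module R M] {τ : Type u} [SetLike τ M] [AddSubgroupClass τ M]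
variable (ℳ : ι → τ) (P : Submodule R M)

/-- The pieces of a submodule. -/
def subGr : ι → AddSubgroup P :=
  fun g => (AddSubgroup.ofClass (ℳ g)).comap P.subtype.toAddMonoidHom

/-- The pieces of a quotient. -/
def qGr : ι → AddSubgroup (M ⧸ P) :=
  fun g => (AddSubgroup.ofClass (ℳ g)).map P.mkQ.toAddMonoidHom

omit [DecidableEq ι] in
theorem mem_subGr {g : ι} {x : P} : x ∈ subGr ℳ P g ↔ (x : M) ∈ ℳ g := Iff.rfl

omit [DecidableEq ι] in
theorem mem_qGr {g : ι} {x : M ⧸ P} : x ∈ qGr ℳ P g ↔ ∃ y ∈ ℳ g, P.mkQ y = x := Iff.rfl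

omit [DecidableEq ι] in
theorem mkQ_mem_qGr {g : ι} {y : M} (hy : y ∈ ℳ g) : P.mkQ y ∈ qGr ℳ P g := ⟨y, hy, rfl⟩

variable [DirectSum.Decomposition ℳ]

/-- The grading of a homogeneous submodule. -/
@[instance_reducible]
noncomputable def subDecomp (hP : P.IsHomogeneous ℳ) : DirectSum.Decomposition (subGr ℳ P) :=
  decompositionOfProj _
    (fun g => ((proj ℳ g).comp P.subtype.toAddMonoidHom).codRestrict P fun x => hP g x.2)
    (fun g x hx => Subtype.ext (proj_of_mem ℳ hx))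
    (fun g h hne x hx => Subtype.ext (proj_of_mem_ne ℳ hx hne))
    (fun x => by
      have hmem : ∀ g, (⟨proj ℳ g x, hP g x.2⟩ : P) ∈ (DirectSum.coeAddMonoidHom (subGr ℳ P)).range :=
        fun g => ⟨DirectSum.of _ g ⟨⟨proj ℳ g x, hP g x.2⟩, proj_mem ℳ g (x : M)⟩, by
          rw [DirectSum.coeAddMonoidHom_of]⟩
      have hx : x = ∑ g ∈ supp ℳ (x : M), (⟨proj ℳ g x, hP g x.2⟩ : P) :=
        Subtype.ext (by rw [Submodule.coe_sum]; exact (sum_proj ℳ (x : M)).symm)
      rw [hx]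
      exact sum_mem fun g _ => hmem g)

/-- The grading of a quotient by a homogeneous submodule. -/
@[instance_reducible]
noncomputable def qDecomp (hP : P.IsHomogeneous ℳ) : DirectSum.Decomposition (qGr ℳ P) :=
  decompositionOfProj _
    (fun g => QuotientAddGroup.lift P.toAddSubgroup (P.mkQ.toAddMonoidHom.comp (proj ℳ g))
      fun x hx => (Submodule.Quotient.mk_eq_zero P).2 (hP g hx))
    (by
      rintro g _ ⟨y, hy, rfl⟩
      exact congrArg P.mkQ (proj_of_mem ℳ hy))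
    (by
      rintro g h hne _ ⟨y, hy, rfl⟩
      exact (congrArg P.mkQ (proj_of_mem_ne ℳ hy hne)).trans (map_zero _))
    (fun x => by
      obtain ⟨y, rfl⟩ := P.mkQ_surjective x
      induction y using induction_hom ℳ with
      | zero => rw [map_zero]; exact zero_mem _
      | hom g y hy =>
        exact ⟨DirectSum.of _ g ⟨_, mkQ_mem_qGr ℳ P hy⟩, by rw [DirectSum.coeAddMonoidHom_of]⟩
      | add a b ha hb => rw [map_add]; exact add_mem ha hb)

omit [DirectSum.Decomposition ℳ] [DecidableEq ι] in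
theorem isGrHom_mkQ {R : Type u} [CommRing R] [AddCommGroup ι] [DecidableEq ι] [Module R M] (P : Submodule R M) :
    GrLC.IsGrHom ℳ (qGr ℳ P) P.mkQ := fun _ _ hy => mkQ_mem_qGr ℳ P hy

omit [DirectSum.Decomposition ℳ] [DecidableEq ι] in
theorem isGrHom_subtype {R : Type u} [CommRing R] [AddCommGroup ι] [DecidableEq ι] [Module R M] (P : Submodule R M) :
    GrLC.IsGrHom (subGr ℳ P) ℳ P.subtype := fun _ _ hy => hy

end Sub

section SubSMul

variable {ι : Type} [AddCommGroup ι] {R : Type u} [CommRing R] {σ : Type u} [SetLike σ R]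
variable (𝒜 : ι → σ)
variable {M : Type u} [AddCommGroup M] [Module R M] {τ : Type u} [SetLike τ M] [AddSubgroupClass τ M]
variable (ℳ : ι → τ) (P : Submodule R M) [SetLike.GradedSMul 𝒜 ℳ]

theorem subGSMul : SetLike.GradedSMul 𝒜 (subGr ℳ P) where
  smul_mem {i j r x} hr hx := show r • (x : M) ∈ ℳ (i + j) from
    SetLike.GradedSMul.smul_mem (A := 𝒜) (B := ℳ) hr hx

theorem qGSMul : SetLike.GradedSMul 𝒜 (qGr ℳ P) where
  smul_mem {i j r x} hr hx := by
    obtain ⟨y, hy, rfl⟩ := (mem_qGr ℳ P).1 hx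
    exact ⟨r • y, SetLike.GradedSMul.smul_mem (A := 𝒜) (B := ℳ) hr hy, map_smul P.mkQ r y⟩

end SubSMul

end Groth.Agent.Lib.Graded.Basic
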