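import Groth.Agent.Lib.Graded.SmulSeq

/-!
# Graded local cohomology vanishes above the number of generators of the ideal
-/

universe u

set_option maxHeartbeats 600000

set_option linter.unusedSectionVars false

open DirectSum

namespace Groth.Agent.Lib.Graded.Bound

open Groth.Agent.Lib.Graded.Basic Groth.Agent.Lib.Graded.StarInj Groth.Agent.Lib.Graded.Van

variable {ι : Type} [AddCommGroup ι] [DecidableEq ι] [Module.Free ℤ ι] [Module.Finite ℤ ι]
variable {R : Type u} [CommRing R] [IsNoetherianRing R] {σ : Type u} [SetLike σ R] [AddSubgroupClass σ R]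
variable {𝒜 : ι → σ} [GradedRing 𝒜] {a : HomogeneousIdeal 𝒜}

theorem eq_zero_of_pow_smul {A : Type u} [AddCommGroup A] [Module R A] {x : R}
    (hinj : ∀ y : A, x • y = 0 → y = 0) : ∀ (m : ℕ) (y : A), x ^ m • y = 0 → y = 0
  | 0, y, h => by rwa [pow_zero, one_smul] at h
  | m + 1, y, h => hinj y (eq_zero_of_pow_smul hinj m _ (by rwa [← mul_smul, ← pow_succ]))

/-- The cohomology of a module on which a homogeneous element of the ideal is bijective vanishes. -/
theorem subsingleton_H_of_bijective {M : Type u} [AddCommGroup M] [Module R M] {τ : Type u}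
    [SetLike τ M] [AddSubgroupClass τ M] {ℳ : ι → τ} [DirectSum.Decomposition ℳ]
    [SetLike.GradedSMul 𝒜 ℳ] {x : R} {k : ι} (hx : x ∈ 𝒜 k) (hxa : x ∈ a.toIdeal)
    (hbij : Function.Bijective fun y : M => x • y) (E : GrLC.StarInjRes 𝒜 ℳ) (i : ℕ) :
    Subsingleton (E.H a i) := by
  letI := qDecomp ℳ _ (SmulSeq.isHomogeneous_range_smul (ℳ := ℳ) hx)
  haveI := qGSMul 𝒜 ℳ (LinearMap.range (x • (LinearMap.id : M →ₗ[R] M)))
  obtain ⟨F⟩ := Res.nonempty_starInjRes 𝒜 (qGr ℳ (LinearMap.range (x • (LinearMap.id : M →ₗ[R] M))))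
  obtain ⟨g, δ, -, -, -, -, hker, h0⟩ := SmulSeq.exists_seq a (ℳ := ℳ) hx hbij.1
    (π := (LinearMap.range (x • (LinearMap.id : M →ₗ[R] M))).mkQ) (fun _ _ hm => mkQ_mem_qGr ℳ _ hm)
    (Submodule.mkQ_surjective _) (Submodule.ker_mkQ _) E F
  refine subsingleton_of_forall_eq 0 fun y => ?_
  obtain ⟨m, hm⟩ : y ∈ GrLC.gam a.toIdeal (E.H a i) := (SmulSeq.gam_H_eq_top a E i).ge trivial
  refine eq_zero_of_pow_smul (x := x) (fun z hz => ?_) m y (hm _ (Ideal.pow_mem_pow hxa m))
  cases i with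
  | zero => exact h0 z hz
  | succ n =>
    have hsub : Subsingleton (M ⧸ LinearMap.range (x • (LinearMap.id : M →ₗ[R] M))) :=
      Submodule.Quotient.subsingleton_iff.2 (LinearMap.range_eq_top.2 hbij.2)
    haveI : Subsingleton (F.H a n) := by
      rcases Nat.eq_zero_or_pos n with rfl | hn
      · exact (Chain.h0Equiv a F).symm.toEquiv.subsingleton
      · exact Torsion.subsingleton_H a
          (eq_top_iff.2 fun w _ => ⟨0, fun r _ => Subsingleton.elim _ _⟩) F n hn
    obtain ⟨w, hw⟩ := (hker n z).1 hz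
    rw [← hw, Subsingleton.elim w 0, map_zero]

theorem V_of_bijective {X : GrLC.GMod.{u} 𝒜} {x : R} {k : ι} (hx : x ∈ 𝒜 k) (hxa : x ∈ a.toIdeal)
    (hbij : Function.Bijective fun y : X.carrier => x • y) (i : ℕ) (d : ι) : V a X i d := fun E => by
  haveI := subsingleton_H_of_bijective hx hxa hbij E i
  exact AddSubgroup.eq_bot_of_subsingleton _

/-- An element acts locally nilpotently. -/
def IsNil (x : R) (A : Type u) [AddCommGroup A] [Module R A] : Prop := ∀ y : A, ∃ n : ℕ, x ^ n • y = 0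

theorem gam_span_singleton {x : R} {A : Type u} [AddCommGroup A] [Module R A] {y : A} {n : ℕ}
    (h : x ^ n • y = 0) : y ∈ GrLC.gam (Ideal.span {x}) A := by
  refine ⟨n, fun r hr => ?_⟩
  rw [Ideal.span_singleton_pow, Ideal.mem_span_singleton'] at hr
  obtain ⟨c, rfl⟩ := hr
  rw [mul_smul, h, smul_zero]

theorem isNil_sub {x : R} {A : Type u} [AddCommGroup A] [Module R A] (P : Submodule R A)
    (h : IsNil x A) : IsNil x P := fun y =>
  let ⟨n, hn⟩ := h y.1
  ⟨n, Subtype.ext hn⟩

theorem isNil_gam {x : R} {J : Ideal R} (hx : x ∈ J) {A : Type u} [AddCommGroup A] [Module R A]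
    {P : Submodule R A} (hP : P = GrLC.gam J A) : IsNil x P := fun y =>
  let ⟨n, hn⟩ := (hP.le y.2 : y.1 ∈ GrLC.gam J A)
  ⟨n, Subtype.ext (hn _ (Ideal.pow_mem_pow hx n))⟩

theorem subMod_isNil {x : R} (X : GrLC.GMod.{u} 𝒜) (P : Submodule R X.carrier)
    (hP : P.IsHomogeneous X.gr) (h : IsNil x P) : IsNil x (subMod 𝒜 X.gr P hP).carrier := h

/-- Vanishing when all but `l` of the generators act locally nilpotently. -/
theorem V_of_nil (gens : List (R × ι)) (hgens : ∀ p ∈ gens, p.1 ∈ 𝒜 p.2)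
    (ha : a.toIdeal = Ideal.span {r | ∃ p ∈ gens, p.1 = r}) :
    ∀ (l : List (R × ι)), (∀ p ∈ l, p ∈ gens) → ∀ (X : GrLC.GMod.{u} 𝒜),
      (∀ p ∈ gens, p ∉ l → IsNil p.1 X.carrier) → ∀ (i : ℕ) (d : ι), l.length < i → V a X i d := by
  intro l
  induction l with
  | nil =>
    intro _ X hnil i d hi
    refine V_torsion (eq_top_iff.2 fun y _ => ?_) hi
    have hle : a.toIdeal ≤ (Submodule.span R {y}).annihilator.radical := by
      rw [ha, Ideal.span_le]
      rintro r ⟨p, hp, rfl⟩
      obtain ⟨n, hn⟩ := hnil p hp (by simp) y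
      exact ⟨n, (Submodule.mem_annihilator_span_singleton _ _).2 hn⟩
    obtain ⟨n, hn⟩ := Ideal.exists_pow_le_of_le_radical_of_fg hle (IsNoetherian.noetherian _)
    exact ⟨n, fun r hr => (Submodule.mem_annihilator_span_singleton _ _).1 (hn hr)⟩
  | cons p l ih =>
    intro hl X hnil i d hi
    have hl' : ∀ q ∈ l, q ∈ gens := fun q hq => hl q (List.mem_cons_of_mem p hq)
    have hp : p.1 ∈ 𝒜 p.2 := hgens p (hl p List.mem_cons_self)
    have hpa : p.1 ∈ a.toIdeal := ha ▸ Ideal.subset_span ⟨p, hl p List.mem_cons_self, rfl⟩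
    simp only [List.length_cons] at hi
    let J : HomogeneousIdeal 𝒜 :=
      ⟨Ideal.span {p.1}, Ideal.homogeneous_span 𝒜 _ (by simpa using ⟨p.2, hp⟩)⟩
    obtain ⟨P, hPdef⟩ : ∃ P : Submodule R X.carrier, P = GrLC.gam J.toIdeal X.carrier := ⟨_, rfl⟩
    have hP : P.IsHomogeneous X.gr := hPdef ▸ Res.isHomogeneous_gam 𝒜 X.gr J
    have hnilP : ∀ q ∈ gens, q ∉ l → IsNil q.1 (subMod 𝒜 X.gr P hP).carrier := fun q hq hql =>
      subMod_isNil X P hP (by
        by_cases hqp : q = p
        · exact isNil_gam (J := J.toIdeal) (hqp ▸ Ideal.subset_span rfl) hPdef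
        · exact isNil_sub P (hnil q hq (by simp [hqp, hql])))
    refine V_mid (ses_quot X P hP) (ih hl' _ hnilP i d (by omega)) ?_
    -- the torsion free quotient, inside the submodule where the element becomes invertible
    obtain ⟨Z, hZ⟩ : ∃ Z, Z = qMod 𝒜 X.gr P hP := ⟨_, rfl⟩
    have hreg : ∀ y : Z.carrier, p.1 • y = 0 → y = 0 := by
      subst hZ
      intro y hy
      subst hPdef
      refine (Submodule.eq_bot_iff _).1 (Ass.gam_quot_eq_bot J.toIdeal X.carrier) y
        (gam_span_singleton (n := 1) ?_)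
      rw [pow_one]; exact hy
    have hnilZ : ∀ q ∈ gens, q ∉ p :: l → IsNil q.1 Z.carrier := by
      subst hZ
      intro q hq hql y
      obtain ⟨y, rfl⟩ := P.mkQ_surjective y
      obtain ⟨n, hn⟩ := hnil q hq hql y
      exact ⟨n, (Submodule.Quotient.mk_eq_zero P).2 (show q.1 ^ n • y ∈ P from hn ▸ zero_mem _)⟩
    rw [← hZ]
    obtain ⟨E, f, hf⟩ := exists_hull 𝒜 Z.gr
    have hrange := isHomogeneous_range hf.grHom
    let Q : Submodule R E.carrier :=
      { carrier := {y | ∃ n : ℕ, p.1 ^ n • y ∈ LinearMap.range f}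
        zero_mem' := ⟨0, by simp⟩
        add_mem' := by
          rintro u v ⟨m, hm⟩ ⟨n, hn⟩
          refine ⟨m + n, ?_⟩
          rw [smul_add]
          refine add_mem ?_ ?_
          · rw [pow_add, mul_comm, mul_smul]; exact Submodule.smul_mem _ _ hm
          · rw [pow_add, mul_smul]; exact Submodule.smul_mem _ _ hn
        smul_mem' := by
          rintro c u ⟨n, hn⟩
          exact ⟨n, by rw [smul_comm]; exact Submodule.smul_mem _ _ hn⟩ }
    have hQ : Q.IsHomogeneous E.gr := by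
      rintro g y ⟨n, hn⟩
      refine ⟨n, ?_⟩
      have h := proj_mem_of_isHomogeneous hrange (n • p.2 + g) hn
      rwa [proj_smul_of_mem 𝒜 E.gr (SetLike.pow_mem_graded n hp), add_sub_cancel_left] at h
    have hinjE : ∀ y : E.carrier, p.1 • y = 0 → y = 0 := by
      intro y hy
      by_contra hy0
      obtain ⟨_, r, -, hr0, w, hw⟩ := exists_smul_mem_range (𝒜 := 𝒜) hf.toIsStarEss y hy0
      refine hr0 ?_
      rw [← hw, hreg w (hf.injective ?_), map_zero]
      rw [map_smul, hw, smul_comm, hy, smul_zero, map_zero]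
    have hfQ : ∀ w, f w ∈ Q := fun w => ⟨0, by rw [pow_zero, one_smul]; exact LinearMap.mem_range_self f w⟩
    have hinjQ : Function.Injective fun y : Q => p.1 • y := fun u v huv =>
      Subtype.ext (sub_eq_zero.1 (hinjE _ (by
        rw [smul_sub, sub_eq_zero]; exact congrArg Subtype.val huv)))
    have hsurjQ : Function.Surjective fun y : Q => p.1 • y := by
      -- multiplication is surjective on the envelope, hence on this submodule
      rintro ⟨y, n, hn⟩
      let mul : E.carrier →ₗ[R] E.carrier := p.1 • LinearMap.id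
      have hmul : GrLC.IsGrHom (shiftMod 𝒜 E.gr (-p.2)).gr (toMod 𝒜 E.gr).gr mul := fun j z hz =>
        (mem_toMod 𝒜 E.gr).2 (smul_mem' 𝒜 E.gr hp (show z ∈ E.gr (j + -p.2) from hz) (by abel))
      have hmulinj : Function.Injective mul := fun u v huv => sub_eq_zero.1 (hinjE _ (by
          rw [smul_sub, sub_eq_zero]; exact huv))
      obtain ⟨h, hh, hc⟩ : ∃ h : E.carrier →ₗ[R] E.carrier,
          GrLC.IsGrHom (toMod 𝒜 E.gr).gr (shiftMod 𝒜 E.gr (-p.2)).gr h ∧ h.comp mul = LinearMap.id :=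
        isStarInj_shiftMod hf.starInj (-p.2) (shiftMod 𝒜 E.gr (-p.2))
          (toMod 𝒜 E.gr) mul hmul hmulinj LinearMap.id (fun _ _ hz => hz)
      have hker : (LinearMap.ker h).IsHomogeneous E.gr := by
        intro g z hz
        have h1 : GrLC.IsGrHomDeg E.gr E.gr h (-p.2) := fun j x hx => hh j x ((mem_toMod 𝒜 E.gr).2 hx)
        have h2 := map_proj_deg h1 g z
        rw [LinearMap.mem_ker.1 hz, map_zero] at h2
        exact LinearMap.mem_ker.2 (by simpa [proj_apply] using h2)
      have hk0 : LinearMap.ker h = ⊥ := by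
        by_contra hne
        obtain ⟨z, ⟨hz, w, rfl⟩, hz0⟩ := (Submodule.ne_bot_iff _).1 (hf.essential _ hker hne)
        refine hz0 (hinjE _ ?_)
        have h2 : h (mul (f w)) = f w := LinearMap.congr_fun hc (f w)
        have h3 : h (mul (f w)) = 0 := by
          rw [show mul (f w) = p.1 • f w from rfl, map_smul, LinearMap.mem_ker.1 hz, smul_zero]
        rw [← h2, h3, smul_zero]
      have hy : p.1 • h y = y := LinearMap.ker_eq_bot.1 hk0 (LinearMap.congr_fun hc (h y))
      exact ⟨⟨h y, n + 1, by rw [pow_succ, mul_smul, hy]; exact hn⟩, Subtype.ext hy⟩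
    let E' := subMod 𝒜 E.gr Q hQ
    let f' : Z.carrier →ₗ[R] E'.carrier := f.codRestrict Q hfQ
    have hf' : GrLC.IsGrHom Z.gr E'.gr f' := fun g z hz => hf.grHom g z hz
    have hses : Horseshoe.SES Z.gr E'.gr (qMod 𝒜 E'.gr _ (isHomogeneous_range hf')).gr f'
        (LinearMap.range f').mkQ :=
      ⟨hf', fun g z hz => mkQ_mem_qGr E'.gr _ hz, fun u v huv => hf.injective (congrArg Subtype.val huv),
        Submodule.mkQ_surjective _, Submodule.ker_mkQ _⟩
    obtain ⟨i, rfl⟩ := Nat.exists_eq_add_of_le' (show 1 ≤ i by omega)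
    refine V_left hses (ih hl' _ (fun q hq hql z => ?_) i d (by omega))
      (V_of_bijective hp hpa ⟨hinjQ, hsurjQ⟩ (i + 1) d)
    obtain ⟨⟨y, n, w, hw⟩, rfl⟩ := Submodule.mkQ_surjective _ z
    by_cases hqp : q = p
    · subst hqp
      refine ⟨n, (Submodule.Quotient.mk_eq_zero _).2 ?_⟩
      exact ⟨w, Subtype.ext hw⟩
    · obtain ⟨N, hN⟩ := hnilZ q hq (by simp [hqp, hql]) w
      refine ⟨N, ?_⟩
      have hy0 : q.1 ^ N • y = 0 := eq_zero_of_pow_smul hinjE n _ (by
        rw [smul_comm, ← hw, ← map_smul, hN, map_zero])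
      refine (Submodule.Quotient.mk_eq_zero _).2 ?_
      convert zero_mem (LinearMap.range f')
      exact Subtype.ext hy0

/-- Graded local cohomology vanishes above the number of homogeneous generators. -/
theorem V_of_length_lt (gens : List (R × ι)) (hgens : ∀ p ∈ gens, p.1 ∈ 𝒜 p.2)
    (ha : a.toIdeal = Ideal.span {r | ∃ p ∈ gens, p.1 = r}) (X : GrLC.GMod.{u} 𝒜) (i : ℕ) (d : ι)
    (hi : gens.length < i) : V a X i d :=
  V_of_nil gens hgens ha gens (fun _ h => h) X (fun p hp hn => absurd hp hn) i d hi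

end Groth.Agent.Lib.Graded.Bound
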