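import Groth.Prelude.Def_GrSyz
import Groth.Agent.Lib.Graded.Bound

/-!
# Graded free modules and the syzygies of a graded free resolution
-/

universe u

set_option maxHeartbeats 600000

set_option linter.unusedSectionVars false

open DirectSum

namespace Groth.Agent.Lib.Graded.FreeMod

open Groth.Agent.Lib.Graded.Basic Groth.Agent.Lib.Graded.StarInj Groth.Agent.Lib.Graded.Van

variable {R : Type u} [CommRing R] {σ : Type u} [SetLike σ R] [AddSubgroupClass σ R]
variable (𝒜 : ℤ → σ) [GradedRing 𝒜]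

section Free

variable {n : ℕ} (deg : Fin n → ℤ)

/-- The pieces of a graded free module. -/
def freeGr : ℤ → AddSubgroup (Fin n → R) :=
  fun g => AddSubgroup.pi Set.univ fun b => AddSubgroup.ofClass (𝒜 (g - deg b))

theorem mem_freeGr {g : ℤ} {v : Fin n → R} : v ∈ freeGr 𝒜 deg g ↔ ∀ b, v b ∈ 𝒜 (g - deg b) := by
  simp [freeGr, AddSubgroup.mem_pi, AddSubgroup.ofClass]

theorem single_mem {b : Fin n} {r : R} {e : ℤ} (hr : r ∈ 𝒜 e) :
    Pi.single b r ∈ freeGr 𝒜 deg (e + deg b) := by
  refine (mem_freeGr 𝒜 deg).2 fun c => ?_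
  rcases eq_or_ne c b with rfl | h
  · rw [Pi.single_eq_same, add_sub_cancel_right]; exact hr
  · rw [Pi.single_eq_of_ne h]; exact zero_mem _

/-- The projections of a graded free module. -/
noncomputable def freeProj (g : ℤ) : (Fin n → R) →+ (Fin n → R) :=
  AddMonoidHom.pi fun b => (proj 𝒜 (g - deg b)).comp (Pi.evalAddMonoidHom (fun _ => R) b)

/-- The grading of a graded free module. -/
@[instance_reducible]
noncomputable def freeDecomp : DirectSum.Decomposition (freeGr 𝒜 deg) :=
  decompositionOfProj _ (freeProj 𝒜 deg)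
    (fun _ _ hv => funext fun b => proj_of_mem 𝒜 ((mem_freeGr 𝒜 deg).1 hv b))
    (fun _ _ hne _ hv => funext fun b =>
      proj_of_mem_ne 𝒜 ((mem_freeGr 𝒜 deg).1 hv b) (by simpa using hne))
    (fun v => by
      rw [← Finset.univ_sum_single v]
      refine sum_mem fun b _ => ?_
      induction v b using induction_hom 𝒜 with
      | zero => rw [Pi.single_zero]; exact zero_mem _
      | hom e r hr => exact mem_coe_range _ (single_mem 𝒜 deg hr)
      | add p q hp hq => rw [Pi.single_add]; exact add_mem hp hq)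

theorem freeGSMul : SetLike.GradedSMul 𝒜 (freeGr 𝒜 deg) where
  smul_mem {i j r v} hr hv := (mem_freeGr 𝒜 deg).2 fun b => by
    have h := SetLike.mul_mem_graded hr ((mem_freeGr 𝒜 deg).1 hv b)
    rw [show i + (j - deg b) = i + j - deg b by ring] at h
    exact h

/-- A graded free module. -/
noncomputable def freeMod : GrLC.GMod.{u} 𝒜 :=
  letI := freeDecomp 𝒜 deg
  haveI := freeGSMul 𝒜 deg
  GrLC.GMod.of 𝒜 (Fin n → R) (freeGr 𝒜 deg)

theorem mem_freeMod {g : ℤ} {v : Fin n → R} :
    (v : (freeMod 𝒜 deg).carrier) ∈ (freeMod 𝒜 deg).gr g ↔ ∀ b, v b ∈ 𝒜 (g - deg b) :=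
  mem_freeGr 𝒜 deg

end Free

section Split

variable {n : ℕ} (deg : Fin (n + 1) → ℤ)

theorem ses_succ :
    Horseshoe.SES (shiftMod 𝒜 (toMod 𝒜 𝒜).gr (-deg 0)).gr (freeMod 𝒜 deg).gr
      (freeMod 𝒜 (deg ∘ Fin.succ)).gr (LinearMap.single R (fun _ : Fin (n + 1) => R) 0)
      (LinearMap.funLeft R R Fin.succ) where
  grHom_i g r hr := by
    have h : r ∈ 𝒜 (g + -deg 0) := (mem_toMod 𝒜 𝒜).1 hr
    refine (mem_freeMod 𝒜 deg).2 ?_
    have h1 := (mem_freeGr 𝒜 deg).1 (single_mem 𝒜 deg (b := 0) h)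
    intro c
    have h2 := h1 c
    rwa [show g + -deg 0 + deg 0 - deg c = g - deg c by ring] at h2
  grHom_π g v hv := (mem_freeMod 𝒜 _).2 fun b => (mem_freeMod 𝒜 deg).1 hv b.succ
  injective _ _ h := Pi.single_injective (M := fun _ : Fin (n + 1) => R) 0 h
  surjective w := ⟨Fin.cons 0 w, funext fun b => by simp [LinearMap.funLeft]⟩
  exact := by
    ext v
    simp only [LinearMap.mem_ker, LinearMap.mem_range]
    constructor
    · intro h
      refine ⟨v 0, funext fun c => ?_⟩
      refine Fin.cases ?_ (fun b => ?_) c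
      · simp
      · have := congrFun h b
        simpa [LinearMap.funLeft] using this.symm
    · rintro ⟨r, rfl⟩
      funext b
      simp [LinearMap.funLeft]

end Split

variable {𝒜} [IsNoetherianRing R] {a : HomogeneousIdeal 𝒜}

theorem V_free : ∀ {n : ℕ} (deg : Fin n → ℤ) {i : ℕ} {g : ℤ},
    (∀ b, V a (toMod 𝒜 𝒜) i (g - deg b)) → V a (freeMod 𝒜 deg) i g := by
  intro n
  induction n with
  | zero => intro deg i g _; exact V_of_subsingleton (inferInstanceAs (Subsingleton (Fin 0 → R)))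
  | succ n ih =>
    intro deg i g h
    refine V_mid (ses_succ 𝒜 deg) ?_ (ih _ fun b => h b.succ)
    refine (V_shift_iff _).2 ?_
    rw [← sub_eq_add_neg]
    exact h 0

section Maps

variable {m n : ℕ} {dm : Fin m → ℤ} {dn : Fin n → ℤ}

theorem isGrHom_mulVecLin {D : Matrix (Fin m) (Fin n) R} (hD : ∀ a b, D a b ∈ 𝒜 (dn b - dm a)) :
    GrLC.IsGrHom (freeMod 𝒜 dn).gr (freeMod 𝒜 dm).gr D.mulVecLin := by
  intro g v hv
  refine (mem_freeMod 𝒜 dm).2 fun p => ?_
  change ∑ q, D p q * v q ∈ _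
  refine sum_mem fun q _ => ?_
  have h := SetLike.mul_mem_graded (hD p q) ((mem_freeMod 𝒜 dn).1 hv q)
  rwa [show dn q - dm p + (g - dn q) = g - dm p by ring] at h

variable {M : Type u} [AddCommGroup M] [Module R M] {τ : Type u} [SetLike τ M] [AddSubgroupClass τ M]
variable {ℳ : ℤ → τ} [DirectSum.Decomposition ℳ] [SetLike.GradedSMul 𝒜 ℳ]

theorem isGrHom_linearCombination {x : Fin n → M} (hx : ∀ b, x b ∈ ℳ (dn b)) :
    GrLC.IsGrHom (freeMod 𝒜 dn).gr ℳ (Fintype.linearCombination R x) := by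
  intro g v hv
  rw [Fintype.linearCombination_apply]
  exact sum_mem fun b _ =>
    smul_mem' 𝒜 ℳ ((mem_freeMod 𝒜 dn).1 hv b) (hx b) (sub_add_cancel _ _)

end Maps

section Res

variable {M : Type u} [AddCommGroup M] [Module R M] {τ : Type u} [SetLike τ M] [AddSubgroupClass τ M]
variable {ℳ : ℤ → τ} [DirectSum.Decomposition ℳ] [SetLike.GradedSMul 𝒜 ℳ]
variable (F : GrSyz.FreeRes 𝒜 ℳ)

/-- The differential, between the bundled free modules. -/
noncomputable def dMap (j : ℕ) :
    (freeMod 𝒜 (F.deg (j + 1))).carrier →ₗ[R] (freeMod 𝒜 (F.deg j)).carrier := F.dLin j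

/-- The augmentation, on the bundled free module. -/
noncomputable def augMap : (freeMod 𝒜 (F.deg 0)).carrier →ₗ[R] M := F.augLin

theorem dMap_grHom (j : ℕ) :
    GrLC.IsGrHom (freeMod 𝒜 (F.deg (j + 1))).gr (freeMod 𝒜 (F.deg j)).gr (dMap F j) :=
  isGrHom_mulVecLin (F.d_mem j)

/-- The syzygy modules. -/
noncomputable def syz (j : ℕ) : GrLC.GMod.{u} 𝒜 :=
  subMod 𝒜 (freeMod 𝒜 (F.deg j)).gr (LinearMap.range (dMap F j))
    (isHomogeneous_range (dMap_grHom F j))

theorem ses_zero :
    Horseshoe.SES (syz F 0).gr (freeMod 𝒜 (F.deg 0)).gr (toMod 𝒜 ℳ).gr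
      (LinearMap.range (dMap F 0)).subtype (augMap F) where
  grHom_i _ _ hx := hx
  grHom_π g v hv := (mem_toMod 𝒜 ℳ).2 (isGrHom_linearCombination F.aug_mem g v hv)
  injective := Submodule.injective_subtype _
  surjective := F.aug_surjective
  exact := F.exact_zero.trans (Submodule.range_subtype _).symm

theorem ses_step (j : ℕ) :
    Horseshoe.SES (syz F (j + 1)).gr (freeMod 𝒜 (F.deg (j + 1))).gr (syz F j).gr
      (LinearMap.range (dMap F (j + 1))).subtype (dMap F j).rangeRestrict where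
  grHom_i _ _ hx := hx
  grHom_π g v hv := dMap_grHom F j g v hv
  injective := Submodule.injective_subtype _
  surjective := LinearMap.surjective_rangeRestrict _
  exact := (LinearMap.ker_rangeRestrict _).trans ((F.exact_succ j).trans (Submodule.range_subtype _).symm)

/-- A resolution generated in degrees at most `d + i` bounds the nonvanishing degrees. -/
theorem V_of_isGenLE {N : ℕ} (hN : ∀ (X : GrLC.GMod.{u} 𝒜) (i : ℕ) (g : ℤ), N < i → V a X i g)
    (hring : ∀ (i : ℕ) (g : ℤ), 0 < g + i → V a (toMod 𝒜 𝒜) i g) {d : ℤ} (hF : F.IsGenLE d)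
    (i : ℕ) (g : ℤ) (h : d < g + i) : V a (toMod 𝒜 ℳ) i g := by
  have hfree : ∀ (j i : ℕ) (g : ℤ), d + j < g + i → V a (freeMod 𝒜 (F.deg j)) i g :=
    fun j i g h => V_free _ fun b => hring i _ (by have := hF j b; omega)
  have hsyz : ∀ (m j i : ℕ) (g : ℤ), N < i + m → d + j + 1 < g + i → V a (syz F j) i g := by
    intro m
    induction m with
    | zero => intro j i g hi _; exact hN _ i g (by omega)
    | succ m ih =>
      intro j i g hi hg
      exact V_right (ses_step F j) (hfree (j + 1) i g (by push_cast; omega))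
        (ih (j + 1) (i + 1) g (by omega) (by push_cast; omega))
  exact V_right (ses_zero F) (hfree 0 i g (by push_cast; omega))
    (hsyz (N + 1) 0 (i + 1) g (by omega) (by push_cast; omega))

end Res

end Groth.Agent.Lib.Graded.FreeMod
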