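import Groth.Agent.Lib.Graded.Poly
import Groth.Agent.Lib.Graded.FreeMod
import Mathlib.RingTheory.MvPolynomial.Basic
import Mathlib.Algebra.Order.Antidiag.FinsuppEquiv
import Mathlib.LinearAlgebra.FiniteDimensional.Lemmas
import Mathlib.LinearAlgebra.Dimension.Constructions

/-!
# Hilbert functions from graded free resolutions
-/

universe u

set_option maxHeartbeats 600000

set_option linter.unusedSectionVars false

open MvPolynomial

namespace Groth.Agent.Lib.Graded.Hilbert

open Groth.Agent.Lib.Graded.Basic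

noncomputable section

variable {k : Type u} [Field k] {r : ℕ}

/-- The Hilbert function of the polynomial ring in `r + 1` variables. -/
def hS (r : ℕ) (n : ℤ) : ℕ := if 0 ≤ n then Nat.choose (r + n.toNat) r else 0

theorem finite_stdGr (n : ℤ) : Module.Finite k ↥(GrSyz.stdGr k (Fin (r + 1)) n) ∧
    Module.finrank k ↥(GrSyz.stdGr k (Fin (r + 1)) n) = hS r n := by
  rcases lt_or_ge n 0 with hn | hn
  · have h : GrSyz.stdGr k (Fin (r + 1)) n = ⊥ :=
      (Submodule.eq_bot_iff _).2 fun p hp => Poly.eq_zero_of_neg n hn p hp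
    rw [h]
    exact ⟨inferInstance, by rw [hS, if_neg (by omega), finrank_bot]⟩
  · obtain ⟨e, rfl⟩ := Int.eq_ofNat_of_zero_le hn
    obtain ⟨s, hs⟩ : ∃ s : Set (Fin (r + 1) →₀ ℕ), s = {m | Finsupp.weight (fun _ : Fin (r + 1) => (1 : ℤ)) m = (e : ℤ)} :=
      ⟨_, rfl⟩
    have hmem : ∀ m : Fin (r + 1) →₀ ℕ, m ∈ s ↔ m ∈ Finset.univ.finsuppAntidiag e := by
      intro m
      rw [hs, Set.mem_setOf_eq, Poly.weight_one, Finset.mem_finsuppAntidiag, Finsupp.degree_eq_sum]
      simp only [Nat.cast_inj, Finset.subset_univ, and_true]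
    have heq : GrSyz.stdGr k (Fin (r + 1)) (e : ℤ) = restrictSupport k s := by
      rw [hs]
      exact weightedHomogeneousSubmodule_eq_finsupp_supported k _ _
    haveI : Fintype s := Fintype.ofFinset _ fun m => (hmem m).symm
    refine ⟨heq ▸ Module.Finite.of_basis (basisRestrictSupport k s), ?_⟩
    rw [heq, Module.finrank_eq_nat_card_basis (basisRestrictSupport k s),
      Nat.card_congr (Equiv.subtypeEquivRight hmem), Nat.card_eq_fintype_card, Fintype.card_coe,
      Finset.card_finsuppAntidiag_nat_eq_choose, Finset.card_univ, Fintype.card_fin,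
      hS, if_pos (by omega), Int.toNat_natCast]
    rw [show r + 1 + e - 1 = r + e by omega, Nat.choose_symm_add]

section Piece

variable {n : ℕ} (deg : Fin n → ℤ)

/-- The degree `d` piece of a free module, as a vector space. -/
def piece (d : ℤ) : Submodule k (Fin n → MvPolynomial (Fin (r + 1)) k) :=
  Submodule.pi Set.univ fun b => GrSyz.stdGr k (Fin (r + 1)) (d - deg b)

theorem mem_piece {d : ℤ} {v : Fin n → MvPolynomial (Fin (r + 1)) k} :
    v ∈ piece deg d ↔ ∀ b, v b ∈ GrSyz.stdGr k (Fin (r + 1)) (d - deg b) := by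
  simp [piece]

/-- The piece as a product. -/
def pieceEquiv (d : ℤ) : piece (k := k) (r := r) deg d ≃ₗ[k]
    (∀ b, GrSyz.stdGr k (Fin (r + 1)) (d - deg b)) where
  toFun v b := ⟨v.1 b, (mem_piece deg).1 v.2 b⟩
  invFun w := ⟨fun b => w b, (mem_piece deg).2 fun b => (w b).2⟩
  map_add' _ _ := rfl
  map_smul' _ _ := rfl

theorem finite_piece (d : ℤ) : Module.Finite k (piece (k := k) (r := r) deg d) :=
  haveI : ∀ b, Module.Finite k ↥(GrSyz.stdGr k (Fin (r + 1)) (d - deg b)) := fun _ => (finite_stdGr _).1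
  Module.Finite.equiv (pieceEquiv deg d).symm

theorem finrank_piece (d : ℤ) :
    Module.finrank k (piece (k := k) (r := r) deg d) = ∑ b, hS r (d - deg b) := by
  haveI : ∀ b, Module.Finite k ↥(GrSyz.stdGr k (Fin (r + 1)) (d - deg b)) := fun _ => (finite_stdGr _).1
  rw [(pieceEquiv deg d).finrank_eq, Module.finrank_pi_fintype]
  exact Finset.sum_congr rfl fun b _ => (finite_stdGr _).2

end Piece

theorem finrank_map_add {V W : Type u} [AddCommGroup V] [Module k V] [AddCommGroup W] [Module k W]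
    (f : V →ₗ[k] W) (P : Submodule k V) [Module.Finite k P] :
    Module.finrank k (P.map f) + Module.finrank k ↥(P ⊓ LinearMap.ker f) = Module.finrank k P := by
  rw [← LinearMap.finrank_range_add_finrank_ker (f.comp P.subtype), LinearMap.range_comp,
    Submodule.range_subtype, LinearMap.ker_comp]
  congr 1
  exact ((Submodule.comapSubtypeEquivOfLe inf_le_left).symm.trans
    (LinearEquiv.ofEq _ _ (by simp [Submodule.comap_inf]))).finrank_eq

variable {M : Type u} [AddCommGroup M] [Module k M] [Module (MvPolynomial (Fin (r + 1)) k) M]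
  [IsScalarTower k (MvPolynomial (Fin (r + 1)) k) M]
variable {ℳ : ℤ → Submodule k M} [DirectSum.Decomposition ℳ] [SetLike.GradedSMul (GrSyz.stdGr k (Fin (r + 1))) ℳ]
variable (F : GrSyz.FreeRes (GrSyz.stdGr k (Fin (r + 1))) ℳ) (d : ℤ)

/-- The degree `d` piece of a syzygy module. -/
def syzPiece (j : ℕ) : Submodule k (Fin (F.rk j) → MvPolynomial (Fin (r + 1)) k) :=
  piece (F.deg j) d ⊓ (LinearMap.range (F.dLin j)).restrictScalars k

theorem map_dLin (j : ℕ) :
    (piece (F.deg (j + 1)) d).map ((F.dLin j).restrictScalars k) = syzPiece F d j := by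
  refine le_antisymm ?_ ?_
  · rintro _ ⟨v, hv, rfl⟩
    exact ⟨(mem_piece _).2 ((FreeMod.mem_freeMod _ _).1 (FreeMod.dMap_grHom F j d v
      ((FreeMod.mem_freeMod _ _).2 ((mem_piece _).1 hv)))), ⟨v, rfl⟩⟩
  · rintro w ⟨hw, hw'⟩
    obtain ⟨v, hv, rfl⟩ := exists_hom_preimage (ℳ := (FreeMod.freeMod _ (F.deg (j + 1))).gr)
      (𝒩 := (FreeMod.freeMod _ (F.deg j)).gr) (FreeMod.dMap_grHom F j)
      ((FreeMod.mem_freeMod _ _).2 ((mem_piece _).1 hw)) hw'
    exact ⟨v, (mem_piece _).2 ((FreeMod.mem_freeMod _ _).1 hv), rfl⟩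

theorem map_augLin :
    (piece (F.deg 0) d).map (F.augLin.restrictScalars k) = ℳ d := by
  refine le_antisymm ?_ fun w hw => ?_
  · rintro _ ⟨v, hv, rfl⟩
    exact FreeMod.isGrHom_linearCombination F.aug_mem d v ((FreeMod.mem_freeMod _ _).2 ((mem_piece _).1 hv))
  · obtain ⟨v, hv, rfl⟩ := exists_hom_preimage (ℳ := (FreeMod.freeMod _ (F.deg 0)).gr)
      (𝒩 := ℳ) (f := FreeMod.augMap F) (FreeMod.isGrHom_linearCombination F.aug_mem) hw (F.aug_surjective w)
    exact ⟨v, (mem_piece _).2 ((FreeMod.mem_freeMod _ _).1 hv), rfl⟩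

theorem finrank_step (j : ℕ) :
    Module.finrank k (syzPiece F d j) + Module.finrank k (syzPiece F d (j + 1)) =
      ∑ b, hS r (d - F.deg (j + 1) b) := by
  haveI := finite_piece (k := k) (r := r) (F.deg (j + 1)) d
  rw [← finrank_piece (k := k), ← finrank_map_add ((F.dLin j).restrictScalars k) (piece (F.deg (j + 1)) d),
    map_dLin, LinearMap.ker_restrictScalars, F.exact_succ j]
  rfl

theorem finrank_zero :
    Module.finrank k (ℳ d) + Module.finrank k (syzPiece F d 0) = ∑ b, hS r (d - F.deg 0 b) := by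
  haveI := finite_piece (k := k) (r := r) (F.deg 0) d
  rw [← finrank_piece (k := k), ← finrank_map_add (F.augLin.restrictScalars k) (piece (F.deg 0) d),
    map_augLin, LinearMap.ker_restrictScalars, F.exact_zero]
  rfl

include F in
theorem finite_comp : Module.Finite k (ℳ d) := by
  haveI := finite_piece (k := k) (r := r) (F.deg 0) d
  rw [← map_augLin F d]
  infer_instance

/-- The Euler characteristic of a piece. -/
theorem finrank_eq_sum {m : ℕ} (hF : F.HasLengthLE m) :
    (Module.finrank k (ℳ d) : ℤ) =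
      ∑ i ∈ Finset.range (m + 1), (-1 : ℤ) ^ i * ∑ b, (hS r (d - F.deg i b) : ℤ) := by
  have h : ∀ N : ℕ, (Module.finrank k (ℳ d) : ℤ) =
      (∑ i ∈ Finset.range (N + 1), (-1 : ℤ) ^ i * ∑ b, (hS r (d - F.deg i b) : ℤ)) +
        (-1) ^ (N + 1) * (Module.finrank k (syzPiece F d N) : ℤ) := by
    intro N
    induction N with
    | zero =>
      have h0 := congrArg (Nat.cast : ℕ → ℤ) (finrank_zero F d)
      push_cast at h0
      simp only [Nat.zero_add, Finset.range_one, Finset.sum_singleton, pow_zero, one_mul, pow_one]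
      linarith
    | succ N ih =>
      have h0 := congrArg (Nat.cast : ℕ → ℤ) (finrank_step F d N)
      push_cast at h0
      rw [Finset.sum_range_succ, ih, pow_succ (-1 : ℤ) (N + 1), ← h0]
      ring
  have h0 : syzPiece F d m = ⊥ := by
    refine (Submodule.eq_bot_iff _).2 ?_
    rintro v ⟨-, w, rfl⟩
    haveI : IsEmpty (Fin (F.rk (m + 1))) := by rw [hF (m + 1) m.lt_succ_self]; infer_instance
    rw [Subsingleton.elim w 0, map_zero]
  rw [h m, h0, finrank_bot]
  simp

end

end Groth.Agent.Lib.Graded.Hilbert
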