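import Groth.Agent.Lib.Graded.Cofree
import Mathlib.Order.Zorn

/-!
# *Injective modules, *injective hulls and *injective resolutions
-/

universe u

set_option linter.unusedSectionVars false

open DirectSum

namespace Groth.Agent.Lib.Graded.StarInj

open Groth.Agent.Lib.Graded.Basic

variable {ι : Type} [AddCommGroup ι] [DecidableEq ι]
variable {R : Type u} [CommRing R] {σ : Type u} [SetLike σ R] [AddSubgroupClass σ R]
variable (𝒜 : ι → σ) [GradedRing 𝒜]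
variable {M : Type u} [AddCommGroup M] [Module R M] {τ : Type u} [SetLike τ M] [AddSubgroupClass τ M]
variable (ℳ : ι → τ) [DirectSum.Decomposition ℳ] [SetLike.GradedSMul 𝒜 ℳ]

section Bundles

/-- The pieces as additive subgroups, degrees moved by `d`. -/
def shiftGr (d : ι) : ι → AddSubgroup M := fun j => AddSubgroup.ofClass (ℳ (j + d))

theorem mem_shiftGr {d j : ι} {x : M} : x ∈ shiftGr ℳ d j ↔ x ∈ ℳ (j + d) := Iff.rfl

theorem mem_coe_range (g : ι) {x : M} {N : ι → AddSubgroup M} (hx : x ∈ N g) :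
    x ∈ (DirectSum.coeAddMonoidHom N).range :=
  ⟨DirectSum.of _ g ⟨x, hx⟩, by rw [DirectSum.coeAddMonoidHom_of]⟩

/-- The shifted grading. -/
@[instance_reducible]
noncomputable def shiftDecomp (d : ι) : DirectSum.Decomposition (shiftGr ℳ d) :=
  decompositionOfProj _ (fun j => proj ℳ (j + d)) (fun _ _ hx => proj_of_mem ℳ hx)
    (fun g h hne x hx => proj_of_mem_ne ℳ hx (by simpa using hne))
    (fun x => by
      induction x using induction_hom ℳ with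
      | zero => exact zero_mem _
      | hom g x hx => exact mem_coe_range (g - d) (show x ∈ ℳ (g - d + d) by simpa using hx)
      | add a b ha hb => exact add_mem ha hb)

theorem shiftGSMul (d : ι) : SetLike.GradedSMul 𝒜 (shiftGr ℳ d) where
  smul_mem {i j r x} hr hx := show r • x ∈ ℳ (i + j + d) from
    smul_mem' 𝒜 ℳ hr hx (by abel)

/-- A graded module with degrees moved by `d`, bundled. -/
noncomputable def shiftMod (d : ι) : GrLC.GMod.{u} 𝒜 :=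
  letI := shiftDecomp ℳ d
  haveI := shiftGSMul 𝒜 ℳ d
  GrLC.GMod.of 𝒜 M (shiftGr ℳ d)

/-- A graded module, bundled with pieces additive subgroups. -/
noncomputable def toMod : GrLC.GMod.{u} 𝒜 := shiftMod 𝒜 ℳ 0

theorem mem_toMod {g : ι} {x : M} : x ∈ (toMod 𝒜 ℳ).gr g ↔ x ∈ ℳ g := by
  change x ∈ ℳ (g + 0) ↔ _
  rw [add_zero]

theorem mem_shiftMod {d g : ι} {x : M} : x ∈ (shiftMod 𝒜 ℳ d).gr g ↔ x ∈ ℳ (g + d) := Iff.rfl

/-- A homogeneous submodule, bundled. -/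
noncomputable def subMod (P : Submodule R M) (hP : P.IsHomogeneous ℳ) : GrLC.GMod.{u} 𝒜 :=
  letI := subDecomp ℳ P hP
  haveI := subGSMul 𝒜 ℳ P
  GrLC.GMod.of 𝒜 P (subGr ℳ P)

/-- A quotient by a homogeneous submodule, bundled. -/
noncomputable def qMod (P : Submodule R M) (hP : P.IsHomogeneous ℳ) : GrLC.GMod.{u} 𝒜 :=
  letI := qDecomp ℳ P hP
  haveI := qGSMul 𝒜 ℳ P
  GrLC.GMod.of 𝒜 (M ⧸ P) (qGr ℳ P)

end Bundles

variable {N : Type u} [AddCommGroup N] [Module R N] {τ' : Type u} [SetLike τ' N] [AddSubgroupClass τ' N]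
variable (𝒩 : ι → τ') [DirectSum.Decomposition 𝒩] [SetLike.GradedSMul 𝒜 𝒩]
variable {P : Type u} [AddCommGroup P] [Module R P] {τ'' : Type u} [SetLike τ'' P] [AddSubgroupClass τ'' P]
variable (𝒬 : ι → τ'') [DirectSum.Decomposition 𝒬] [SetLike.GradedSMul 𝒜 𝒬]

variable {𝒜 ℳ 𝒩 𝒬}

/-- Extension along an injective homogeneous map, for unbundled modules. -/
theorem extend (hI : GrLC.IsStarInj 𝒜 ℳ) {f : N →ₗ[R] P} (hf : GrLC.IsGrHom 𝒩 𝒬 f)
    (hinj : Function.Injective f) {g : N →ₗ[R] M} (hg : GrLC.IsGrHom 𝒩 ℳ g) :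
    ∃ h : P →ₗ[R] M, GrLC.IsGrHom 𝒬 ℳ h ∧ h ∘ₗ f = g := by
  obtain ⟨h, hh, hcomp⟩ := hI (toMod 𝒜 𝒩) (toMod 𝒜 𝒬) f
    (fun d x hx => (mem_toMod 𝒜 𝒬).2 (hf d x ((mem_toMod 𝒜 𝒩).1 hx))) hinj g
    (fun d x hx => hg d x ((mem_toMod 𝒜 𝒩).1 hx))
  exact ⟨h, fun d x hx => hh d x ((mem_toMod 𝒜 𝒬).2 hx), hcomp⟩

theorem isGrHom_liftQ {K : Submodule R N} {f : N →ₗ[R] M} (hf : GrLC.IsGrHom 𝒩 ℳ f)
    (hK : K ≤ LinearMap.ker f) : GrLC.IsGrHom (qGr 𝒩 K) ℳ (K.liftQ f hK) := by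
  rintro g _ ⟨y, hy, rfl⟩
  exact hf g y hy

/-- Extension along a homogeneous map whose kernel is killed. -/
theorem extend_of_ker_le (hI : GrLC.IsStarInj 𝒜 ℳ) {f : N →ₗ[R] P} (hf : GrLC.IsGrHom 𝒩 𝒬 f)
    {g : N →ₗ[R] M} (hg : GrLC.IsGrHom 𝒩 ℳ g) (hker : LinearMap.ker f ≤ LinearMap.ker g) :
    ∃ h : P →ₗ[R] M, GrLC.IsGrHom 𝒬 ℳ h ∧ h ∘ₗ f = g := by
  letI := qDecomp 𝒩 _ (isHomogeneous_ker hf)
  haveI := qGSMul 𝒜 𝒩 (LinearMap.ker f)
  obtain ⟨h, hh, hcomp⟩ := extend (𝒩 := qGr 𝒩 (LinearMap.ker f)) (𝒬 := 𝒬) hI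
    (f := (LinearMap.ker f).liftQ f le_rfl) (isGrHom_liftQ hf le_rfl)
    (LinearMap.ker_eq_bot.1 (Submodule.ker_liftQ_eq_bot _ _ _ le_rfl))
    (g := (LinearMap.ker f).liftQ g hker) (isGrHom_liftQ hg hker)
  refine ⟨h, hh, ?_⟩
  ext x
  exact LinearMap.congr_fun hcomp ((LinearMap.ker f).mkQ x)

/-- Extension of maps homogeneous of a given degree. -/
theorem extend_deg (hI : GrLC.IsStarInj 𝒜 ℳ) {f : N →ₗ[R] P} (hf : GrLC.IsGrHom 𝒩 𝒬 f)
    (hinj : Function.Injective f) {d : ι} {g : N →ₗ[R] M} (hg : GrLC.IsGrHomDeg 𝒩 ℳ g d) :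
    ∃ h : P →ₗ[R] M, GrLC.IsGrHomDeg 𝒬 ℳ h d ∧ h ∘ₗ f = g := by
  obtain ⟨h, hh, hcomp⟩ := hI (shiftMod 𝒜 𝒩 (-d)) (shiftMod 𝒜 𝒬 (-d)) f
    (fun j x hx => hf (j + -d) x hx) hinj g
    (fun j x hx => neg_add_cancel_right j d ▸ hg (j + -d) x hx)
  refine ⟨h, fun j x hx => hh (j + d) x ?_, hcomp⟩
  change x ∈ 𝒬 (j + d + -d)
  simpa using hx

/-- A graded retract of a *injective module is *injective. -/
theorem isStarInj_of_retract (hI : GrLC.IsStarInj 𝒜 ℳ) {i : N →ₗ[R] M} {r : M →ₗ[R] N}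
    (hi : GrLC.IsGrHom 𝒩 ℳ i) (hr : GrLC.IsGrHom ℳ 𝒩 r) (hri : r ∘ₗ i = LinearMap.id) :
    GrLC.IsStarInj 𝒜 𝒩 := by
  intro A B f hf hinj g hg
  obtain ⟨h, hh, hc⟩ := hI A B f hf hinj (i ∘ₗ g) (isGrHom_comp hg hi)
  refine ⟨r ∘ₗ h, isGrHom_comp hh hr, ?_⟩
  rw [LinearMap.comp_assoc, hc, ← LinearMap.comp_assoc, hri, LinearMap.id_comp]

theorem isStarInj_of_equiv (hI : GrLC.IsStarInj 𝒜 ℳ) (e : N ≃ₗ[R] M)
    (he : GrLC.IsGrHom 𝒩 ℳ e.toLinearMap) : GrLC.IsStarInj 𝒜 𝒩 :=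
  isStarInj_of_retract hI he (r := e.symm.toLinearMap) (isGrHom_symm he) (by ext; simp)

theorem isStarInj_shiftMod (hI : GrLC.IsStarInj 𝒜 ℳ) (d : ι) :
    GrLC.IsStarInj 𝒜 (shiftMod 𝒜 ℳ d).gr := by
  intro A B f hf hinj g hg
  obtain ⟨h, hh, hc⟩ := extend_deg hI (𝒩 := A.gr) (𝒬 := B.gr) hf hinj (d := d) (g := g)
    (fun j x hx => hg j x hx)
  exact ⟨h, fun j x hx => hh j x hx, hc⟩

theorem isStarInj_toMod (hI : GrLC.IsStarInj 𝒜 ℳ) : GrLC.IsStarInj 𝒜 (toMod 𝒜 ℳ).gr :=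
  isStarInj_shiftMod hI 0

include 𝒜 in
theorem isStarEss_iff_hom {f : M →ₗ[R] N} (hinj : Function.Injective f)
    (hf : GrLC.IsGrHom ℳ 𝒩 f) :
    GrLC.IsStarEss ℳ 𝒩 f ↔
      ∀ g, ∀ y ∈ 𝒩 g, y ≠ 0 → Submodule.span R {y} ⊓ LinearMap.range f ≠ ⊥ := by
  constructor
  · intro h g y hy hy0
    exact h.essential _ (isHomogeneous_span 𝒜 𝒩 (by simpa using ⟨g, hy⟩)) (by simpa using hy0)
  · intro h
    refine ⟨hinj, hf, fun Q hQ hQ0 hbot => ?_⟩
    obtain ⟨g, y, hy, hyQ, hy0⟩ := exists_hom_mem_ne_zero hQ hQ0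
    refine h g y hy hy0 (le_bot_iff.1 ?_)
    rw [← hbot]
    exact inf_le_inf_right _ ((Submodule.span_singleton_le_iff_mem _ _).2 hyQ)

/-- In a *essential extension every nonzero element has a nonzero homogeneous multiple in the
image. -/
theorem exists_smul_mem_range {f : M →ₗ[R] N} (hf : GrLC.IsStarEss ℳ 𝒩 f) (x : N) (hx : x ≠ 0) :
    ∃ d, ∃ r ∈ 𝒜 d, r • x ≠ 0 ∧ r • x ∈ LinearMap.range f := by
  obtain ⟨n, hn⟩ : ∃ n, (supp 𝒩 x).card = n := ⟨_, rfl⟩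
  induction n using Nat.strong_induction_on generalizing x with
  | _ n ih =>
    obtain ⟨g, hg⟩ := exists_proj_ne_zero 𝒩 hx
    have hgm : proj 𝒩 g x ∈ 𝒩 g := proj_mem 𝒩 g x
    obtain ⟨y, hy, hy0⟩ := (Submodule.ne_bot_iff _).1
      ((isStarEss_iff_hom (𝒜 := 𝒜) hf.injective hf.grHom).1 hf g _ hgm hg)
    obtain ⟨t, rfl⟩ := Submodule.mem_span_singleton.1 hy.1
    obtain ⟨d', hd'⟩ := exists_proj_ne_zero 𝒩 hy0
    obtain ⟨d, rfl⟩ : ∃ d, d + g = d' := ⟨d' - g, sub_add_cancel _ _⟩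
    rw [proj_smul_mem 𝒜 𝒩 hgm, add_sub_cancel_right] at hd'
    have hrg : proj 𝒜 d t • proj 𝒩 g x ∈ LinearMap.range f := by
      have h2 := proj_mem_of_isHomogeneous (isHomogeneous_range hf.grHom) (d + g) hy.2
      rwa [proj_smul_mem 𝒜 𝒩 hgm, add_sub_cancel_right] at h2
    have hrd : proj 𝒜 d t ∈ 𝒜 d := proj_mem 𝒜 d t
    generalize proj 𝒜 d t = r at hd' hrg hrd
    have hcomp : ∀ j, proj 𝒩 j (r • x) = r • proj 𝒩 (j - d) x := fun j => proj_smul_of_mem 𝒜 𝒩 hrd j x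
    have hrx : r • x ≠ 0 := by
      intro h0
      have h2 := hcomp (d + g)
      rw [h0, map_zero, add_sub_cancel_left] at h2
      exact hd' h2.symm
    by_cases hx' : r • x - r • proj 𝒩 g x = 0
    · rw [sub_eq_zero] at hx'
      exact ⟨d, r, hrd, hrx, hx' ▸ hrg⟩
    · have hm : r • proj 𝒩 g x ∈ 𝒩 (d + g) := smul_mem_add 𝒜 𝒩 hrd hgm
      have hcard : (supp 𝒩 (r • x - r • proj 𝒩 g x)).card < n := by
        rw [← hn]
        refine lt_of_le_of_lt (Finset.card_le_card (t := ((supp 𝒩 x).erase g).image (d + ·)) ?_)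
          (lt_of_le_of_lt Finset.card_image_le (Finset.card_erase_lt_of_mem ((mem_supp 𝒩).2 hg)))
        intro j hj
        rw [mem_supp, map_sub, hcomp] at hj
        rcases eq_or_ne (d + g) j with rfl | hne
        · rw [proj_of_mem 𝒩 hm, add_sub_cancel_left, sub_self] at hj
          exact absurd rfl hj
        · rw [proj_of_mem_ne 𝒩 hm hne, sub_zero] at hj
          refine Finset.mem_image.2 ⟨j - d, Finset.mem_erase.2 ⟨?_, (mem_supp 𝒩).2 fun h0 => hj ?_⟩,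
            add_sub_cancel _ _⟩
          · rintro rfl
            exact hne (add_sub_cancel _ _)
          · rw [h0, smul_zero]
      obtain ⟨e, s, hs, hs0, hsr⟩ := ih _ hcard _ hx' rfl
      refine ⟨e + d, s * r, SetLike.mul_mem_graded hs hrd, ?_, ?_⟩
      · intro h0
        refine hs0 ?_
        rw [mul_smul] at h0
        have hsm : s • r • proj 𝒩 g x ∈ 𝒩 (e + (d + g)) := smul_mem_add 𝒜 𝒩 hs hm
        have hz : s • r • proj 𝒩 g x = 0 := by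
          have h2 := proj_smul_of_mem 𝒜 𝒩 hs (e + (d + g)) (r • x)
          rw [h0, map_zero, add_sub_cancel_left, hcomp, add_sub_cancel_left] at h2
          exact h2.symm
        rw [smul_sub, h0, hz, sub_zero]
      · have := add_mem hsr (Submodule.smul_mem _ s hrg)
        rw [smul_sub, sub_add_cancel] at this
        rwa [mul_smul]

variable (𝒜) in
include 𝒜 in
/-- A *essential extension is essential. -/
theorem inf_range_ne_bot {f : M →ₗ[R] N} (hf : GrLC.IsStarEss ℳ 𝒩 f) {Q : Submodule R N}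
    (hQ : Q ≠ ⊥) : Q ⊓ LinearMap.range f ≠ ⊥ := by
  obtain ⟨x, hx, hx0⟩ := Q.exists_mem_ne_zero_of_ne_bot hQ
  obtain ⟨d, r, -, hr0, hrm⟩ := exists_smul_mem_range (𝒜 := 𝒜) hf x hx0
  exact (Submodule.ne_bot_iff _).2 ⟨_, ⟨Q.smul_mem r hx, hrm⟩, hr0⟩

variable (𝒜) in
include 𝒜 in
/-- A map injective on the image of a *essential extension is injective. -/
theorem injective_of_isStarEss {f : M →ₗ[R] N} (hf : GrLC.IsStarEss ℳ 𝒩 f) {h : N →ₗ[R] P}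
    (hinj : Function.Injective (h ∘ₗ f)) : Function.Injective h := by
  rw [← LinearMap.ker_eq_bot]
  by_contra hne
  obtain ⟨y, ⟨hy1, ⟨x, rfl⟩⟩, hy0⟩ := (Submodule.ne_bot_iff _).1 (inf_range_ne_bot 𝒜 hf hne)
  have hx : x = 0 := hinj ((LinearMap.mem_ker.1 hy1).trans (map_zero (h ∘ₗ f)).symm)
  exact hy0 (by rw [hx, map_zero])

/-- A *injective module has no proper *essential extension. -/
theorem surjective_of_isStarEss (hI : GrLC.IsStarInj 𝒜 ℳ) {f : M →ₗ[R] N}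
    (hf : GrLC.IsStarEss ℳ 𝒩 f) : Function.Surjective f := by
  obtain ⟨h, -, hc⟩ := extend (𝒩 := ℳ) (𝒬 := 𝒩) hI hf.grHom hf.injective (g := LinearMap.id)
    isGrHom_id
  have hinj : Function.Injective h :=
    injective_of_isStarEss 𝒜 hf (by rw [hc]; exact Function.injective_id)
  intro y
  exact ⟨h y, hinj (LinearMap.congr_fun hc (h y))⟩

variable (𝒜 ℳ) in
/-- A *injective module contains a *injective envelope of each graded module inside it. -/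
theorem exists_hull_in (hI : GrLC.IsStarInj 𝒜 𝒩) {e : M →ₗ[R] N} (he : GrLC.IsGrHom ℳ 𝒩 e)
    (hinj : Function.Injective e) :
    ∃ (Q : Submodule R N) (hQ : Q.IsHomogeneous 𝒩) (hle : LinearMap.range e ≤ Q),
      letI := subDecomp 𝒩 Q hQ
      haveI := subGSMul 𝒜 𝒩 Q
      GrLC.IsStarInjHull 𝒜 ℳ (subGr 𝒩 Q)
        (e.codRestrict Q fun x => hle (LinearMap.mem_range_self e x)) ∧
      ∃ K : Submodule R N, K.IsHomogeneous 𝒩 ∧ IsCompl Q K := by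
  classical
  let E : Submodule R N → Prop := fun Q => Q.IsHomogeneous 𝒩 ∧ LinearMap.range e ≤ Q ∧
    ∀ S : Submodule R N, S.IsHomogeneous 𝒩 → S ≤ Q → S ≠ ⊥ → S ⊓ LinearMap.range e ≠ ⊥
  obtain ⟨Q, -, hQmax⟩ := zorn_le_nonempty₀ {Q | E Q} (fun c hc hchain y hy => by
    have hne : c.Nonempty := ⟨y, hy⟩
    have hdir : DirectedOn (· ≤ ·) c := hchain.directedOn
    refine ⟨sSup c, ⟨?_, (hc hy).2.1.trans (le_sSup hy), ?_⟩, fun z hz => le_sSup hz⟩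
    · rw [sSup_eq_iSup']
      exact isHomogeneous_iSup fun k => (hc k.2).1
    · intro S hS hle h0
      obtain ⟨g, x, hx, hxS, hx0⟩ := exists_hom_mem_ne_zero hS h0
      obtain ⟨z, hz, hxz⟩ := (Submodule.mem_sSup_of_directed hne hdir).1 (hle hxS)
      intro hbot
      refine (hc hz).2.2 (Submodule.span R {x})
        (isHomogeneous_span 𝒜 𝒩 (by simpa using ⟨g, hx⟩))
        ((Submodule.span_singleton_le_iff_mem _ _).2 hxz) (by simpa using hx0) (le_bot_iff.1 ?_)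
      rw [← hbot]
      exact inf_le_inf_right _ ((Submodule.span_singleton_le_iff_mem _ _).2 hxS))
    (LinearMap.range e) ⟨isHomogeneous_range he, le_rfl,
      fun S _ hle h0 => by rwa [inf_eq_left.2 hle]⟩
  obtain ⟨⟨hQ, hle, hess⟩, hmax⟩ := hQmax
  letI := subDecomp 𝒩 Q hQ
  haveI := subGSMul 𝒜 𝒩 Q
  obtain ⟨K, -, hKmax⟩ := zorn_le_nonempty₀ {K : Submodule R N | K.IsHomogeneous 𝒩 ∧ K ⊓ Q = ⊥}
    (fun c hc hchain y hy => by
      have hne : c.Nonempty := ⟨y, hy⟩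
      have hdir : DirectedOn (· ≤ ·) c := hchain.directedOn
      refine ⟨sSup c, ⟨?_, ?_⟩, fun z hz => le_sSup hz⟩
      · rw [sSup_eq_iSup']
        exact isHomogeneous_iSup fun k => (hc k.2).1
      · refine (Submodule.eq_bot_iff _).2 fun x hx => ?_
        obtain ⟨z, hz, hxz⟩ := (Submodule.mem_sSup_of_directed hne hdir).1 hx.1
        have h2 : x ∈ z ⊓ Q := ⟨hxz, hx.2⟩
        rwa [(hc hz).2, Submodule.mem_bot] at h2)
    ⊥ ⟨isHomogeneous_bot, bot_inf_eq _⟩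
  obtain ⟨⟨hK, hKQ⟩, hKm⟩ := hKmax
  letI := qDecomp 𝒩 K hK
  haveI := qGSMul 𝒜 𝒩 K
  let j : Q →ₗ[R] N ⧸ K := K.mkQ ∘ₗ Q.subtype
  have hjinj : Function.Injective j := by
    rw [← LinearMap.ker_eq_bot]
    refine (Submodule.eq_bot_iff _).2 fun x hx => Subtype.ext ?_
    have h2 : (x : N) ∈ K ⊓ Q := ⟨(Submodule.Quotient.mk_eq_zero K).1 hx, x.2⟩
    rwa [hKQ, Submodule.mem_bot] at h2
  have hj : GrLC.IsGrHom (subGr 𝒩 Q) (qGr 𝒩 K) j := fun _ _ hx => mkQ_mem_qGr 𝒩 K hx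
  have hjess : GrLC.IsStarEss (subGr 𝒩 Q) (qGr 𝒩 K) j := by
    refine ⟨hjinj, hj, fun S hS hS0 hbot => ?_⟩
    have hS' : (S.comap K.mkQ).IsHomogeneous 𝒩 := isHomogeneous_comap (fun _ _ h => mkQ_mem_qGr 𝒩 K h) hS
    have hKle : K ≤ S.comap K.mkQ := fun x hx => by
      simp [Submodule.mem_comap, (Submodule.Quotient.mk_eq_zero K).2 hx]
    have hnle : ¬ S.comap K.mkQ ≤ K := by
      intro h2
      refine hS0 ((Submodule.eq_bot_iff _).2 fun z hz => ?_)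
      obtain ⟨x, rfl⟩ := K.mkQ_surjective z
      exact (Submodule.Quotient.mk_eq_zero K).2 (h2 hz)
    refine hnle (hKm ⟨hS', (Submodule.eq_bot_iff _).2 fun x hx => ?_⟩ hKle)
    have h2 : K.mkQ x ∈ S ⊓ LinearMap.range j := ⟨hx.1, ⟨x, hx.2⟩, rfl⟩
    rw [hbot, Submodule.mem_bot] at h2
    have h3 : x ∈ K ⊓ Q := ⟨(Submodule.Quotient.mk_eq_zero K).1 h2, hx.2⟩
    rwa [hKQ, Submodule.mem_bot] at h3
  obtain ⟨h, hh, hc⟩ := extend (𝒩 := subGr 𝒩 Q) (𝒬 := qGr 𝒩 K) hI hj hjinj (g := Q.subtype)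
    (fun _ _ hx => hx)
  have hhinj : Function.Injective h :=
    injective_of_isStarEss 𝒜 hjess (by rw [hc]; exact Q.injective_subtype)
  have hQle : Q ≤ LinearMap.range h := fun x hx => ⟨j ⟨x, hx⟩, LinearMap.congr_fun hc ⟨x, hx⟩⟩
  have hE : E (LinearMap.range h) := by
    refine ⟨isHomogeneous_range hh, hle.trans hQle, fun S hS hSle hS0 => ?_⟩
    have hSQ : S ⊓ Q ≠ ⊥ := by
      obtain ⟨x, hx, hx0⟩ := S.exists_mem_ne_zero_of_ne_bot hS0
      obtain ⟨z, rfl⟩ := hSle hx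
      have hz : z ≠ 0 := fun h0 => hx0 (by rw [h0, map_zero])
      obtain ⟨d, r, -, hr0, ⟨q, hq⟩⟩ := exists_smul_mem_range (𝒜 := 𝒜) hjess z hz
      refine (Submodule.ne_bot_iff _).2 ⟨r • h z, ⟨S.smul_mem r hx, ?_⟩, ?_⟩
      · rw [← map_smul, ← hq]
        exact (congrArg (fun y => y ∈ Q) (LinearMap.congr_fun hc q)).mpr q.2
      · rw [← map_smul]
        exact fun h0 => hr0 (hhinj (h0.trans (map_zero h).symm))
    intro hbot
    refine hess _ (isHomogeneous_inf hS hQ) inf_le_right hSQ (le_bot_iff.1 ?_)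
    rw [← hbot]
    exact inf_le_inf_right _ inf_le_left
  have heq : LinearMap.range h ≤ Q := hmax hE hQle
  have hcod : Codisjoint Q K := by
    rw [codisjoint_iff, eq_top_iff]
    intro x _
    let y : Q := ⟨h (K.mkQ x), heq (LinearMap.mem_range_self h _)⟩
    have hy : j y = K.mkQ x := hhinj (LinearMap.congr_fun hc y)
    refine Submodule.mem_sup.2 ⟨y, y.2, x - y, ?_, add_sub_cancel _ _⟩
    exact (Submodule.Quotient.eq K).1 hy.symm
  have hcompl : IsCompl Q K := ⟨disjoint_iff.2 (by rw [inf_comm]; exact hKQ), hcod⟩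
  let r : N →ₗ[R] Q :=
    (h ∘ₗ K.mkQ).codRestrict Q fun x => heq (LinearMap.mem_range_self h _)
  have hr : GrLC.IsGrHom 𝒩 (subGr 𝒩 Q) r := fun g x hx => hh g _ (mkQ_mem_qGr 𝒩 K hx)
  refine ⟨Q, hQ, hle, ⟨⟨fun a b hab => hinj (congrArg Subtype.val hab), fun g x hx => he g x hx, ?_⟩,
    isStarInj_of_retract hI (i := Q.subtype) (fun _ _ hx => hx) hr ?_⟩, K, hK, hcompl⟩
  · intro S hS hS0 hbot
    have hS' : (S.map Q.subtype).IsHomogeneous 𝒩 := isHomogeneous_map (fun _ _ hx => hx) hS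
    obtain ⟨z, hz, hz0⟩ := (Submodule.ne_bot_iff _).1 (hess _ hS' (Submodule.map_subtype_le _ _)
      (fun h0 => hS0 (Submodule.map_injective_of_injective Q.injective_subtype (h0.trans (Submodule.map_bot _).symm))))
    obtain ⟨⟨w, hw, rfl⟩, ⟨x, hx⟩⟩ := hz
    have h2 : w ∈ S ⊓ LinearMap.range (e.codRestrict Q fun x => hle (LinearMap.mem_range_self e x)) :=
      ⟨hw, x, Subtype.ext hx⟩
    rw [hbot, Submodule.mem_bot] at h2
    exact hz0 (by rw [h2, map_zero])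
  · ext x
    exact LinearMap.congr_fun hc x

variable (𝒜 ℳ) in
/-- Existence of *injective envelopes. -/
theorem exists_hull : ∃ (E : GrLC.GMod.{u} 𝒜) (f : M →ₗ[R] E.carrier),
    GrLC.IsStarInjHull 𝒜 ℳ E.gr f := by
  obtain ⟨X, e, he, hinj, hX⟩ := Cofree.exists_starInj_embedding 𝒜 ℳ
  obtain ⟨Q, hQ, hle, h, -⟩ := exists_hull_in 𝒜 ℳ (𝒩 := X.gr) hX he hinj
  exact ⟨subMod 𝒜 X.gr Q hQ, _, h⟩

/-- Uniqueness of *injective envelopes. -/
theorem hull_unique {f₁ : M →ₗ[R] N} {f₂ : M →ₗ[R] P} (h₁ : GrLC.IsStarInjHull 𝒜 ℳ 𝒩 f₁)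
    (h₂ : GrLC.IsStarInjHull 𝒜 ℳ 𝒬 f₂) :
    ∃ β : N ≃ₗ[R] P, GrLC.IsGrHom 𝒩 𝒬 β.toLinearMap ∧ β.toLinearMap ∘ₗ f₁ = f₂ := by
  obtain ⟨b, hb, hc⟩ := extend (𝒩 := ℳ) (𝒬 := 𝒩) h₂.starInj h₁.grHom h₁.injective h₂.grHom
  have hinj : Function.Injective b :=
    injective_of_isStarEss 𝒜 h₁.toIsStarEss (by rw [hc]; exact h₂.injective)
  have hess : GrLC.IsStarEss 𝒩 𝒬 b := by
    refine ⟨hinj, hb, fun S hS hS0 hbot => h₂.essential S hS hS0 (le_bot_iff.1 ?_)⟩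
    rw [← hbot, ← hc]
    exact inf_le_inf_left _ (LinearMap.range_comp_le_range _ _)
  exact ⟨LinearEquiv.ofBijective b ⟨hinj, surjective_of_isStarEss h₁.starInj hess⟩, hb, hc⟩

end Groth.Agent.Lib.Graded.StarInj
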