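import Groth.Agent.Lib.Graded.Reg
import Groth.Agent.H22.GlobalDim
import Mathlib.Algebra.Category.ModuleCat.ProjectiveDimension
import Mathlib.RingTheory.LocalProperties.ProjectiveDimension
import Mathlib.RingTheory.RegularLocalRing.Polynomial
import Mathlib.RingTheory.KrullDimension.Polynomial

/-!
# Length of minimal resolutions and projective dimension
-/

universe u

set_option maxHeartbeats 600000

set_option linter.unusedSectionVars false

open DirectSum MvPolynomial CategoryTheory

namespace Groth.Agent.Lib.Graded.ProjDim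

open Groth.Agent.Lib.Graded.Basic Groth.Agent.Lib.Graded.StarInj Groth.Agent.Lib.Graded.FreeMod

section General

variable {A : Type u} [CommRing A] {F X : Type u} [AddCommGroup F] [Module A F] [AddCommGroup X] [Module A X]

theorem pd_equiv (e : F ≃ₗ[A] X) (n : ℕ) (h : HasProjectiveDimensionLE (ModuleCat.of A F) n) :
    HasProjectiveDimensionLE (ModuleCat.of A X) n :=
  haveI : HasProjectiveDimensionLT (ModuleCat.of A F) (n + 1) := h
  hasProjectiveDimensionLT_of_iso e.toModuleIso _

theorem pd_zero_iff : HasProjectiveDimensionLE (ModuleCat.of A X) 0 ↔ Module.Projective A X := by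
  rw [← projective_iff_hasProjectiveDimensionLE_zero, ← IsProjective.iff_projective]

theorem pd_succ_iff [Module.Projective A F] {f : F →ₗ[A] X} (hf : Function.Surjective f) (n : ℕ) :
    HasProjectiveDimensionLE (ModuleCat.of A X) (n + 1) ↔
      HasProjectiveDimensionLE (ModuleCat.of A (LinearMap.ker f)) n :=
  (LinearMap.shortExact_shortComplexKer hf).hasProjectiveDimensionLT_X₃_iff n
    (ModuleCat.projective_of_categoryTheory_projective (ModuleCat.of A F))

end General

variable {k : Type u} [Field k] {σ : Type} [Finite σ]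

theorem eq_bot_of_projective {n : ℕ} {deg : Fin n → ℤ} {X : GrLC.GMod.{u} (GrSyz.stdGr k σ)}
    {φ : (freeMod (GrSyz.stdGr k σ) deg).carrier →ₗ[MvPolynomial σ k] X.carrier}
    (hφ : GrLC.IsGrHom (freeMod (GrSyz.stdGr k σ) deg).gr X.gr φ) (hsurj : Function.Surjective φ)
    (hker : ∀ v : Fin n → MvPolynomial σ k, φ v = 0 → ∀ b, v b ∈ (GrSyz.irrel (GrSyz.stdGr k σ)).toIdeal)
    (hX : Module.Projective (MvPolynomial σ k) X.carrier) : LinearMap.ker φ = ⊥ := by
  obtain ⟨s, hs⟩ := Module.projective_lifting_property φ LinearMap.id hsurj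
  let φ' : (Fin n → MvPolynomial σ k) →ₗ[MvPolynomial σ k] X.carrier := φ
  let s' : X.carrier →ₗ[MvPolynomial σ k] (Fin n → MvPolynomial σ k) := s
  have hs' : ∀ y, φ' (s' y) = y := fun y => LinearMap.congr_fun hs y
  let π : (Fin n → MvPolynomial σ k) →ₗ[MvPolynomial σ k] LinearMap.ker φ' :=
    LinearMap.codRestrict _ (LinearMap.id - s' ∘ₗ φ') fun v => by
      simp only [LinearMap.mem_ker, LinearMap.sub_apply, LinearMap.id_apply, LinearMap.comp_apply, map_sub, hs',
        sub_self]
  have hfix : ∀ v : LinearMap.ker φ', π v.1 = v := fun v => Subtype.ext (by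
    simp [π, LinearMap.mem_ker.1 v.2])
  have hK : ∀ v : LinearMap.ker φ', v ∈ (GrSyz.irrel (GrSyz.stdGr k σ)).toIdeal •
      (⊤ : Submodule (MvPolynomial σ k) (LinearMap.ker φ')) := by
    intro v
    rw [← hfix v, pi_eq_sum_univ' v.1, map_sum]
    refine sum_mem fun b _ => ?_
    rw [map_smul]
    exact Submodule.smul_mem_smul (hker v.1 (LinearMap.mem_ker.1 v.2) b) trivial
  haveI : Module.Finite (MvPolynomial σ k) (freeMod (GrSyz.stdGr k σ) deg).carrier :=
    inferInstanceAs (Module.Finite (MvPolynomial σ k) (Fin n → MvPolynomial σ k))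
  obtain ⟨lo, hlo⟩ := IntGraded.exists_bot (𝒜 := GrSyz.stdGr k σ) (ℳ := (freeMod (GrSyz.stdGr k σ) deg).gr)
    Poly.eq_zero_of_neg
  letI := subDecomp (freeMod (GrSyz.stdGr k σ) deg).gr _ (isHomogeneous_ker hφ)
  haveI := subGSMul (GrSyz.stdGr k σ) (freeMod (GrSyz.stdGr k σ) deg).gr (LinearMap.ker φ)
  have h := IntGraded.eq_top_of_sup_smul_eq_top (𝒜 := GrSyz.stdGr k σ)
    (ℳ := subGr (freeMod (GrSyz.stdGr k σ) deg).gr (LinearMap.ker φ))
    (lo := lo) (fun m hm x hx => Subtype.ext (hlo m hm x.1 hx))
    (s := {p | ∃ j : ℤ, 0 < j ∧ p ∈ GrSyz.stdGr k σ j}) (fun p hp => hp)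
    (P := (⊥ : Submodule (MvPolynomial σ k) (LinearMap.ker φ)))
    (fun m x _ => Submodule.mem_sup_right (hK x)) isHomogeneous_bot
  refine (Submodule.eq_bot_iff _).2 fun v hv => ?_
  exact congrArg Subtype.val ((Submodule.mem_bot _).1 (h.ge (trivial : (⟨v, hv⟩ : LinearMap.ker φ) ∈ ⊤)))

variable {M : Type u} [AddCommGroup M] [Module (MvPolynomial σ k) M] {τ : Type u} [SetLike τ M]
  [AddSubgroupClass τ M] {ℳ : ℤ → τ} [DirectSum.Decomposition ℳ] [SetLike.GradedSMul (GrSyz.stdGr k σ) ℳ]
variable (F : GrSyz.FreeRes (GrSyz.stdGr k σ) ℳ)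

theorem projective_free (j : ℕ) :
    Module.Projective (MvPolynomial σ k) (freeMod (GrSyz.stdGr k σ) (F.deg j)).carrier :=
  inferInstanceAs (Module.Projective (MvPolynomial σ k) (Fin (F.rk j) → MvPolynomial σ k))

variable {F} (hF : F.IsMinimal (GrSyz.irrel (GrSyz.stdGr k σ)).toIdeal)
include hF

theorem rk_zero_succ {j : ℕ} (h : LinearMap.range (F.dLin j) = ⊥) : F.rk (j + 1) = 0 := by
  by_contra hne
  obtain ⟨b⟩ : Nonempty (Fin (F.rk (j + 1))) := ⟨⟨0, Nat.pos_of_ne_zero hne⟩⟩
  have h1 := Reg.ker_d_mem F hF j (Pi.single b 1)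
    ((Submodule.mem_bot _).1 (h.le ⟨Pi.single b 1, rfl⟩)) b
  rw [Pi.single_eq_same] at h1
  exact Poly.one_not_mem_irrel h1

theorem rk_zero_of_range {j : ℕ} (h : LinearMap.range (F.dLin j) = ⊥) : ∀ i, j < i → F.rk i = 0 := by
  have key : ∀ l, F.rk (j + 1 + l) = 0 := by
    intro l
    induction l with
    | zero => exact rk_zero_succ hF h
    | succ l ih =>
      refine rk_zero_succ hF ((Submodule.eq_bot_iff _).2 fun w _ => ?_)
      haveI : IsEmpty (Fin (F.rk (j + 1 + l))) := by rw [ih]; infer_instance
      exact Subsingleton.elim _ _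
  intro i hi
  obtain ⟨l, rfl⟩ := Nat.exists_eq_add_of_le hi
  exact key l

theorem range_eq_bot {j : ℕ} (h : F.rk (j + 1) = 0) : LinearMap.range (F.dLin j) = ⊥ := by
  haveI : IsEmpty (Fin (F.rk (j + 1))) := by rw [h]; infer_instance
  refine (Submodule.eq_bot_iff _).2 ?_
  rintro _ ⟨v, rfl⟩
  rw [Subsingleton.elim v 0, map_zero]

theorem syz_iff : ∀ n j : ℕ,
    HasProjectiveDimensionLE (ModuleCat.of (MvPolynomial σ k) (syz F j).carrier) n ↔
      ∀ i, j + 1 + n < i → F.rk i = 0 := by
  intro n
  induction n with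
  | zero =>
    intro j
    rw [pd_zero_iff]
    constructor
    · intro hP
      have h1 := eq_bot_of_projective (φ := (dMap F j).rangeRestrict) (ses_step F j).grHom_π
        (ses_step F j).surjective (fun v hv => Reg.ker_d_mem F hF j v (congrArg Subtype.val hv)) hP
      exact rk_zero_of_range hF
        ((F.exact_succ j).symm.trans ((LinearMap.ker_rangeRestrict (dMap F j)).symm.trans h1))
    · intro h
      haveI := projective_free F (j + 1)
      have h1 : Function.Injective (dMap F j).rangeRestrict :=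
        LinearMap.ker_eq_bot.1 ((LinearMap.ker_rangeRestrict (dMap F j)).trans
          ((F.exact_succ j).trans (range_eq_bot hF (h (j + 2) (by omega)))))
      exact Module.Projective.of_equiv (LinearEquiv.ofBijective _ ⟨h1, (ses_step F j).surjective⟩)
  | succ n ih =>
    intro j
    haveI := projective_free F (j + 1)
    refine (pd_succ_iff (f := (dMap F j).rangeRestrict) (ses_step F j).surjective n).trans ?_
    have e : LinearMap.ker (dMap F j).rangeRestrict = LinearMap.range (dMap F (j + 1)) :=
      (LinearMap.ker_rangeRestrict _).trans (F.exact_succ j)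
    constructor
    · intro h i hi
      exact (ih (j + 1)).1 (pd_equiv (LinearEquiv.ofEq _ _ e) n h) i (by omega)
    · intro h
      exact pd_equiv (LinearEquiv.ofEq _ _ e).symm n ((ih (j + 1)).2 fun i hi => h i (by omega))

theorem hasLengthLE_iff (n : ℕ) :
    F.HasLengthLE n ↔ HasProjectiveDimensionLE (ModuleCat.of (MvPolynomial σ k) M) n := by
  cases n with
  | zero =>
    rw [pd_zero_iff]
    constructor
    · intro h
      haveI := projective_free F 0
      have h1 : Function.Injective (augMap F) := by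
        rw [← LinearMap.ker_eq_bot]
        exact F.exact_zero.trans (range_eq_bot hF (h 1 one_pos))
      exact Module.Projective.of_equiv (LinearEquiv.ofBijective _ ⟨h1, F.aug_surjective⟩)
    · intro hP
      have h1 := eq_bot_of_projective (X := toMod (GrSyz.stdGr k σ) ℳ) (φ := augMap F) (ses_zero F).grHom_π
        (ses_zero F).surjective (fun v hv => Reg.ker_aug_mem F hF v hv) hP
      exact rk_zero_of_range hF (F.exact_zero.symm.trans h1)
  | succ n =>
    haveI := projective_free F 0
    rw [pd_succ_iff (f := augMap F) F.aug_surjective]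
    have e : LinearMap.ker (augMap F) = LinearMap.range (dMap F 0) := F.exact_zero
    constructor
    · intro h
      exact pd_equiv (LinearEquiv.ofEq _ _ e).symm n ((syz_iff hF n 0).2 fun i hi => h i (by omega))
    · intro h i hi
      exact (syz_iff hF n 0).1 (pd_equiv (LinearEquiv.ofEq _ _ e) n h) i (by omega)

omit hF

omit [DirectSum.Decomposition ℳ] in
/-- The polynomial ring has global dimension at most the number of variables. -/
theorem pd_le_card [Module.Finite (MvPolynomial σ k) M] :
    HasProjectiveDimensionLE (ModuleCat.of (MvPolynomial σ k) M) (Nat.card σ) := by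
  refine (ModuleCat.hasProjectiveDimensionLE_iff_forall_maximalSpectrum _ _).2 fun m => ?_
  haveI : IsRegularLocalRing (Localization.AtPrime m.asIdeal) :=
    (isRegularRing_iff (R := MvPolynomial σ k)).1 inferInstance m.asIdeal
  have hd : ringKrullDim (Localization.AtPrime m.asIdeal) =
      ((IsLocalRing.maximalIdeal (Localization.AtPrime m.asIdeal)).spanFinrank : WithBot ℕ∞) :=
    (IsRegularLocalRing.spanFinrank_maximalIdeal (R := Localization.AtPrime m.asIdeal)).symm
  have h := H22.GlobalDim.hasProjectiveDimensionLT_regular _ hd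
    ((ModuleCat.of (MvPolynomial σ k) M).localizedModule m.asIdeal.primeCompl)
  refine @hasProjectiveDimensionLT_of_ge _ _ _ _ _ _ ?_ h
  have h2 : ringKrullDim (Localization.AtPrime m.asIdeal) ≤ ringKrullDim (MvPolynomial σ k) :=
    (IsLocalization.AtPrime.ringKrullDim_eq_height m.asIdeal _).trans_le (Ideal.height_le_ringKrullDim_of_ne_top m.isMaximal.ne_top)
  rw [hd, MvPolynomial.ringKrullDim_of_isNoetherianRing, ringKrullDim_eq_zero_of_field, zero_add] at h2
  exact Nat.succ_le_succ (by exact_mod_cast h2)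

end Groth.Agent.Lib.Graded.ProjDim
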