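import Groth.Agent.Lib.Graded.Van
import Groth.Agent.Lib.Graded.IntGraded

/-!
# Koszul complexes on elements of degree one and vanishing of graded local cohomology
-/

universe u

set_option linter.unusedSectionVars false

open DirectSum

namespace Groth.Agent.Lib.Graded.Koszul

open Groth.Agent.Lib.Graded.Basic Groth.Agent.Lib.Graded.StarInj Groth.Agent.Lib.Graded.Horseshoe
open Groth.Agent.Lib.Graded.Van

variable {R : Type u} [CommRing R] {σ : Type u} [SetLike σ R] [AddSubgroupClass σ R]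
variable {𝒜 : ℤ → σ} [GradedRing 𝒜]

/-- A complex `⋯ → K 1 → K 0 → X` of graded modules. -/
structure Cx (X : GrLC.GMod.{u} 𝒜) where
  /-- the terms of positive degree -/
  K : ℕ → GrLC.GMod.{u} 𝒜
  /-- the last differential -/
  d0 : (K 0).carrier →ₗ[R] X.carrier
  /-- the differentials -/
  d : ∀ j, (K (j + 1)).carrier →ₗ[R] (K j).carrier
  d0_grHom : GrLC.IsGrHom (K 0).gr X.gr d0
  d_grHom : ∀ j, GrLC.IsGrHom (K (j + 1)).gr (K j).gr (d j)
  d0_d : ∀ z, d0 (d 0 z) = 0
  d_d : ∀ j z, d j (d (j + 1) z) = 0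

variable {X : GrLC.GMod.{u} 𝒜}

/-- A ring element kills the homology of the complex up to powers. -/
structure Cx.Kills (C : Cx X) (r : R) : Prop where
  base : ∀ z : X.carrier, ∃ n : ℕ, r ^ n • z ∈ LinearMap.range C.d0
  first : ∀ z, C.d0 z = 0 → ∃ n : ℕ, r ^ n • z ∈ LinearMap.range (C.d 0)
  next : ∀ j z, C.d j z = 0 → ∃ n : ℕ, r ^ n • z ∈ LinearMap.range (C.d (j + 1))

section Cone

variable (C : Cx X) (x : R)

/-- The differential of a cone in positive degree. -/
def coneMap {A B A' B' : Type u} [AddCommGroup A] [Module R A] [AddCommGroup B] [Module R B]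
    [AddCommGroup A'] [Module R A'] [AddCommGroup B'] [Module R B'] (f : A →ₗ[R] A') (g : B →ₗ[R] B')
    (φ : B →ₗ[R] A') : A × B →ₗ[R] A' × B' :=
  (f ∘ₗ LinearMap.fst R A B + φ ∘ₗ LinearMap.snd R A B).prod (-(g ∘ₗ LinearMap.snd R A B))

theorem coneMap_apply {A B A' B' : Type u} [AddCommGroup A] [Module R A] [AddCommGroup B] [Module R B]
    [AddCommGroup A'] [Module R A'] [AddCommGroup B'] [Module R B'] (f : A →ₗ[R] A') (g : B →ₗ[R] B')
    (φ : B →ₗ[R] A') (a : A) (b : B) : coneMap f g φ (a, b) = (f a + φ b, -g b) := rfl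

theorem coneMap_coneMap {A A' A'' B B' B'' : Type u} [AddCommGroup A] [Module R A] [AddCommGroup A']
    [Module R A'] [AddCommGroup A''] [Module R A''] [AddCommGroup B] [Module R B] [AddCommGroup B']
    [Module R B'] [AddCommGroup B''] [Module R B''] (f : A →ₗ[R] A') (f' : A' →ₗ[R] A'')
    (g : B →ₗ[R] B') (g' : B' →ₗ[R] B'') (φ : B →ₗ[R] A') (ψ : B' →ₗ[R] A'')
    (hff : ∀ w, f' (f w) = 0) (hgg : ∀ w, g' (g w) = 0) (hcomm : ∀ b, f' (φ b) = ψ (g b))
    (z : A × B) : coneMap f' g' ψ (coneMap f g φ z) = 0 := by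
  obtain ⟨p, q⟩ := z
  rw [coneMap_apply, coneMap_apply, map_add, hff, hcomm, zero_add, map_neg, add_neg_cancel, map_neg,
    hgg, neg_zero, neg_zero]
  rfl

/-- The terms of the cone of multiplication by an element of degree one. -/
noncomputable def coneK : ℕ → GrLC.GMod.{u} 𝒜
  | 0 => prodMod (C.K 0) (shiftMod 𝒜 X.gr (-1))
  | j + 1 => prodMod (C.K (j + 1)) (shiftMod 𝒜 (C.K j).gr (-1))

variable {x} in
theorem smul_shift_mem (hx : x ∈ 𝒜 1) (Y : GrLC.GMod.{u} 𝒜) {g : ℤ} {z : Y.carrier}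
    (hz : z ∈ (shiftMod 𝒜 Y.gr (-1)).gr g) : x • z ∈ Y.gr g :=
  smul_mem' 𝒜 Y.gr hx (show z ∈ Y.gr (g + -1) from hz) (by omega)

/-- The last differential of the cone. -/
noncomputable def coneD0 : (C.K 0).carrier × X.carrier →ₗ[R] X.carrier :=
  C.d0 ∘ₗ LinearMap.fst R _ _ + (x • LinearMap.id) ∘ₗ LinearMap.snd R _ _

theorem coneD0_apply (a : (C.K 0).carrier) (b : X.carrier) : coneD0 C x (a, b) = C.d0 a + x • b := rfl

/-- The differentials of the cone. -/
noncomputable def coneD : ∀ j, (coneK C (j + 1)).carrier →ₗ[R] (coneK C j).carrier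
  | 0 => coneMap (C.d 0) C.d0 (x • LinearMap.id)
  | j + 1 => coneMap (C.d (j + 1)) (C.d j) (x • LinearMap.id)

variable {x}

/-- The cone of multiplication by an element of degree one. -/
noncomputable def cone (hx : x ∈ 𝒜 1) : Cx X where
  K := coneK C
  d0 := coneD0 C x
  d := coneD C x
  d0_grHom g z hz := add_mem (C.d0_grHom g _ (AddSubgroup.mem_prod.1 hz).1)
    (smul_shift_mem hx X (AddSubgroup.mem_prod.1 hz).2)
  d_grHom j := by
    cases j with
    | zero =>
      exact fun g z hz => AddSubgroup.mem_prod.2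
        ⟨add_mem (C.d_grHom 0 g _ (AddSubgroup.mem_prod.1 hz).1)
          (smul_shift_mem hx (C.K 0) (AddSubgroup.mem_prod.1 hz).2),
        neg_mem (C.d0_grHom (g + -1) _ (AddSubgroup.mem_prod.1 hz).2)⟩
    | succ j =>
      exact fun g z hz => AddSubgroup.mem_prod.2
        ⟨add_mem (C.d_grHom (j + 1) g _ (AddSubgroup.mem_prod.1 hz).1)
          (smul_shift_mem hx (C.K (j + 1)) (AddSubgroup.mem_prod.1 hz).2),
        neg_mem (C.d_grHom j (g + -1) _ (AddSubgroup.mem_prod.1 hz).2)⟩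
  d0_d z := congrArg Prod.fst (coneMap_coneMap (C.d 0) C.d0 C.d0 (0 : X.carrier →ₗ[R] X.carrier)
    (x • LinearMap.id) (x • LinearMap.id) C.d0_d (fun _ => rfl) (fun b => map_smul _ x b) z)
  d_d j := by
    cases j with
    | zero =>
      exact coneMap_coneMap (C.d 1) (C.d 0) (C.d 0) C.d0 (x • LinearMap.id) (x • LinearMap.id)
        (C.d_d 0) C.d0_d (fun b => map_smul _ x b)
    | succ j =>
      exact coneMap_coneMap (C.d (j + 1 + 1)) (C.d (j + 1)) (C.d (j + 1)) (C.d j) (x • LinearMap.id)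
        (x • LinearMap.id) (C.d_d (j + 1)) (C.d_d j) (fun b => map_smul _ x b)

/-- The general computation behind the annihilation of the homology of a cone. -/
theorem cone_kills_aux {A A' A'' B B' B'' : Type u} [AddCommGroup A] [Module R A] [AddCommGroup A']
    [Module R A'] [AddCommGroup A''] [Module R A''] [AddCommGroup B] [Module R B] [AddCommGroup B']
    [Module R B'] [AddCommGroup B''] [Module R B''] (f : A →ₗ[R] A') (f' : A' →ₗ[R] A'')
    (g : B →ₗ[R] B') (g' : B' →ₗ[R] B'') (φ : B →ₗ[R] A') (ψ : B' →ₗ[R] A'')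
    (hcomm : ∀ b, f' (φ b) = ψ (g b))
    (r : R) (hA : ∀ z, f' z = 0 → ∃ n : ℕ, r ^ n • z ∈ LinearMap.range f)
    (hB : ∀ z, g' z = 0 → ∃ n : ℕ, r ^ n • z ∈ LinearMap.range g)
    {z : A' × B'} (hz1 : f' z.1 + ψ z.2 = 0) (hz2 : g' z.2 = 0) :
    ∃ n : ℕ, r ^ n • z ∈ LinearMap.range (coneMap f g φ) := by
  obtain ⟨n, c, hc⟩ := hB z.2 hz2
  have hcyc : f' (r ^ n • z.1 + φ c) = 0 := by
    rw [map_add, hcomm, hc, map_smul, map_smul, ← smul_add, hz1, smul_zero]
  obtain ⟨m, e, he⟩ := hA _ hcyc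
  refine ⟨m + n, (e, -(r ^ m • c)), ?_⟩
  rw [coneMap_apply, he, map_neg, map_neg, map_smul, map_smul, hc, neg_neg, smul_smul, ← pow_add,
    smul_add, add_neg_cancel_right, smul_smul, ← pow_add]
  rfl

theorem cone_kills_old (hx : x ∈ 𝒜 1) {r : R} (h : C.Kills r) : (cone C hx).Kills r := by
  refine ⟨fun z => ?_, ?_, ?_⟩
  · obtain ⟨n, c, hc⟩ := h.base z
    exact ⟨n, (c, 0), by change coneD0 C x (c, 0) = _; rw [coneD0_apply, smul_zero, add_zero, hc]⟩
  · intro z hz
    refine cone_kills_aux (C.d 0) C.d0 C.d0 (0 : X.carrier →ₗ[R] X.carrier) (x • LinearMap.id) (x • LinearMap.id)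
      (fun b => map_smul _ x b) r h.first (fun w _ => h.base w) hz rfl
  · intro j z hz
    cases j with
    | zero =>
      have hz' := Prod.mk_eq_zero.1 (show coneMap (C.d 0) C.d0 (x • LinearMap.id) z = 0 from hz)
      exact cone_kills_aux (C.d 1) (C.d 0) (C.d 0) C.d0 (x • LinearMap.id) (x • LinearMap.id)
        (fun b => map_smul _ x b) r (h.next 0) h.first hz'.1 (neg_eq_zero.1 hz'.2)
    | succ j =>
      have hz' := Prod.mk_eq_zero.1
        (show coneMap (C.d (j + 1)) (C.d j) (x • LinearMap.id) z = 0 from hz)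
      exact cone_kills_aux (C.d (j + 1 + 1)) (C.d (j + 1)) (C.d (j + 1)) (C.d j) (x • LinearMap.id)
        (x • LinearMap.id) (fun b => map_smul _ x b) r (h.next (j + 1)) (h.next j) hz'.1
        (neg_eq_zero.1 hz'.2)

theorem cone_kills_new_aux {A A' B' : Type u} [AddCommGroup A] [Module R A] [AddCommGroup A']
    [Module R A'] [AddCommGroup B'] [Module R B'] (f : A →ₗ[R] A') (f' : A' →ₗ[R] B') (x : R)
    {z : A' × B'} (hz : f' z.1 + x • z.2 = 0) :
    ∃ n : ℕ, x ^ n • z ∈ LinearMap.range (coneMap f f' (x • LinearMap.id)) := by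
  refine ⟨1, (0, z.1), ?_⟩
  rw [coneMap_apply, map_zero, zero_add, pow_one, eq_neg_of_add_eq_zero_left hz, neg_neg]
  rfl

theorem cone_kills_new (hx : x ∈ 𝒜 1) : (cone C hx).Kills x := by
  refine ⟨fun z => ⟨1, (0, z), ?_⟩, ?_, ?_⟩
  · change coneD0 C x (0, z) = _
    rw [coneD0_apply, map_zero, zero_add, pow_one]
  · exact fun z hz => cone_kills_new_aux (C.d 0) C.d0 x hz
  · intro j z hz
    cases j with
    | zero =>
      have hz' := (Prod.mk_eq_zero.1 (show coneMap (C.d 0) C.d0 (x • LinearMap.id) z = 0 from hz)).1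
      exact cone_kills_new_aux (C.d 1) (C.d 0) x hz'
    | succ j =>
      have hz' := (Prod.mk_eq_zero.1
        (show coneMap (C.d (j + 1)) (C.d j) (x • LinearMap.id) z = 0 from hz)).1
      exact cone_kills_new_aux (C.d (j + 1 + 1)) (C.d (j + 1)) x hz'

end Cone

variable (𝒜) in
/-- The zero graded module. -/
noncomputable def zeroMod (X : GrLC.GMod.{u} 𝒜) : GrLC.GMod.{u} 𝒜 :=
  subMod 𝒜 X.gr ⊥ isHomogeneous_bot

/-- The complex with no terms of positive degree. -/
noncomputable def nil (X : GrLC.GMod.{u} 𝒜) : Cx X where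
  K _ := zeroMod 𝒜 X
  d0 := 0
  d _ := 0
  d0_grHom _ _ _ := zero_mem _
  d_grHom _ _ _ _ := zero_mem _
  d0_d _ := rfl
  d_d _ _ := rfl

/-- The Koszul complex of finitely many elements of degree one. -/
theorem exists_koszul [IsNoetherianRing R] (a : HomogeneousIdeal 𝒜) (X : GrLC.GMod.{u} 𝒜)
    (xs : List R) (hxs : ∀ x ∈ xs, x ∈ 𝒜 1) :
    ∃ C : Cx X, (∀ r ∈ xs, C.Kills r) ∧ LinearMap.range C.d0 ≤ Ideal.span {r | r ∈ xs} • (⊤ : Submodule R X.carrier) ∧
      (∀ j, xs.length ≤ j → Subsingleton (C.K j).carrier) ∧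
      ∀ (j i : ℕ) (n : ℤ), V a X i (n - (j + 1)) → V a (C.K j) i n := by
  induction xs with
  | nil =>
    exact ⟨nil X, by simp, by rw [show (nil X).d0 = 0 from rfl, LinearMap.range_zero]; exact bot_le,
      fun _ _ => inferInstanceAs (Subsingleton (⊥ : Submodule R X.carrier)),
      fun j i n _ => V_of_subsingleton (inferInstanceAs (Subsingleton (⊥ : Submodule R X.carrier)))⟩
  | cons x l ih =>
    obtain ⟨C, hC, hrange, hsub, hV⟩ := ih fun r hr => hxs r (List.mem_cons_of_mem x hr)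
    have hx : x ∈ 𝒜 1 := hxs x List.mem_cons_self
    refine ⟨cone C hx, fun r hr => ?_, ?_, fun j hj => ?_, fun j i n hn => ?_⟩
    · rcases List.mem_cons.1 hr with rfl | hr
      · exact cone_kills_new C hx
      · exact cone_kills_old C hx (hC r hr)
    · rintro _ ⟨⟨p, q⟩, rfl⟩
      refine add_mem (Submodule.smul_mono_left (Ideal.span_mono fun r hr => List.mem_cons_of_mem x hr)
        (hrange ⟨p, rfl⟩)) ?_
      exact Submodule.smul_mem_smul (Ideal.subset_span List.mem_cons_self) trivial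
    · rw [List.length_cons] at hj
      obtain ⟨j, rfl⟩ := Nat.exists_eq_add_of_le' (show 1 ≤ j by omega)
      haveI := hsub (j + 1) (by omega)
      haveI := hsub j (by omega)
      exact inferInstanceAs (Subsingleton ((C.K (j + 1)).carrier × (C.K j).carrier))
    · cases j with
      | zero =>
        refine V_prod (hV 0 i n hn) ((V_shift_iff (X := X) (-1)).2 ?_)
        rwa [← sub_eq_add_neg, show n - 1 = n - (((0 : ℕ) : ℤ) + 1) by simp]
      | succ j =>
        refine V_prod (hV (j + 1) i n hn) ((V_shift_iff (X := C.K j) (-1)).2 (hV j i _ ?_))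
        rwa [show n + -1 - ((j : ℤ) + 1) = n - (((j + 1 : ℕ) : ℤ) + 1) by push_cast; ring]

/-- Ring elements killing homology give torsion. -/
theorem gam_eq_top_of_kills [IsNoetherianRing R] {A : Type u} [AddCommGroup A] [Module R A] {s : Set R}
    (h : ∀ r ∈ s, ∀ z : A, ∃ n : ℕ, r ^ n • z = 0) : GrLC.gam (Ideal.span s) A = ⊤ := by
  refine eq_top_iff.2 fun z _ => ?_
  have hle : Ideal.span s ≤ (Submodule.span R {z}).annihilator.radical := Ideal.span_le.2 fun r hr => by
    obtain ⟨n, hn⟩ := h r hr z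
    exact ⟨n, (Submodule.mem_annihilator_span_singleton _ _).2 hn⟩
  obtain ⟨n, hn⟩ := Ideal.exists_pow_le_of_le_radical_of_fg hle (IsNoetherian.noetherian _)
  exact ⟨n, fun r hr => (Submodule.mem_annihilator_span_singleton _ _).1 (hn hr)⟩

variable [IsNoetherianRing R] {a : HomogeneousIdeal 𝒜}

/-- The step from the kernel to the image in a complex with torsion homology. -/
theorem V_range_of_next {A B C : GrLC.GMod.{u} 𝒜} {f : A.carrier →ₗ[R] B.carrier}
    {g : B.carrier →ₗ[R] C.carrier} (hf : GrLC.IsGrHom A.gr B.gr f) (hg : GrLC.IsGrHom B.gr C.gr g)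
    (hgf : ∀ z, g (f z) = 0) {s : Set R} (hs : a.toIdeal = Ideal.span s)
    (hk : ∀ r ∈ s, ∀ z, g z = 0 → ∃ n : ℕ, r ^ n • z ∈ LinearMap.range f) {i : ℕ} {n : ℤ}
    (hB : V a B i n) (hprev : V a (subMod 𝒜 B.gr (LinearMap.range f) (isHomogeneous_range hf)) (i + 1) n) :
    V a (subMod 𝒜 C.gr (LinearMap.range g) (isHomogeneous_range hg)) i n := by
  refine V_right (ses_ker_range hg) hB ?_
  letI := subDecomp B.gr (LinearMap.ker g) (isHomogeneous_ker hg)
  have hQ : ((LinearMap.range f).comap (LinearMap.ker g).subtype).IsHomogeneous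
      (subGr B.gr (LinearMap.ker g)) :=
    isHomogeneous_comap (fun _ _ h => h) (isHomogeneous_range hf)
  refine V_mid (ses_quot (subMod 𝒜 B.gr (LinearMap.ker g) (isHomogeneous_ker hg)) _ hQ) ?_
    (V_torsion ?_ i.succ_pos)
  · refine V_congr (X := subMod 𝒜 B.gr (LinearMap.range f) (isHomogeneous_range hf))
      (Submodule.comapSubtypeEquivOfLe ?_).symm (fun _ _ hx => hx) hprev
    rintro _ ⟨z, rfl⟩
    exact hgf z
  · rw [hs]
    refine gam_eq_top_of_kills fun r hr z => ?_
    obtain ⟨z, rfl⟩ := Submodule.mkQ_surjective _ z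
    obtain ⟨m, hm⟩ := hk r hr z.1 z.2
    exact ⟨m, (Submodule.Quotient.mk_eq_zero _).2 hm⟩

/-- Vanishing for the images of a complex of finite length with torsion homology. -/
theorem V_range_d {X : GrLC.GMod.{u} 𝒜} (C : Cx X) {s : Set R} (hs : a.toIdeal = Ideal.span s)
    (hk : ∀ r ∈ s, C.Kills r) {n : ℤ} {N : ℕ} (hN : ∀ j, N ≤ j → Subsingleton (C.K j).carrier)
    {i : ℕ} (hK : ∀ j, V a (C.K j) (i + j) n) :
    V a (subMod 𝒜 X.gr (LinearMap.range C.d0) (isHomogeneous_range C.d0_grHom)) i n := by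
  have key : ∀ k j, N ≤ j + k →
      V a (subMod 𝒜 (C.K j).gr (LinearMap.range (C.d j)) (isHomogeneous_range (C.d_grHom j)))
        (i + 1 + j) n := by
    intro k
    induction k with
    | zero =>
      intro j hj
      haveI := hN j hj
      exact V_of_subsingleton
        (inferInstanceAs (Subsingleton (LinearMap.range (C.d j))))
    | succ k ih =>
      intro j hj
      refine V_range_of_next (C.d_grHom (j + 1)) (C.d_grHom j) (C.d_d j) hs
        (fun r hr z hz => (hk r hr).next j z hz) ?_ (ih (j + 1) (by omega))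
      rw [show i + 1 + j = i + (j + 1) by omega]
      exact hK (j + 1)
  exact V_range_of_next (C.d_grHom 0) C.d0_grHom C.d0_d hs (fun r hr z hz => (hk r hr).first z hz)
    (hK 0) (key N 0 (by omega))

end Groth.Agent.Lib.Graded.Koszul
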