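import Groth.Agent.Lib.Graded.Bound

/-!
# Vanishing through a regular homogeneous element of the ideal
-/

universe u

set_option maxHeartbeats 600000

set_option linter.unusedSectionVars false

open DirectSum

namespace Groth.Agent.Lib.Graded.RegSeq

open Groth.Agent.Lib.Graded.Basic Groth.Agent.Lib.Graded.StarInj Groth.Agent.Lib.Graded.Van

variable {R : Type u} [CommRing R] [IsNoetherianRing R] {σ : Type u} [SetLike σ R] [AddSubgroupClass σ R]
variable {𝒜 : ℤ → σ} [GradedRing 𝒜] {a : HomogeneousIdeal 𝒜}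

variable {X Y : GrLC.GMod.{u} 𝒜} {x : R} {k : ℤ} {π : X.carrier →ₗ[R] Y.carrier}

theorem V_zero (hxa : x ∈ a.toIdeal) (hreg : IsSMulRegular X.carrier x) (n : ℤ) : V a X 0 n := by
  refine V_zero_iff.2 fun y _ hy => ?_
  obtain ⟨m, hm⟩ := hy
  exact Bound.eq_zero_of_pow_smul (fun z hz => hreg (hz.trans (smul_zero x).symm)) m y
    (hm _ (Ideal.pow_mem_pow hxa m))

theorem V_succ (hx : x ∈ 𝒜 k) (hk : 0 ≤ k) (hxa : x ∈ a.toIdeal) (hreg : IsSMulRegular X.carrier x)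
    (hπ : GrLC.IsGrHom X.gr Y.gr π) (hsurj : Function.Surjective π)
    (hker : LinearMap.ker π = LinearMap.range (x • (LinearMap.id : X.carrier →ₗ[R] X.carrier)))
    {i : ℕ} {lo : ℤ} (hY : ∀ n, lo ≤ n → V a Y i (n + k)) (n : ℤ) (hn : lo ≤ n) :
    V a X (i + 1) n := by
  intro E
  obtain ⟨F⟩ := Res.nonempty_starInjRes 𝒜 Y.gr
  obtain ⟨g, δ, -, hδ, -, -, hk0, -⟩ := SmulSeq.exists_seq a hx hreg hπ hsurj hker E F
  letI := Res.hgrDecomp F a i
  letI := Res.hgrDecomp E a (i + 1)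
  haveI := Res.hgrGSMul E a (i + 1)
  have key : ∀ (n : ℤ), lo ≤ n → ∀ z ∈ E.Hgr a (i + 1) n, x • z = 0 → z = 0 := by
    intro n hn z hz hxz
    obtain ⟨w, hw⟩ := (hk0 i z).1 hxz
    have h1 := map_proj_deg (hδ i) (n + k) w
    rw [hw, show n + k + -k = n by ring, proj_of_mem _ hz] at h1
    have h2 : proj (F.Hgr a i) (n + k) w = 0 := by
      have h3 := proj_mem (F.Hgr a i) (n + k) w
      rwa [hY n hn F, AddSubgroup.mem_bot] at h3
    rw [h2, map_zero] at h1
    exact h1.symm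
  refine (AddSubgroup.eq_bot_iff_forall _).2 fun z hz => ?_
  obtain ⟨m, hm⟩ : z ∈ GrLC.gam a.toIdeal (E.H a (i + 1)) :=
    (SmulSeq.gam_H_eq_top a E (i + 1)).ge trivial
  have key2 : ∀ (m : ℕ) (n : ℤ), lo ≤ n → ∀ z ∈ E.Hgr a (i + 1) n, x ^ m • z = 0 → z = 0 := by
    intro m
    induction m with
    | zero => intro n _ z _ h; rwa [pow_zero, one_smul] at h
    | succ m ih =>
      intro n hn z hz h
      refine key n hn z hz (ih (k + n) (by omega) (x • z) (smul_mem_add 𝒜 _ hx hz) ?_)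
      rwa [← mul_smul, ← pow_succ]
  exact key2 m n hn z hz (hm _ (Ideal.pow_mem_pow hxa m))

end Groth.Agent.Lib.Graded.RegSeq
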