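import Groth.Prelude.Def_GrSyz
import Groth.Agent.Lib.Graded.RegSeq
import Mathlib.RingTheory.MvPolynomial.Ideal
import Mathlib.RingTheory.Polynomial.Basic

/-!
# The standard graded polynomial ring and its graded local cohomology
-/

universe u

set_option maxHeartbeats 600000

set_option linter.unusedSectionVars false

open DirectSum MvPolynomial

namespace Groth.Agent.Lib.Graded.Poly

open Groth.Agent.Lib.Graded.Basic Groth.Agent.Lib.Graded.StarInj Groth.Agent.Lib.Graded.Van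

variable {k : Type u} [Field k] {σ : Type}

local notation "𝒜" => GrSyz.stdGr k σ
local notation "𝔪" => GrSyz.irrel (GrSyz.stdGr k σ)

theorem weight_one (m : σ →₀ ℕ) :
    Finsupp.weight (fun _ : σ => (1 : ℤ)) m = ((m.degree : ℕ) : ℤ) := by
  rw [Finsupp.weight_apply, Finsupp.degree_apply, Finsupp.sum]
  push_cast
  simp

theorem degree_eq_of_mem {n : ℤ} {p : MvPolynomial σ k} (hp : p ∈ 𝒜 n) {m : σ →₀ ℕ}
    (hm : m ∈ p.support) : ((m.degree : ℕ) : ℤ) = n :=
  (weight_one m).symm.trans (hp (mem_support_iff.1 hm))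

theorem eq_zero_of_neg (n : ℤ) (hn : n < 0) (p : MvPolynomial σ k) (hp : p ∈ 𝒜 n) : p = 0 := by
  by_contra h
  obtain ⟨m, hm⟩ := support_nonempty.2 h
  have := degree_eq_of_mem hp hm
  omega

theorem X_mem (i : σ) : (X i : MvPolynomial σ k) ∈ 𝒜 1 := isWeightedHomogeneous_X k _ i

theorem C_mem (c : k) : (C c : MvPolynomial σ k) ∈ 𝒜 0 := isWeightedHomogeneous_C _ c

theorem X_mem_irrel (i : σ) : (X i : MvPolynomial σ k) ∈ (𝔪).toIdeal :=
  Ideal.subset_span ⟨1, one_pos, X_mem i⟩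

theorem exists_ne_zero_of_degree {m : σ →₀ ℕ} (h : m.degree ≠ 0) : ∃ i, m i ≠ 0 := by
  by_contra hc
  push_neg at hc
  exact h (by rw [show m = 0 from Finsupp.ext hc, map_zero])

theorem irrel_eq_vars : (𝔪).toIdeal = Ideal.span (X '' (Set.univ : Set σ)) := by
  refine le_antisymm (Ideal.span_le.2 ?_) (Ideal.span_le.2 ?_)
  · rintro p ⟨n, hn, hp⟩
    refine mem_ideal_span_X_image.2 fun m hm => ?_
    obtain ⟨i, hi⟩ := exists_ne_zero_of_degree (m := m) (by
      have := degree_eq_of_mem hp hm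
      omega)
    exact ⟨i, trivial, hi⟩
  · rintro _ ⟨i, -, rfl⟩
    exact X_mem_irrel i

theorem irrel_eq_span_one : (𝔪).toIdeal = Ideal.span (𝒜 1 : Set (MvPolynomial σ k)) := by
  refine le_antisymm ?_ (Ideal.span_le.2 fun p hp => Ideal.subset_span ⟨1, one_pos, hp⟩)
  rw [irrel_eq_vars, Ideal.span_le]
  rintro _ ⟨i, -, rfl⟩
  exact Ideal.subset_span (X_mem i)

theorem eq_zero_of_deg0_mem_irrel {p : MvPolynomial σ k} (hp : p ∈ 𝒜 0) (hm : p ∈ (𝔪).toIdeal) :
    p = 0 := by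
  by_contra h
  obtain ⟨m, hms⟩ := support_nonempty.2 h
  rw [irrel_eq_vars] at hm
  obtain ⟨i, -, hi⟩ := mem_ideal_span_X_image.1 hm m hms
  have h0 := degree_eq_of_mem hp hms
  exact hi (Finsupp.ext_iff.1 ((Finsupp.degree_eq_zero_iff m).1 (by exact_mod_cast h0)) i)

theorem proj_zero_eq (p : MvPolynomial σ k) : proj 𝒜 0 p = C (constantCoeff p) := by
  have h1 : p - C (constantCoeff p) ∈ (𝔪).toIdeal := by
    rw [irrel_eq_vars]
    refine mem_ideal_span_X_image.2 fun m hm => ?_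
    rcases eq_or_ne m 0 with rfl | h0
    · simp [mem_support_iff, constantCoeff_eq] at hm
    · obtain ⟨i, hi⟩ := Finsupp.ne_iff.1 h0
      exact ⟨i, trivial, hi⟩
  have h2 : proj 𝒜 0 (p - C (constantCoeff p)) = 0 :=
    eq_zero_of_deg0_mem_irrel (proj_mem _ _ _) ((𝔪).isHomogeneous 0 h1)
  rwa [map_sub, proj_of_mem _ (C_mem _), sub_eq_zero] at h2

theorem isUnit_proj_zero {p : MvPolynomial σ k} (hp : p ∉ (𝔪).toIdeal) :
    IsUnit (proj 𝒜 0 p) := by
  rw [proj_zero_eq]
  refine IsUnit.map C (isUnit_iff_ne_zero.2 fun h0 => hp ?_)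
  rw [irrel_eq_vars]
  refine mem_ideal_span_X_image.2 fun m hm => ?_
  rcases eq_or_ne m 0 with rfl | hm0
  · exact absurd (by rw [← constantCoeff_eq]; exact h0) (mem_support_iff.1 hm)
  · obtain ⟨i, hi⟩ := Finsupp.ne_iff.1 hm0
    exact ⟨i, trivial, hi⟩

theorem one_not_mem_irrel : (1 : MvPolynomial σ k) ∉ (𝔪).toIdeal := fun h =>
  one_ne_zero (eq_zero_of_deg0_mem_irrel (SetLike.one_mem_graded 𝒜) h)

section Ideals

theorem isHomogeneous_vars (s : Set σ) :
    Submodule.IsHomogeneous (Ideal.span (X '' s) : Ideal (MvPolynomial σ k)) 𝒜 :=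
  Ideal.homogeneous_span 𝒜 _ (by rintro _ ⟨i, -, rfl⟩; exact ⟨1, X_mem i⟩)

theorem regular_vars {s : Set σ} {j : σ} (hj : j ∉ s) :
    IsSMulRegular (MvPolynomial σ k ⧸ (Ideal.span (X '' s) : Ideal (MvPolynomial σ k)))
      (X j : MvPolynomial σ k) := by
  intro u v huv
  obtain ⟨p, rfl⟩ := Submodule.Quotient.mk_surjective _ u
  obtain ⟨q, rfl⟩ := Submodule.Quotient.mk_surjective _ v
  have h1 : X j * (p - q) ∈ Ideal.span (X '' s) := by
    rw [mul_sub]
    exact (Submodule.Quotient.eq _).1 huv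
  refine (Submodule.Quotient.eq _).2 (mem_ideal_span_X_image.2 fun m hm => ?_)
  obtain ⟨i, hi, hne⟩ := mem_ideal_span_X_image.1 h1 (Finsupp.single j 1 + m) (by
    rw [mem_support_iff, coeff_X_mul]
    exact mem_support_iff.1 hm)
  refine ⟨i, hi, ?_⟩
  simpa [Finsupp.single_apply, show j ≠ i from fun h => hj (h ▸ hi)] using hne

variable [Finite σ]

theorem ker_factor {s : Set σ} {j : σ}
    (h : (Ideal.span (X '' s) : Ideal (MvPolynomial σ k)) ≤ Ideal.span (X '' (insert j s))) :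
    LinearMap.ker (Submodule.factor h) = LinearMap.range ((X j : MvPolynomial σ k) •
      (LinearMap.id : (MvPolynomial σ k ⧸ (Ideal.span (X '' s) : Ideal (MvPolynomial σ k))) →ₗ[MvPolynomial σ k] _)) := by
  ext u
  obtain ⟨p, rfl⟩ := Submodule.Quotient.mk_surjective _ u
  rw [LinearMap.mem_ker, LinearMap.mem_range]
  change Submodule.Quotient.mk p = 0 ↔ _
  rw [Submodule.Quotient.mk_eq_zero, Set.image_insert_eq, Ideal.span_insert]
  constructor
  · intro hp
    obtain ⟨a, ha, b, hb, rfl⟩ := Submodule.mem_sup.1 hp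
    obtain ⟨c, rfl⟩ := Ideal.mem_span_singleton.1 ha
    exact ⟨Submodule.Quotient.mk c, (Submodule.Quotient.eq _).2 (by simpa using hb)⟩
  · rintro ⟨v, hv⟩
    obtain ⟨c, rfl⟩ := Submodule.Quotient.mk_surjective _ v
    have h1 : X j * c - p ∈ Ideal.span (X '' s) := (Submodule.Quotient.eq _).1 hv
    exact Submodule.mem_sup.2 ⟨X j * c, Ideal.mem_span_singleton.2 (dvd_mul_right _ _),
      p - X j * c, by simpa [neg_sub] using neg_mem h1, add_sub_cancel _ _⟩

/-- Vanishing for the quotients by some of the variables. -/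
theorem V_quot_vars : ∀ (N : ℕ) (s : Set σ), (sᶜ).ncard ≤ N → ∀ (i : ℕ) (n : ℤ), 0 < n + i →
    V (𝔪) (qMod 𝒜 𝒜 (Ideal.span (X '' s) : Ideal (MvPolynomial σ k)) (isHomogeneous_vars s)) i n := by
  intro N
  induction N with
  | zero =>
    intro s hs i n hn
    have hs' : s = Set.univ := Set.compl_empty_iff.1 ((Set.ncard_eq_zero (Set.toFinite _)).1 (Nat.le_zero.1 hs))
    subst hs'
    rcases Nat.eq_zero_or_pos i with rfl | hi
    · refine V_zero_iff.2 fun u hu _ => ?_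
      obtain ⟨p, hp, rfl⟩ := hu
      refine (Submodule.Quotient.mk_eq_zero _).2 ?_
      rw [← irrel_eq_vars]
      exact Ideal.subset_span ⟨n, by simpa using hn, hp⟩
    · refine V_torsion (eq_top_iff.2 fun u _ => ⟨1, fun r hr => ?_⟩) hi
      obtain ⟨p, rfl⟩ := Submodule.mkQ_surjective _ u
      refine (Submodule.Quotient.mk_eq_zero _).2 ?_
      rw [pow_one, irrel_eq_vars] at hr
      exact Ideal.mul_mem_right p _ hr
  | succ N ih =>
    intro s hs i n hn
    rcases eq_or_ne s Set.univ with rfl | hne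
    · exact ih Set.univ (by simp) i n hn
    obtain ⟨j, hj⟩ := (Set.ne_univ_iff_exists_notMem s).1 hne
    have hle : (Ideal.span (X '' s) : Ideal (MvPolynomial σ k)) ≤ Ideal.span (X '' (insert j s)) :=
      Ideal.span_mono (Set.image_mono (Set.subset_insert _ _))
    have hcard : (insert j s)ᶜ.ncard ≤ N := by
      have h1 : (insert j s)ᶜ ⊂ sᶜ := by
        refine Set.ssubset_iff_subset_ne.2 ⟨Set.compl_subset_compl.2 (Set.subset_insert _ _), fun h => ?_⟩
        exact (h ▸ (show j ∈ sᶜ from hj) : j ∈ (insert j s)ᶜ) (Set.mem_insert _ _)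
      have := Set.ncard_lt_ncard h1 (Set.toFinite _)
      omega
    cases i with
    | zero => exact RegSeq.V_zero (X_mem_irrel j) (regular_vars hj) n
    | succ i =>
      refine RegSeq.V_succ (lo := -(i : ℤ)) (π := Submodule.factor hle) (X_mem j) zero_le_one
        (X_mem_irrel j) (regular_vars hj)
        (Y := qMod 𝒜 𝒜 (Ideal.span (X '' insert j s) : Ideal (MvPolynomial σ k)) (isHomogeneous_vars _))
        ?_ ?_ (ker_factor hle) (fun n hn => ih _ hcard i (n + 1) (by omega)) n (by omega)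
      · rintro g _ ⟨p, hp, rfl⟩
        exact ⟨p, hp, rfl⟩
      · intro v
        obtain ⟨p, rfl⟩ := Submodule.mkQ_surjective _ v
        exact ⟨Submodule.Quotient.mk p, rfl⟩

/-- The local cohomology of the polynomial ring vanishes above the diagonal `n + i = 0`. -/
theorem V_ring (i : ℕ) (n : ℤ) (hn : 0 < n + i) : V (𝔪) (toMod 𝒜 𝒜) i n := by
  have h0 : (Ideal.span (X '' (∅ : Set σ)) : Ideal (MvPolynomial σ k)) = ⊥ := by simp
  let e := Submodule.quotEquivOfEqBot _ h0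
  refine V_congr (X := qMod 𝒜 𝒜 (Ideal.span (X '' (∅ : Set σ)) : Ideal (MvPolynomial σ k)) (isHomogeneous_vars ∅))
    (Y := toMod 𝒜 𝒜) e ?_ (V_quot_vars _ ∅ le_rfl i n hn)
  rintro g _ ⟨p, hp, rfl⟩
  exact (mem_toMod 𝒜 𝒜).2 hp

theorem exists_gens : ∃ gens : List (MvPolynomial σ k × ℤ), (∀ p ∈ gens, p.1 ∈ 𝒜 p.2) ∧
    (𝔪).toIdeal = Ideal.span {r | ∃ p ∈ gens, p.1 = r} ∧ gens.length = Nat.card σ := by
  haveI := Fintype.ofFinite σ
  refine ⟨Finset.univ.toList.map fun i : σ => (X i, 1), ?_, ?_, by simp⟩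
  · intro p hp
    obtain ⟨i, -, rfl⟩ := List.mem_map.1 hp
    exact X_mem i
  · rw [irrel_eq_vars]
    refine congrArg Ideal.span (Set.ext fun r => ?_)
    simp [eq_comm]

theorem V_of_card_lt (X₀ : GrLC.GMod.{u} 𝒜) {i : ℕ} (n : ℤ) (hi : Nat.card σ < i) : V (𝔪) X₀ i n := by
  obtain ⟨gens, h1, h2, h3⟩ := exists_gens (k := k) (σ := σ)
  exact Bound.V_of_length_lt gens h1 h2 X₀ i n (h3 ▸ hi)

end Ideals

end Groth.Agent.Lib.Graded.Poly
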