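import Groth.Agent.Lib.Graded.StarLocal
import Groth.Agent.Lib.Depth.CM
import Mathlib.RingTheory.Ideal.AssociatedPrime.Localization
import Mathlib.RingTheory.Ideal.KrullsHeightTheorem

/-!
# Growth of a standard graded Cohen–Macaulay algebra modulo an associated prime
-/

universe u

set_option maxHeartbeats 800000
set_option linter.unusedSectionVars false

open DirectSum

namespace Groth.Agent.Lib.Graded.CMGrowth

open Groth.Agent.Lib.Graded.Basic

variable {R : Type u} [CommRing R] [LocCoh.IsCohenMacaulayRing R] {𝒜 : ℤ → AddSubgroup R} [GradedRing 𝒜]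
  {m : HomogeneousIdeal 𝒜} (hpos : ∀ n : ℤ, n < 0 → 𝒜 n = ⊥) (hm : GrLC.IsStarLocal 𝒜 m)

include hpos hm

/-- A Cohen–Macaulay *local ring is not generated by one element modulo an associated prime inside
the *maximal ideal, in dimension at least two. -/
theorem not_le_sup_span {n : ℕ} (hn : ringKrullDim R = n) (h2 : 2 ≤ n) {P : Ideal R}
    (hP : P ∈ associatedPrimes R R) (hPm : P ≤ m.toIdeal) {y : R} (hy : y ∈ m.toIdeal) :
    ¬ m.toIdeal ≤ P ⊔ Ideal.span {y} := by
  intro hle
  haveI : IsNoetherianRing R := inferInstance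
  haveI := StarLocal.isMaximal hpos hm
  haveI := hP.1
  let A := Localization.AtPrime m.toIdeal
  let PA : Ideal A := P.map (algebraMap R A)
  have hdisj : Disjoint (m.toIdeal.primeCompl : Set R) (P : Set R) :=
    Set.disjoint_left.2 fun x hx hxP => hx (hPm hxP)
  haveI hPAp : PA.IsPrime := IsLocalization.isPrime_of_isPrime_disjoint _ A P ‹_› hdisj
  have hass : PA ∈ associatedPrimes A A := by
    refine Module.associatedPrimes.mem_associatedPrimes_of_comap_mem_associatedPrimes_of_isLocalizedModule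
      m.toIdeal.primeCompl (Algebra.linearMap R A) PA ?_
    have hc : Ideal.comap (algebraMap R A) PA = P :=
      IsLocalization.comap_map_of_isPrime_disjoint m.toIdeal.primeCompl A ‹_› hdisj
    rw [hc]; exact hP
  haveI : LocCoh.IsCohenMacaulayLocalRing A :=
    LocCoh.IsCohenMacaulayRing.isCohenMacaulayLocalRing_localization m.toIdeal
  have hdim : ringKrullDim (A ⧸ PA) = n := by
    rw [Depth.CM.ringKrullDim_quotient_eq Depth.CM.isCohenMacaulayModule_self hass,
      Module.supportDim_self_eq_ringKrullDim, IsLocalization.AtPrime.ringKrullDim_eq_height m.toIdeal A,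
      ← StarLocal.ringKrullDim_eq hpos hm, hn]
  haveI : Nontrivial (A ⧸ PA) := Ideal.Quotient.nontrivial_iff.2 hPAp.ne_top
  haveI : IsLocalRing (A ⧸ PA) := IsLocalRing.of_surjective' _ Ideal.Quotient.mk_surjective
  have hprin : IsLocalRing.maximalIdeal (A ⧸ PA) =
      Ideal.span {Ideal.Quotient.mk PA (algebraMap R A y)} := by
    have hmap : (IsLocalRing.maximalIdeal A).map (Ideal.Quotient.mk PA) = IsLocalRing.maximalIdeal (A ⧸ PA) :=
      (congrArg (Ideal.map (Ideal.Quotient.mk PA)) (IsLocalRing.eq_maximalIdeal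
        (Ideal.comap_isMaximal_of_surjective (Ideal.Quotient.mk PA) Ideal.Quotient.mk_surjective
          (K := IsLocalRing.maximalIdeal (A ⧸ PA)))).symm).trans
        (Ideal.map_comap_of_surjective _ Ideal.Quotient.mk_surjective _)
    refine le_antisymm ?_ ?_
    · rw [← hmap, ← IsLocalization.AtPrime.map_eq_maximalIdeal m.toIdeal A]
      refine (Ideal.map_mono (Ideal.map_mono hle)).trans ?_
      rw [Ideal.map_sup, Ideal.map_sup, Ideal.map_quotient_self, bot_sup_eq, Ideal.map_span,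
        Ideal.map_span, Set.image_singleton, Set.image_singleton]
    · rw [Ideal.span_singleton_le_iff_mem, ← hmap, ← IsLocalization.AtPrime.map_eq_maximalIdeal m.toIdeal A]
      exact Ideal.mem_map_of_mem _ (Ideal.mem_map_of_mem _ hy)
  have hh := Ideal.height_le_one_of_isPrincipal_of_mem_minimalPrimes
    (Ideal.span {Ideal.Quotient.mk PA (algebraMap R A y)}) (IsLocalRing.maximalIdeal (A ⧸ PA))
    (by rw [← hprin]; exact ⟨⟨inferInstance, le_rfl⟩, fun q hq _ => hq.2⟩)
  rw [← IsLocalRing.maximalIdeal_height_eq_ringKrullDim] at hdim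
  have h3 : (n : WithBot ℕ∞) ≤ ((1 : ℕ∞) : WithBot ℕ∞) := hdim ▸ WithBot.coe_le_coe.2 hh
  have h4 : (n : ℕ∞) ≤ 1 := WithBot.coe_le_coe.1 h3
  have : n ≤ 1 := by exact_mod_cast h4
  omega

/-- Two elements of every positive degree stay independent modulo an associated prime. -/
theorem exists_pair (h0 : IsField (GrLC.deg0 𝒜)) (hstd1 : m.toIdeal = Ideal.span ((𝒜 1 : AddSubgroup R) : Set R))
    {n : ℕ} (hn : ringKrullDim R = n) (h2 : 2 ≤ n) {P : Ideal R} (hP : P ∈ associatedPrimes R R)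
    (hPm : P ≤ m.toIdeal) {i : ℕ} (hi : 0 < i) :
    ∃ f ∈ 𝒜 (i : ℤ), ∃ g ∈ 𝒜 (i : ℤ), ∀ c d : GrLC.deg0 𝒜, (c : R) * f + (d : R) * g ∈ P → c = 0 ∧ d = 0 := by
  haveI := hP.1
  have hlin : ∀ y ∈ m.toIdeal, ∃ x ∈ 𝒜 1, x ∉ P ⊔ Ideal.span {y} := fun y hy => by
    by_contra hc
    simp only [not_exists, not_and, not_not] at hc
    exact not_le_sup_span hpos hm hn h2 hP hPm hy (hstd1 ▸ Ideal.span_le.2 hc)
  obtain ⟨y, hy, hyP⟩ := hlin 0 (zero_mem _)
  have hyP' : y ∉ P := fun h => hyP (Ideal.mem_sup_left h)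
  obtain ⟨x, hx, hxP⟩ := hlin y (hstd1 ▸ Ideal.subset_span hy)
  have hcoe : ∀ c : GrLC.deg0 𝒜, (c : R) ∈ P → c = 0 := fun c hc => by
    by_contra hne
    obtain ⟨w, hw⟩ := h0.mul_inv_cancel hne
    refine (Ideal.IsPrime.ne_top ‹_›) (Ideal.eq_top_of_isUnit_mem _ hc ?_)
    exact IsUnit.of_mul_eq_one (w : R) (congrArg Subtype.val hw)
  obtain ⟨j, rfl⟩ : ∃ j, i = j + 1 := ⟨i - 1, by omega⟩
  refine ⟨x * y ^ j, ?_, y ^ (j + 1), ?_, fun c d hcd => ?_⟩
  · have h := SetLike.mul_mem_graded hx (SetLike.pow_mem_graded j hy)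
    simpa [add_comm] using h
  · simpa using SetLike.pow_mem_graded (j + 1) hy
  have h1 : ((c : R) * x + (d : R) * y) * y ^ j ∈ P := by
    rw [pow_succ'] at hcd
    convert hcd using 1; ring
  have h3 := ((Ideal.IsPrime.mem_or_mem ‹_› h1).resolve_right fun h => hyP' (Ideal.IsPrime.mem_of_pow_mem ‹_› j h))
  have hc : c = 0 := by
    by_contra hne
    obtain ⟨w, hw⟩ := h0.mul_inv_cancel hne
    refine hxP ?_
    have hx' : x = (w : R) * ((c : R) * x + (d : R) * y) + (-((w : R) * d)) * y := by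
      rw [mul_add, ← mul_assoc, mul_comm (w : R) c, show (c : R) * (w : R) = 1 from congrArg Subtype.val hw]
      ring
    rw [hx']
    exact add_mem (Ideal.mem_sup_left (P.mul_mem_left _ h3))
      (Ideal.mem_sup_right (Ideal.mul_mem_left _ _ (Ideal.mem_span_singleton_self y)))
  refine ⟨hc, hcoe d ?_⟩
  rw [hc, ZeroMemClass.coe_zero, zero_mul, zero_add] at h3
  exact (Ideal.IsPrime.mem_or_mem ‹_› h3).resolve_right hyP'

end Groth.Agent.Lib.Graded.CMGrowth
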