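import Groth.Agent.Lib.Graded.Basic
import Mathlib.Algebra.Module.Injective
import Mathlib.Algebra.Category.ModuleCat.Injective
import Mathlib.Algebra.Category.ModuleCat.EnoughInjectives
import Mathlib.CategoryTheory.Preadditive.Injective.Basic
import Mathlib.Data.Finsupp.Basic

/-!
# The cofree graded module of a module

For a module `I` over a graded ring the graded module with every piece equal to `I` is right adjoint
to forgetting degrees; it is *injective when `I` is injective.
-/

universe u

set_option linter.unusedSectionVars false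

open DirectSum

namespace Groth.Agent.Lib.Graded.Cofree

open Groth.Agent.Lib.Graded.Basic

variable {ι : Type} [AddCommGroup ι] [DecidableEq ι]
variable {R : Type u} [CommRing R] {σ : Type u} [SetLike σ R] [AddSubgroupClass σ R]
variable (𝒜 : ι → σ) [GradedRing 𝒜]
variable (I : Type u) [AddCommGroup I] [Module R I]

theorem end_add_apply {A : Type u} [AddCommGroup A] (f f' : AddMonoid.End A) (v : A) :
    (f + f') v = f v + f' v := rfl

theorem end_map_add {A : Type u} [AddCommGroup A] (f : AddMonoid.End A) (v w : A) :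
    f (v + w) = f v + f w := map_add f v w

/-- Multiplication by a scalar and translation of degrees. -/
noncomputable def actFun (h : ι) (r : R) : (ι →₀ I) →+ (ι →₀ I) :=
  (Finsupp.mapDomain.addMonoidHom (fun g : ι => g + h)).comp
    (Finsupp.mapRange.addMonoidHom (DistribSMul.toAddMonoidHom I r))

theorem actFun_single (h : ι) (r : R) (g : ι) (x : I) :
    actFun I h r (Finsupp.single g x) = Finsupp.single (g + h) (r • x) := by
  change Finsupp.mapDomain (fun g : ι => g + h)
    (Finsupp.mapRange (DistribSMul.toAddMonoidHom I r) (map_zero _) (Finsupp.single g x)) = _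
  rw [Finsupp.mapRange_single, Finsupp.mapDomain_single]
  rfl

/-- Multiplication by a scalar placed in degree `h`. -/
noncomputable def act (h : ι) : R →+ AddMonoid.End (ι →₀ I) :=
  AddMonoidHom.mk' (fun r => (actFun I h r : AddMonoid.End (ι →₀ I))) fun r s => by
    refine Finsupp.addHom_ext fun g x => ?_
    change actFun I h (r + s) (Finsupp.single g x) =
      actFun I h r (Finsupp.single g x) + actFun I h s (Finsupp.single g x)
    rw [actFun_single, actFun_single, actFun_single, add_smul, Finsupp.single_add]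

theorem act_single (h : ι) (r : R) (g : ι) (x : I) :
    act I h r (Finsupp.single g x) = Finsupp.single (g + h) (r • x) :=
  actFun_single I h r g x

/-- The graded action as an additive map. -/
noncomputable def actHom : R →+ AddMonoid.End (ι →₀ I) :=
  (DirectSum.toAddMonoid fun h => (act I h).comp (AddSubgroupClass.subtype (𝒜 h))).comp
    (DirectSum.decomposeAddEquiv 𝒜).toAddMonoidHom

theorem actHom_of_mem {h : ι} {r : R} (hr : r ∈ 𝒜 h) (g : ι) (x : I) :
    actHom 𝒜 I r (Finsupp.single g x) = Finsupp.single (g + h) (r • x) := by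
  simp [actHom, DirectSum.decompose_of_mem 𝒜 hr, act_single]

/-- The ring map giving the module structure. -/
noncomputable def actRingHom : R →+* AddMonoid.End (ι →₀ I) :=
  { actHom 𝒜 I with
    map_one' := by
      refine Finsupp.addHom_ext fun g x => ?_
      exact (actHom_of_mem 𝒜 I (SetLike.one_mem_graded 𝒜) g x).trans (by rw [add_zero, one_smul]; rfl)
    map_mul' := by
      intro r s
      refine Finsupp.addHom_ext fun g x => ?_
      change actHom 𝒜 I (r * s) (Finsupp.single g x) =
        actHom 𝒜 I r (actHom 𝒜 I s (Finsupp.single g x))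
      induction r using induction_hom 𝒜 with
      | zero => rw [zero_mul, map_zero]; rfl
      | hom i r hr =>
        induction s using induction_hom 𝒜 with
        | zero =>
          rw [mul_zero, map_zero]
          exact (map_zero (actHom 𝒜 I r)).symm
        | hom j s hs =>
          rw [actHom_of_mem 𝒜 I (SetLike.mul_mem_graded hr hs), actHom_of_mem 𝒜 I hs,
            actHom_of_mem 𝒜 I hr, mul_smul, add_assoc, add_comm j i]
        | add a b ha hb =>
          rw [mul_add, map_add, map_add, end_add_apply, end_add_apply, end_map_add, ha, hb]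
      | add a b ha hb =>
        rw [add_mul, map_add, map_add, end_add_apply, end_add_apply, ha, hb] }

/-- The cofree graded module on `I`. -/
def Carrier {ι : Type} {R : Type u} {σ : Type u} (_𝒜 : ι → σ) (I : Type u) [AddCommGroup I]
    [SetLike σ R] : Type u := ι →₀ I

noncomputable instance instAddCommGroupCarrier : AddCommGroup (Carrier 𝒜 I) :=
  inferInstanceAs (AddCommGroup (ι →₀ I))

noncomputable instance instModuleCarrier : Module R (Carrier 𝒜 I) :=
  Module.compHom (ι →₀ I) (actRingHom 𝒜 I)

/-- The inclusion of a degree. -/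
noncomputable def single (g : ι) : I →+ Carrier 𝒜 I := Finsupp.singleAddHom g

/-- The coordinate of a degree. -/
noncomputable def coord (g : ι) : Carrier 𝒜 I →+ I := Finsupp.applyAddHom g

theorem coord_single_same (g : ι) (x : I) : coord 𝒜 I g (single 𝒜 I g x) = x :=
  Finsupp.single_eq_same (α := ι) (a := g) (b := x)

theorem coord_single_ne {g h : ι} (hne : h ≠ g) (x : I) : coord 𝒜 I g (single 𝒜 I h x) = 0 :=
  Finsupp.single_eq_of_ne hne.symm

theorem smul_single {h : ι} {r : R} (hr : r ∈ 𝒜 h) (g : ι) (x : I) :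
    r • single 𝒜 I g x = single 𝒜 I (g + h) (r • x) :=
  actHom_of_mem 𝒜 I hr g x

theorem induction_single {p : Carrier 𝒜 I → Prop} (zero : p 0)
    (hsingle : ∀ g x, p (single 𝒜 I g x)) (add : ∀ a b, p a → p b → p (a + b))
    (v : Carrier 𝒜 I) : p v :=
  Finsupp.induction_linear v zero (fun a b ha hb => add a b ha hb) hsingle

/-- The pieces. -/
noncomputable def gr (g : ι) : AddSubgroup (Carrier 𝒜 I) := (single 𝒜 I g).range

noncomputable instance instDecompositionGr : DirectSum.Decomposition (gr 𝒜 I) :=
  decompositionOfProj _ (fun g => (single 𝒜 I g).comp (coord 𝒜 I g))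
    (by rintro g _ ⟨x, rfl⟩; simp [coord_single_same])
    (by rintro g h hne _ ⟨x, rfl⟩; simp [coord_single_ne 𝒜 I hne])
    (fun v => by
      induction v using induction_single 𝒜 I with
      | zero => exact zero_mem _
      | hsingle g x => exact ⟨DirectSum.of _ g ⟨_, x, rfl⟩, by rw [DirectSum.coeAddMonoidHom_of]⟩
      | add a b ha hb => exact add_mem ha hb)

instance instGradedSMulGr : SetLike.GradedSMul 𝒜 (gr 𝒜 I) where
  smul_mem {i j r v} hr hv := by
    obtain ⟨x, rfl⟩ := hv
    exact ⟨r • x, by rw [smul_single 𝒜 I hr, vadd_eq_add, add_comm i j]⟩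

/-- The sum of the coordinates. -/
noncomputable def sumAdd : Carrier 𝒜 I →+ I := Finsupp.liftAddHom fun _ => AddMonoidHom.id I

theorem sumAdd_single (g : ι) (x : I) : sumAdd 𝒜 I (single 𝒜 I g x) = x :=
  (Finsupp.liftAddHom_apply_single (fun _ : ι => AddMonoidHom.id I) g x).trans rfl

/-- The sum of the coordinates, as a linear map. -/
noncomputable def counit : Carrier 𝒜 I →ₗ[R] I where
  toFun := sumAdd 𝒜 I
  map_add' := map_add _
  map_smul' r v := by
    change sumAdd 𝒜 I (r • v) = r • sumAdd 𝒜 I v
    induction v using induction_single 𝒜 I with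
    | zero => simp
    | hsingle g x =>
      induction r using induction_hom 𝒜 with
      | zero => simp
      | hom h r hr => rw [smul_single 𝒜 I hr, sumAdd_single, sumAdd_single]
      | add a b ha hb => simp only [add_smul, map_add, ha, hb]
    | add a b ha hb => simp only [smul_add, map_add, ha, hb]

theorem counit_single (g : ι) (x : I) : counit 𝒜 I (single 𝒜 I g x) = x := sumAdd_single 𝒜 I g x

section Lift

variable {M : Type u} [AddCommGroup M] [Module R M] {τ : Type u} [SetLike τ M] [AddSubgroupClass τ M]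
variable (ℳ : ι → τ) [DirectSum.Decomposition ℳ] [SetLike.GradedSMul 𝒜 ℳ]

/-- The additive adjoint of a linear map. -/
noncomputable def liftAdd (f : M →ₗ[R] I) : M →+ Carrier 𝒜 I :=
  (DirectSum.toAddMonoid fun g =>
      ((single 𝒜 I g).comp f.toAddMonoidHom).comp (AddSubgroupClass.subtype (ℳ g))).comp
    (DirectSum.decomposeAddEquiv ℳ).toAddMonoidHom

theorem liftAdd_of_mem (f : M →ₗ[R] I) {g : ι} {x : M} (hx : x ∈ ℳ g) :
    liftAdd 𝒜 I ℳ f x = single 𝒜 I g (f x) := by
  simp [liftAdd, DirectSum.decompose_of_mem ℳ hx]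

/-- The graded map adjoint to a linear map. -/
noncomputable def lift (f : M →ₗ[R] I) : M →ₗ[R] Carrier 𝒜 I where
  toFun := liftAdd 𝒜 I ℳ f
  map_add' := map_add _
  map_smul' r x := by
    change liftAdd 𝒜 I ℳ f (r • x) = r • liftAdd 𝒜 I ℳ f x
    induction x using induction_hom ℳ with
    | zero => simp
    | hom g x hx =>
      induction r using induction_hom 𝒜 with
      | zero => simp
      | hom h r hr =>
        rw [liftAdd_of_mem 𝒜 I ℳ f hx, smul_single 𝒜 I hr,
          liftAdd_of_mem 𝒜 I ℳ f (smul_mem' 𝒜 ℳ hr hx (add_comm h g)), map_smul]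
      | add a b ha hb => simp only [add_smul, map_add, ha, hb]
    | add a b ha hb => simp only [smul_add, map_add, ha, hb]

theorem lift_of_mem (f : M →ₗ[R] I) {g : ι} {x : M} (hx : x ∈ ℳ g) :
    lift 𝒜 I ℳ f x = single 𝒜 I g (f x) := liftAdd_of_mem 𝒜 I ℳ f hx

theorem isGrHom_lift (f : M →ₗ[R] I) : GrLC.IsGrHom ℳ (gr 𝒜 I) (lift 𝒜 I ℳ f) :=
  fun _ x hx => ⟨f x, (lift_of_mem 𝒜 I ℳ f hx).symm⟩

theorem lift_injective (f : M →ₗ[R] I) (hf : Function.Injective f) :
    Function.Injective (lift 𝒜 I ℳ f) := by
  rw [← LinearMap.ker_eq_bot]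
  by_contra hne
  obtain ⟨g, x, hx, hxk, hx0⟩ :=
    exists_hom_mem_ne_zero (isHomogeneous_ker (isGrHom_lift 𝒜 I ℳ f)) hne
  rw [LinearMap.mem_ker, lift_of_mem 𝒜 I ℳ f hx] at hxk
  have h0 := congrArg (coord 𝒜 I g) hxk
  rw [coord_single_same, map_zero] at h0
  exact hx0 (hf (h0.trans (map_zero f).symm))

theorem lift_counit {f : M →ₗ[R] Carrier 𝒜 I} (hf : GrLC.IsGrHom ℳ (gr 𝒜 I) f) :
    lift 𝒜 I ℳ (counit 𝒜 I ∘ₗ f) = f := by
  refine ext_hom (ℳ := ℳ) fun g x hx => ?_
  obtain ⟨y, hy⟩ := hf g x hx
  rw [lift_of_mem 𝒜 I ℳ _ hx, LinearMap.comp_apply, ← hy, counit_single]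

end Lift

/-- The cofree module on an injective module is *injective. -/
theorem isStarInj_gr [Module.Injective R I] : GrLC.IsStarInj 𝒜 (gr 𝒜 I) := by
  intro A B f hf hinj g hg
  obtain ⟨j, hj⟩ := Module.Injective.out f hinj (counit 𝒜 I ∘ₗ g)
  refine ⟨lift 𝒜 I B.gr j, isGrHom_lift 𝒜 I B.gr j, ?_⟩
  refine ext_hom (ℳ := A.gr) fun d a ha => ?_
  obtain ⟨y, hy⟩ := hg d a ha
  rw [LinearMap.comp_apply, lift_of_mem 𝒜 I B.gr j (hf d a ha), hj, LinearMap.comp_apply, ← hy,
    counit_single]

/-- The cofree module, bundled. -/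
noncomputable def gmod : GrLC.GMod.{u} 𝒜 := GrLC.GMod.of 𝒜 (Carrier 𝒜 I) (gr 𝒜 I)

section Enough

variable (R)

/-- Every module embeds in an injective one. -/
theorem exists_injective_embedding (M : Type u) [AddCommGroup M] [Module R M] :
    ∃ (I : Type u) (_ : AddCommGroup I) (_ : Module R I) (_ : Module.Injective R I)
      (e : M →ₗ[R] I), Function.Injective e := by
  let J := CategoryTheory.Injective.under (ModuleCat.of R M)
  have : CategoryTheory.Injective (ModuleCat.of R J) :=
    inferInstanceAs (CategoryTheory.Injective J)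
  exact ⟨J, inferInstance, inferInstance, Module.injective_module_of_injective_object R J,
    (CategoryTheory.Injective.ι (ModuleCat.of R M)).hom,
    (ModuleCat.mono_iff_injective _).1 inferInstance⟩

end Enough

/-- Every graded module embeds in a *injective one. -/
theorem exists_starInj_embedding {M : Type u} [AddCommGroup M] [Module R M] {τ : Type u}
    [SetLike τ M] [AddSubgroupClass τ M] (ℳ : ι → τ) [DirectSum.Decomposition ℳ]
    [SetLike.GradedSMul 𝒜 ℳ] :
    ∃ (X : GrLC.GMod.{u} 𝒜) (f : M →ₗ[R] X.carrier),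
      GrLC.IsGrHom ℳ X.gr f ∧ Function.Injective f ∧ GrLC.IsStarInj 𝒜 X.gr := by
  obtain ⟨I, _, _, _, e, he⟩ := exists_injective_embedding R M
  exact ⟨gmod 𝒜 I, lift 𝒜 I ℳ e, isGrHom_lift 𝒜 I ℳ e, lift_injective 𝒜 I ℳ e he,
    isStarInj_gr 𝒜 I⟩

end Groth.Agent.Lib.Graded.Cofree
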