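import Groth.Agent.Lib.Graded.Reg
import Mathlib.RingTheory.OrzechProperty
import Mathlib.LinearAlgebra.Matrix.Rank

/-!
# Uniqueness of minimal graded free resolutions
-/

universe u

set_option maxHeartbeats 600000

set_option linter.unusedSectionVars false

open DirectSum MvPolynomial

namespace Groth.Agent.Lib.Graded.Compare

open Groth.Agent.Lib.Graded.Basic Groth.Agent.Lib.Graded.StarInj Groth.Agent.Lib.Graded.FreeMod

variable {k : Type u} [Field k] {σ : Type} [Finite σ]

section Basis

variable {n : ℕ} (deg : Fin n → ℤ)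

/-- A basis vector of a free module. -/
noncomputable def e (b : Fin n) : (freeMod (GrSyz.stdGr k σ) deg).carrier :=
  (Pi.single b (1 : MvPolynomial σ k) : Fin n → MvPolynomial σ k)

/-- A vector of coordinates. -/
def coord (v : (freeMod (GrSyz.stdGr k σ) deg).carrier) : Fin n → MvPolynomial σ k := v

theorem e_mem (b : Fin n) : e (k := k) (σ := σ) deg b ∈ (freeMod (GrSyz.stdGr k σ) deg).gr (deg b) := by
  have h := single_mem (GrSyz.stdGr k σ) deg (b := b) (SetLike.one_mem_graded (GrSyz.stdGr k σ))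
  rw [zero_add] at h
  exact (mem_freeMod _ _).2 ((mem_freeGr _ _).1 h)

theorem finite_free : Module.Finite (MvPolynomial σ k) (freeMod (GrSyz.stdGr k σ) deg).carrier :=
  inferInstanceAs (Module.Finite (MvPolynomial σ k) (Fin n → MvPolynomial σ k))

theorem eq_sum_coord (v : (freeMod (GrSyz.stdGr k σ) deg).carrier) :
    v = ∑ b, coord deg v b • e deg b :=
  pi_eq_sum_univ' (coord deg v)

/-- Vectors with all coordinates in the irrelevant ideal. -/
def InM (v : (freeMod (GrSyz.stdGr k σ) deg).carrier) : Prop :=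
  ∀ b, coord deg v b ∈ (GrSyz.irrel (GrSyz.stdGr k σ)).toIdeal

theorem mem_smul_top {v : (freeMod (GrSyz.stdGr k σ) deg).carrier} (h : InM deg v) :
    v ∈ (GrSyz.irrel (GrSyz.stdGr k σ)).toIdeal •
      (⊤ : Submodule (MvPolynomial σ k) (freeMod (GrSyz.stdGr k σ) deg).carrier) := by
  rw [eq_sum_coord deg v]
  exact sum_mem fun b _ => Submodule.smul_mem_smul (h b) trivial

theorem bijective_of_congr_id
    {γ : (freeMod (GrSyz.stdGr k σ) deg).carrier →ₗ[MvPolynomial σ k] (freeMod (GrSyz.stdGr k σ) deg).carrier}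
    (hγ : GrLC.IsGrHom (freeMod (GrSyz.stdGr k σ) deg).gr (freeMod (GrSyz.stdGr k σ) deg).gr γ)
    (h : ∀ v, InM deg (v - γ v)) : Function.Bijective γ := by
  haveI := finite_free (k := k) (σ := σ) deg
  obtain ⟨lo, hlo⟩ := IntGraded.exists_bot (𝒜 := GrSyz.stdGr k σ) (ℳ := (freeMod (GrSyz.stdGr k σ) deg).gr) Poly.eq_zero_of_neg
  have htop : LinearMap.range γ = ⊤ := by
    refine IntGraded.eq_top_of_sup_smul_eq_top (𝒜 := GrSyz.stdGr k σ) hlo
      (s := {p | ∃ j : ℤ, 0 < j ∧ p ∈ GrSyz.stdGr k σ j}) (fun p hp => hp) (fun j x _ => ?_)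
      (isHomogeneous_range hγ)
    rw [← add_sub_cancel (γ x) x]
    exact add_mem (Submodule.mem_sup_left ⟨x, rfl⟩) (Submodule.mem_sup_right (mem_smul_top deg (h x)))
  exact ⟨OrzechProperty.injective_of_surjective_endomorphism γ (LinearMap.range_eq_top.1 htop),
    LinearMap.range_eq_top.1 htop⟩

end Basis

variable {X : GrLC.GMod.{u} (GrSyz.stdGr k σ)} {n n' : ℕ} {deg : Fin n → ℤ} {deg' : Fin n' → ℤ}
variable {φ : (freeMod (GrSyz.stdGr k σ) deg).carrier →ₗ[MvPolynomial σ k] X.carrier}
  {φ' : (freeMod (GrSyz.stdGr k σ) deg').carrier →ₗ[MvPolynomial σ k] X.carrier}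

theorem exists_lift (hφ : GrLC.IsGrHom (freeMod (GrSyz.stdGr k σ) deg).gr X.gr φ)
    (hφ' : GrLC.IsGrHom (freeMod (GrSyz.stdGr k σ) deg').gr X.gr φ') (hs' : Function.Surjective φ') :
    ∃ α : (freeMod (GrSyz.stdGr k σ) deg).carrier →ₗ[MvPolynomial σ k] (freeMod (GrSyz.stdGr k σ) deg').carrier,
      GrLC.IsGrHom (freeMod (GrSyz.stdGr k σ) deg).gr (freeMod (GrSyz.stdGr k σ) deg').gr α ∧
        φ' ∘ₗ α = φ := by
  choose x hx hxφ using fun b => exists_hom_preimage (ℳ := (freeMod (GrSyz.stdGr k σ) deg').gr)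
    (𝒩 := X.gr) hφ' (hφ _ _ (e_mem deg b)) (hs' _)
  obtain ⟨α, hα⟩ : ∃ α : (freeMod (GrSyz.stdGr k σ) deg).carrier →ₗ[MvPolynomial σ k]
      (freeMod (GrSyz.stdGr k σ) deg').carrier, α = Fintype.linearCombination (MvPolynomial σ k) x :=
    ⟨_, rfl⟩
  refine ⟨α, hα ▸ isGrHom_linearCombination hx, LinearMap.ext fun v => ?_⟩
  rw [LinearMap.comp_apply, eq_sum_coord deg v]
  simp only [map_sum, map_smul]
  refine Finset.sum_congr rfl fun b _ => ?_
  rw [← hxφ b, hα]
  exact congrArg _ (congrArg φ' ((Fintype.linearCombination_apply_single (MvPolynomial σ k) x b 1).trans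
    (one_smul _ _)))

theorem card_le {α : (freeMod (GrSyz.stdGr k σ) deg).carrier →ₗ[MvPolynomial σ k] (freeMod (GrSyz.stdGr k σ) deg').carrier}
    {β : (freeMod (GrSyz.stdGr k σ) deg').carrier →ₗ[MvPolynomial σ k] (freeMod (GrSyz.stdGr k σ) deg).carrier}
    (hβ : GrLC.IsGrHom (freeMod (GrSyz.stdGr k σ) deg').gr (freeMod (GrSyz.stdGr k σ) deg).gr β)
    (hid : ∀ v, α (β v) = v) (j : ℤ) :
    (Finset.univ.filter fun c => deg' c = j).card ≤ (Finset.univ.filter fun b => deg b = j).card := by
  classical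
  let A : Matrix {c // deg' c = j} {b // deg b = j} k :=
    Matrix.of fun c b => constantCoeff (coord deg' (α (e deg b.1)) c.1)
  let B : Matrix {b // deg b = j} {c // deg' c = j} k :=
    Matrix.of fun b c => constantCoeff (coord deg (β (e deg' c.1)) b.1)
  have hAB : A * B = 1 := by
    ext c c'
    rw [Matrix.mul_apply, Matrix.one_apply]
    have hout : ∀ b, deg b ≠ j → constantCoeff (coord deg (β (e deg' c'.1)) b) = 0 := by
      intro b hb
      have hm : coord deg (β (e deg' c'.1)) b ∈ GrSyz.stdGr k σ (deg' c'.1 - deg b) :=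
        (mem_freeMod _ _).1 (hβ _ _ (e_mem deg' c'.1)) b
      have h0 := proj_of_mem_ne (GrSyz.stdGr k σ) hm (g := 0) (by rw [c'.2]; omega)
      rwa [Poly.proj_zero_eq, map_eq_zero_iff _ (C_injective σ k)] at h0
    have h1 : e (k := k) (σ := σ) deg' c'.1 = ∑ b, coord deg (β (e deg' c'.1)) b • α (e deg b) := by
      conv_lhs => rw [← hid (e deg' c'.1), eq_sum_coord deg (β (e deg' c'.1))]
      simp only [map_sum, map_smul]
    have h2 : constantCoeff (coord deg' (e deg' c'.1) c.1) =
        constantCoeff (coord deg' (∑ b, coord deg (β (e deg' c'.1)) b • α (e deg b)) c.1) :=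
      congrArg (fun v => constantCoeff (coord deg' v c.1)) h1
    have h3 : constantCoeff (coord deg' (∑ b, coord deg (β (e deg' c'.1)) b • α (e deg b)) c.1) =
        ∑ b, constantCoeff (coord deg (β (e deg' c'.1)) b) * constantCoeff (coord deg' (α (e deg b)) c.1) := by
      rw [show coord deg' (∑ b, coord deg (β (e deg' c'.1)) b • α (e deg b)) c.1 =
        ∑ b, coord deg (β (e deg' c'.1)) b * coord deg' (α (e deg b)) c.1 from
          Finset.sum_apply c.1 _ fun b => coord deg (β (e deg' c'.1)) b • coord deg' (α (e deg b)),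
        map_sum]
      simp only [map_mul]
    rw [h3, ← Finset.sum_subset (Finset.subset_univ (Finset.univ.filter fun b => deg b = j))
      (fun b _ hb => by rw [hout b (by simpa using hb), zero_mul])] at h2
    change ∑ b : {b // deg b = j}, constantCoeff (coord deg' (α (e deg b.1)) c.1) *
      constantCoeff (coord deg (β (e deg' c'.1)) b.1) = _
    rw [← Finset.sum_subtype (p := fun b => deg b = j) (Finset.univ.filter fun b => deg b = j) (by simp)
      fun b => constantCoeff (coord deg' (α (e deg b)) c.1) * constantCoeff (coord deg (β (e deg' c'.1)) b)]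
    rw [Finset.sum_congr rfl fun b _ => mul_comm _ _, ← h2]
    change constantCoeff ((Pi.single c'.1 (1 : MvPolynomial σ k) : Fin n' → _) c.1) = _
    simp [Pi.single_apply, Subtype.ext_iff, apply_ite]
  have h4 : (1 : Matrix {c // deg' c = j} {c // deg' c = j} k).rank ≤ Fintype.card {b // deg b = j} :=
    hAB ▸ (Matrix.rank_mul_le_left A B).trans A.rank_le_card_width
  rw [Matrix.rank_one, Fintype.card_subtype, Fintype.card_subtype] at h4
  exact h4

/-- Two minimal covers of the same module are isomorphic. -/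
theorem compare (hφ : GrLC.IsGrHom (freeMod (GrSyz.stdGr k σ) deg).gr X.gr φ)
    (hφ' : GrLC.IsGrHom (freeMod (GrSyz.stdGr k σ) deg').gr X.gr φ') (hs : Function.Surjective φ)
    (hs' : Function.Surjective φ') (hm : ∀ v, φ v = 0 → InM deg v) (hm' : ∀ v, φ' v = 0 → InM deg' v) :
    ∃ α : (freeMod (GrSyz.stdGr k σ) deg).carrier ≃ₗ[MvPolynomial σ k] (freeMod (GrSyz.stdGr k σ) deg').carrier,
      GrLC.IsGrHom (freeMod (GrSyz.stdGr k σ) deg).gr (freeMod (GrSyz.stdGr k σ) deg').gr α.toLinearMap ∧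
        (∀ v, φ' (α v) = φ v) ∧
        ∀ j : ℤ, (Finset.univ.filter fun b => deg b = j).card = (Finset.univ.filter fun c => deg' c = j).card := by
  obtain ⟨α, hα, hαc⟩ := exists_lift hφ hφ' hs'
  obtain ⟨β, hβ, hβc⟩ := exists_lift hφ' hφ hs
  have h1 : Function.Bijective (β ∘ₗ α) := bijective_of_congr_id deg (isGrHom_comp hα hβ) fun v => hm _ (by
    rw [map_sub, sub_eq_zero, LinearMap.comp_apply, ← LinearMap.comp_apply φ β, hβc,
      ← LinearMap.comp_apply φ' α, hαc])
  have h2 : Function.Bijective (α ∘ₗ β) := bijective_of_congr_id deg' (isGrHom_comp hβ hα) fun v => hm' _ (by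
    rw [map_sub, sub_eq_zero, LinearMap.comp_apply, ← LinearMap.comp_apply φ' α, hαc,
      ← LinearMap.comp_apply φ β, hβc])
  rw [LinearMap.coe_comp] at h1 h2
  have hbij : Function.Bijective α := ⟨h1.1.of_comp, h2.2.of_comp⟩
  let A := LinearEquiv.ofBijective α hbij
  have hA' : GrLC.IsGrHom (freeMod (GrSyz.stdGr k σ) deg').gr (freeMod (GrSyz.stdGr k σ) deg).gr A.symm.toLinearMap :=
    isGrHom_symm (e := A) hα
  exact ⟨A, hα, fun v => LinearMap.congr_fun hαc v, fun j => le_antisymm
    (card_le (α := A.symm.toLinearMap) (β := α) hα (fun v => A.symm_apply_apply v) j)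
    (card_le (α := α) (β := A.symm.toLinearMap) hA' (fun v => A.apply_symm_apply v) j)⟩

section Resolutions

variable {M : Type u} [AddCommGroup M] [Module (MvPolynomial σ k) M] {τ : Type u} [SetLike τ M] [AddSubgroupClass τ M]
variable {ℳ : ℤ → τ} [DirectSum.Decomposition ℳ] [SetLike.GradedSMul (GrSyz.stdGr k σ) ℳ]
variable (F F' : GrSyz.FreeRes (GrSyz.stdGr k σ) ℳ)
variable (hF : F.IsMinimal (GrSyz.irrel (GrSyz.stdGr k σ)).toIdeal)
  (hF' : F'.IsMinimal (GrSyz.irrel (GrSyz.stdGr k σ)).toIdeal)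
include hF hF'

theorem compare_res : ∀ i : ℕ,
    (∀ j, F.betti i j = F'.betti i j) ∧ ∃ e : (syz F i).carrier ≃ₗ[MvPolynomial σ k] (syz F' i).carrier,
      GrLC.IsGrHom (syz F i).gr (syz F' i).gr e.toLinearMap := by
  intro i
  induction i with
  | zero =>
    obtain ⟨α, hα, hc, hcard⟩ := compare (ses_zero F).grHom_π (ses_zero F').grHom_π (ses_zero F).surjective
      (ses_zero F').surjective (fun v hv => Reg.ker_aug_mem F hF v hv) (fun v hv => Reg.ker_aug_mem F' hF' v hv)
    refine ⟨hcard, ?_⟩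
    have hmap : (LinearMap.range (dMap F 0)).map α.toLinearMap = LinearMap.range (dMap F' 0) := by
      rw [show LinearMap.range (dMap F 0) = LinearMap.ker (augMap F) from F.exact_zero.symm,
        show LinearMap.range (dMap F' 0) = LinearMap.ker (augMap F') from F'.exact_zero.symm]
      refine le_antisymm ?_ fun w hw => ⟨α.symm w, ?_, α.apply_symm_apply w⟩
      · rintro _ ⟨v, hv, rfl⟩
        exact (hc v).trans hv
      · exact (hc (α.symm w)).symm.trans (by rw [α.apply_symm_apply]; exact hw)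
    exact ⟨(α.submoduleMap _).trans (LinearEquiv.ofEq _ _ hmap), fun g v hv => hα g v.1 hv⟩
  | succ i ih =>
    obtain ⟨-, e, he⟩ := ih
    obtain ⟨α, hα, hc, hcard⟩ := compare (X := syz F' i)
      (φ := e.toLinearMap ∘ₗ (dMap F i).rangeRestrict) (φ' := (dMap F' i).rangeRestrict)
      (isGrHom_comp (ses_step F i).grHom_π he) (ses_step F' i).grHom_π
      (e.surjective.comp (ses_step F i).surjective) (ses_step F' i).surjective
      (fun v hv => Reg.ker_d_mem F hF i v (congrArg Subtype.val (e.map_eq_zero_iff.1 hv)))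
      (fun v hv => Reg.ker_d_mem F' hF' i v (congrArg Subtype.val hv))
    refine ⟨hcard, ?_⟩
    have hmap : (LinearMap.range (dMap F (i + 1))).map α.toLinearMap = LinearMap.range (dMap F' (i + 1)) := by
      rw [show LinearMap.range (dMap F (i + 1)) = LinearMap.ker (dMap F i) from (F.exact_succ i).symm,
        show LinearMap.range (dMap F' (i + 1)) = LinearMap.ker (dMap F' i) from (F'.exact_succ i).symm]
      refine le_antisymm ?_ fun w hw => ⟨α.symm w, ?_, α.apply_symm_apply w⟩
      · rintro _ ⟨v, hv, rfl⟩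
        refine congrArg Subtype.val ((hc v).trans ?_ : (dMap F' i).rangeRestrict (α v) = 0)
        exact e.map_eq_zero_iff.2 (Subtype.ext hv)
      · have h1 := hc (α.symm w)
        rw [α.apply_symm_apply] at h1
        exact congrArg Subtype.val (e.map_eq_zero_iff.1 (h1.symm.trans (Subtype.ext hw)) :
          (dMap F i).rangeRestrict (α.symm w) = 0)
    exact ⟨(α.submoduleMap _).trans (LinearEquiv.ofEq _ _ hmap), fun g v hv => hα g v.1 hv⟩

theorem betti_eq (i : ℕ) (j : ℤ) : F.betti i j = F'.betti i j := (compare_res F F' hF hF' i).1 j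

end Resolutions

end Groth.Agent.Lib.Graded.Compare
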