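import Groth.Agent.Lib.Graded.SerreFormula
import Groth.Agent.Lib.Graded.RegDeg
import Mathlib.RingTheory.KrullDimension.Regular

/-!
# The degree of the Hilbert polynomial is less than the dimension
-/

universe u

set_option maxHeartbeats 1000000
set_option linter.unusedSectionVars false

open DirectSum

namespace Groth.Agent.Lib.Graded.DeltaDegree

open Groth.Agent.Lib.Graded.Basic Groth.Agent.Lib.Graded.StarInj Groth.Agent.Lib.Graded.SerreFormula

open Polynomial in
theorem natDegree_lt_of_D : ∀ (ks : List ℕ) (P : Polynomial ℚ), (∀ k ∈ ks, 0 < k) →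
    D ks (fun n => P.eval (n : ℚ)) = 0 → P ≠ 0 → P.natDegree < ks.length
  | [], P, _, h, hP => by
    refine absurd (Polynomial.eq_zero_of_infinite_isRoot P ?_) hP
    refine Set.Infinite.mono ?_ (Set.infinite_univ.image (Int.cast_injective (α := ℚ)).injOn)
    rintro _ ⟨n, -, rfl⟩
    exact congrFun h n
  | k :: ks, P, hk, h, hP => by
    rcases Nat.eq_zero_or_pos P.natDegree with hd | hd
    · rw [hd]; exact Nat.succ_pos _
    have hev : (fun n : ℤ => P.eval (n : ℚ) - P.eval ((n - (k : ℤ) : ℤ) : ℚ)) =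
        fun n : ℤ => (P - taylor (-(k : ℚ)) P).eval (n : ℚ) := by
      funext n
      rw [eval_sub, taylor_eval]
      push_cast
      ring_nf
    have hcoeff : (P - taylor (-(k : ℚ)) P).coeff (P.natDegree - 1) =
        (P.natDegree : ℚ) * P.leadingCoeff * k := by
      rw [coeff_sub, taylor_coeff]
      have hdeg : (hasseDeriv (P.natDegree - 1) P).natDegree ≤ 1 :=
        (natDegree_hasseDeriv_le P _).trans (by omega)
      rw [eq_X_add_C_of_natDegree_le_one hdeg]
      simp only [eval_add, eval_mul, eval_C, eval_X, hasseDeriv_coeff]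
      rw [show 1 + (P.natDegree - 1) = P.natDegree by omega, zero_add, Nat.choose_self, Nat.cast_one, one_mul,
        ← Nat.choose_symm (show P.natDegree - 1 ≤ P.natDegree by omega),
        show P.natDegree - (P.natDegree - 1) = 1 by omega, Nat.choose_one_right, coeff_natDegree]
      ring
    have hne : (P - taylor (-(k : ℚ)) P).coeff (P.natDegree - 1) ≠ 0 := by
      rw [hcoeff]
      refine mul_ne_zero (mul_ne_zero (Nat.cast_ne_zero.2 hd.ne') (leadingCoeff_ne_zero.2 hP)) ?_
      exact Nat.cast_ne_zero.2 (hk k List.mem_cons_self).ne'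
    simp only [D, hev] at h
    have h1 := natDegree_lt_of_D ks _ (fun j hj => hk j (List.mem_cons_of_mem k hj)) h
      fun h0 => hne (by rw [h0, coeff_zero])
    have h2 := le_natDegree_of_ne_zero hne
    simp only [List.length_cons]
    omega

variable {R : Type u} [CommRing R] [IsNoetherianRing R] {𝒜 : ℤ → AddSubgroup R} [GradedRing 𝒜]
variable [IsArtinianRing (GrLC.deg0 𝒜)] {m : HomogeneousIdeal 𝒜}
variable (hpos : ∀ n : ℤ, n < 0 → 𝒜 n = ⊥) (hm : GrLC.IsStarLocal 𝒜 m)

include hpos hm in
theorem exists_D_le {N : ℕ} (hdim : ringKrullDim R ≤ N) : ∀ (j : ℕ) (X : GrLC.GMod.{u} 𝒜),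
    Module.Finite R X.carrier → Module.supportDim R X.carrier ≤ (j : WithBot ℕ∞) →
    ∃ ks : List ℕ, (∀ k ∈ ks, 0 < k) ∧ ks.length ≤ j ∧ D ks (delta m N X) = 0 := by
  intro j
  induction j using Nat.strong_induction_on with
  | _ j ih =>
    intro X hX hj
    let T := GrLC.gam m.toIdeal X.carrier
    have hT : T.IsHomogeneous X.gr := Res.isHomogeneous_gam 𝒜 X.gr m
    let X' := qMod 𝒜 X.gr T hT
    have hX' : Module.Finite R X'.carrier := FGInduction.finite_qMod X hX T hT
    have hdelta : delta m N X = delta m N X' := funext fun n => by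
      rw [delta_ses hpos hm (Van.ses_quot X T hT) (FGInduction.finite_sub X hX T hT) hX hX' hdim n,
        delta_torsion hpos hm (subMod 𝒜 X.gr T hT) ?_ N n, zero_add]
      refine eq_top_iff.2 ?_
      rintro ⟨y, l, hl⟩ -
      exact ⟨l, fun r hr => Subtype.ext (hl r hr)⟩
    by_cases hsub : Subsingleton X'.carrier
    · refine ⟨[], by simp, Nat.zero_le _, funext fun n => ?_⟩
      change delta m N X n = 0
      rw [hdelta, delta_torsion hpos hm X' (eq_top_iff.2 fun y _ => ⟨0, fun r _ => Subsingleton.elim _ _⟩) N n]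
    haveI : Nontrivial X'.carrier := not_subsingleton_iff_nontrivial.1 hsub
    haveI := hX'
    haveI := hX
    obtain ⟨k, hk, x, hx, hxQ, hreg⟩ := Avoid.exists_pos_regular (M := X'.carrier) (hpos' hpos)
      (s := FGInduction.posSet 𝒜) (fun r hr => hr) (by
        change GrLC.gam (FGInduction.posIdeal 𝒜).toIdeal (X.carrier ⧸ T) = ⊥
        rw [← IdealChange.gam_eq hpos hm]
        exact Ass.gam_quot_eq_bot _ _)
    let P := LinearMap.range (x • (LinearMap.id : X'.carrier →ₗ[R] X'.carrier))
    have hP : P.IsHomogeneous X'.gr := SmulSeq.isHomogeneous_range_smul hx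
    let Y := qMod 𝒜 X'.gr P hP
    have hY : Module.Finite R Y.carrier := FGInduction.finite_qMod X' hX' P hP
    have hY0 : P ≠ ⊤ := by
      intro htop
      obtain ⟨lo, hlo⟩ := IntGraded.exists_bot (𝒜 := 𝒜) (ℳ := X'.gr) (hpos' hpos)
      have h0 := IntGraded.eq_top_of_sup_smul_eq_top (𝒜 := 𝒜) hlo (s := {x}) (P := (⊥ : Submodule R X'.carrier))
        (fun r hr => ⟨k, hk, by rwa [Set.mem_singleton_iff.1 hr]⟩)
        (fun n z _ => Submodule.mem_sup_right (by
          change z ∈ Ideal.span {x} • (⊤ : Submodule R X'.carrier)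
          rw [← RegDeg.range_smul_id x X'.carrier]
          exact htop.ge trivial)) isHomogeneous_bot
      exact bot_ne_top h0
    haveI : Nontrivial Y.carrier := Submodule.Quotient.nontrivial_iff.2 hY0
    have hsd : Module.supportDim R Y.carrier + 1 ≤ (j : WithBot ℕ∞) := by
      have e : QuotSMulTop x X'.carrier ≃ₗ[R] Y.carrier := Submodule.quotEquivOfEq _ P
        (by rw [show P = _ from RegDeg.range_smul_id x X'.carrier, Submodule.ideal_span_singleton_smul])
      rw [← Module.supportDim_eq_of_equiv e]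
      exact (Module.supportDim_quotSMulTop_succ_le_of_notMem_minimalPrimes fun _ => hreg.notMem_of_mem_minimalPrimes).trans
        ((Module.supportDim_le_of_surjective T.mkQ T.mkQ_surjective).trans hj)
    obtain ⟨i, rfl⟩ : ∃ i, j = i + 1 := by
      refine ⟨j - 1, ?_⟩
      rcases Nat.eq_zero_or_pos j with rfl | h
      · have h0 : (0 : WithBot ℕ∞) ≤ Module.supportDim R Y.carrier := by
          obtain ⟨a, ha⟩ := WithBot.ne_bot_iff_exists.1 ((Module.supportDim_ne_bot_iff_nontrivial R Y.carrier).2 inferInstance)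
          rw [← ha]
          exact WithBot.coe_le_coe.2 zero_le
        have h2 := (add_le_add h0 (le_refl (1 : WithBot ℕ∞))).trans hsd
        rw [zero_add] at h2
        exact absurd h2 (by norm_num)
      · omega
    obtain ⟨ks, hks, hlen, hks0⟩ := ih i i.lt_succ_self Y hY (by
      obtain ⟨a, ha⟩ := WithBot.ne_bot_iff_exists.1 ((Module.supportDim_ne_bot_iff_nontrivial R Y.carrier).2 inferInstance)
      rw [← ha] at hsd ⊢
      have h1 : a + 1 ≤ ((i + 1 : ℕ) : ℕ∞) := WithBot.coe_le_coe.1 hsd
      rw [Nat.cast_succ] at h1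
      exact WithBot.coe_le_coe.2 ((WithTop.add_le_add_iff_right ENat.one_ne_top).1 h1))
    refine ⟨k.toNat :: ks, by simp only [List.mem_cons, forall_eq_or_imp]; exact ⟨by omega, hks⟩,
      by simpa using hlen, ?_⟩
    simp only [D]
    convert hks0 using 2
    funext n
    have h := delta_ses hpos hm (X := shiftMod 𝒜 X'.gr (-k)) (Y := X') (Z := Y)
      (f := x • (LinearMap.id : X'.carrier →ₗ[R] X'.carrier)) (g := P.mkQ)
      (SmulSeq.ses_smul hx hreg (fun _ _ hy => mkQ_mem_qGr X'.gr P hy) P.mkQ_surjective P.ker_mkQ)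
      hX' hX' hY hdim n
    rw [delta_shift] at h
    rw [hdelta, Int.toNat_of_nonneg hk.le, h, sub_eq_add_neg n k, add_sub_cancel_left]

include hpos hm in
/-- The Hilbert polynomial has degree below the dimension. -/
theorem natDegree_lt {N : ℕ} (hdim : ringKrullDim R ≤ N) (X : GrLC.GMod.{u} 𝒜) (hX : Module.Finite R X.carrier)
    {j : ℕ} (hj : Module.supportDim R X.carrier ≤ (j : WithBot ℕ∞))
    {P : Polynomial ℚ} {n₀ : ℤ}
    (hP : ∀ n, n₀ ≤ n → P.eval (n : ℚ) = EulerLength.L (GrLC.deg0 𝒜) (GrLC.comp 𝒜 X.gr n)) (hP0 : P ≠ 0) :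
    P.natDegree < j := by
  obtain ⟨ks, hks, hlen, hks0⟩ := exists_D_le hpos hm hdim j X hX hj
  rw [show delta m N X = fun n : ℤ => P.eval (n : ℚ) from funext fun n => delta_eq_poly hpos hm hdim X hX hP n] at hks0
  exact lt_of_lt_of_le (natDegree_lt_of_D ks P hks hks0 hP0) hlen

end Groth.Agent.Lib.Graded.DeltaDegree
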