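import Groth.Agent.Lib.Graded.ExtStarInj
import Groth.Agent.Lib.Graded.HullPrime
import Groth.Agent.Lib.Graded.FieldDeg0
import Groth.Agent.Lib.Graded.Pieces
import Groth.Agent.Lib.Graded.Res
import Mathlib.LinearAlgebra.Dual.Lemmas

/-!
# The pieces of the *dual into the *injective envelope of the residue field

For a nonnegatively graded ring with a field in degree zero the maps of degree `d` from a graded
module into the *injective envelope of the residue field are the linear forms on the piece of degree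
`-d`; the consequence for *canonical modules.
-/

universe u

set_option maxHeartbeats 800000
set_option linter.unusedSectionVars false

open DirectSum

namespace Groth.Agent.Lib.Graded.Dual0

open Groth.Agent.Lib.Graded.Basic Groth.Agent.Lib.Graded.StarInj

variable {R : Type u} [CommRing R] {𝒜 : ℤ → AddSubgroup R} [GradedRing 𝒜] {m : HomogeneousIdeal 𝒜}
variable {E' : Type u} [AddCommGroup E'] [Module R E'] {𝓔 : ℤ → AddSubgroup E'} [DirectSum.Decomposition 𝓔]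
  [SetLike.GradedSMul 𝒜 𝓔]
variable {e : (R ⧸ m.toIdeal) →ₗ[R] E'}
variable {C : Type u} [AddCommGroup C] [Module R C] {𝒞 : ℤ → AddSubgroup C} [DirectSum.Decomposition 𝒞]
  [SetLike.GradedSMul 𝒜 𝒞]

/-- The socle generator of the envelope. -/
abbrev u1 (e : (R ⧸ m.toIdeal) →ₗ[R] E') : E' := e (Ideal.Quotient.mk m.toIdeal 1)

theorem u1_mem (he : GrLC.IsStarEss (GrLC.quotGr 𝒜 m) 𝓔 e) : u1 e ∈ 𝓔 0 :=
  he.grHom 0 _ ⟨1, SetLike.one_mem_graded 𝒜, rfl⟩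

theorem apply_mk (e : (R ⧸ m.toIdeal) →ₗ[R] E') (r : R) : e (Ideal.Quotient.mk m.toIdeal r) = r • u1 e := by
  rw [u1, HullPrime.smul_apply_mk, mul_one]

theorem proj_smul_u1 (he : GrLC.IsStarEss (GrLC.quotGr 𝒜 m) 𝓔 e) (r : R) :
    proj 𝓔 0 (r • u1 e) = proj 𝒜 0 r • u1 e := by
  rw [proj_smul_mem 𝒜 𝓔 (u1_mem he), sub_zero]

variable (hpos : ∀ n : ℤ, n < 0 → 𝒜 n = ⊥) (h0 : IsField (GrLC.deg0 𝒜))
  (hmsp : m.toIdeal = Ideal.span (⋃ n ∈ Set.Ioi (0 : ℤ), (𝒜 n : Set R)))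

include hpos h0 hmsp

theorem smul_u1 (r : R) : r • u1 e = proj 𝒜 0 r • u1 e := by
  rw [← apply_mk, ← apply_mk]
  refine congrArg e (Ideal.Quotient.eq.2 ((FieldDeg0.mem_iff hpos h0 hmsp).2 ?_))
  rw [map_sub, proj_of_mem 𝒜 (proj_mem 𝒜 0 r), sub_self]

theorem u1_ne_zero (he : GrLC.IsStarEss (GrLC.quotGr 𝒜 m) 𝓔 e) : u1 e ≠ 0 := fun h => by
  have h1 := he.injective (a₂ := 0) (h.trans (map_zero e).symm)
  rw [Ideal.Quotient.eq_zero_iff_mem] at h1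
  exact (FieldDeg0.isMaximal hpos h0 hmsp).ne_top ((Ideal.eq_top_iff_one _).2 h1)

theorem eq_smul_u1 (he : GrLC.IsStarEss (GrLC.quotGr 𝒜 m) 𝓔 e) {x : E'} (hx : x ∈ 𝓔 0) :
    ∃ c : GrLC.deg0 𝒜, x = c • u1 e := by
  rcases eq_or_ne x 0 with rfl | hx0
  · exact ⟨0, (zero_smul _ _).symm⟩
  letI := HullPrime.quotDecomp m
  haveI := HullPrime.quotGSMul m
  obtain ⟨y, ⟨hy1, ⟨z, hz⟩⟩, hy0⟩ := (Submodule.ne_bot_iff _).1 (inf_range_ne_bot 𝒜 he
    (Q := Submodule.span R {x}) (by simpa [Submodule.span_singleton_eq_bot] using hx0))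
  obtain ⟨r, rfl⟩ := Submodule.mem_span_singleton.1 hy1
  obtain ⟨s, rfl⟩ := Ideal.Quotient.mk_surjective z
  rw [apply_mk, smul_u1 hpos h0 hmsp] at hz
  have h2 := congrArg (proj 𝓔 0) hz
  rw [proj_smul_u1 he, proj_of_mem 𝒜 (proj_mem 𝒜 0 s), proj_smul_mem 𝒜 𝓔 hx, sub_zero] at h2
  have hne : (⟨_, proj_mem 𝒜 0 r⟩ : GrLC.deg0 𝒜) ≠ 0 := fun h => hy0 (by
    rw [← hz, h2, show proj 𝒜 0 r = 0 from congrArg Subtype.val h, zero_smul])
  obtain ⟨w, hw⟩ := h0.mul_inv_cancel hne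
  refine ⟨w * ⟨_, proj_mem 𝒜 0 s⟩, ?_⟩
  rw [mul_smul]
  change x = (w : R) • proj 𝒜 0 s • u1 e
  rw [h2, ← mul_smul, mul_comm, show proj 𝒜 0 r * (w : R) = 1 from congrArg Subtype.val hw, one_smul]

/-- Multiples of the socle generator, as a map to the piece of degree zero. -/
noncomputable def line (he : GrLC.IsStarEss (GrLC.quotGr 𝒜 m) 𝓔 e) :
    GrLC.deg0 𝒜 ≃ₗ[GrLC.deg0 𝒜] GrLC.comp 𝒜 𝓔 0 := by
  refine LinearEquiv.ofBijective ((LinearMap.toSpanSingleton (GrLC.deg0 𝒜) E' (u1 e)).codRestrict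
    (GrLC.comp 𝒜 𝓔 0) fun c => (GrLC.comp 𝒜 𝓔 0).smul_mem c (u1_mem he)) ⟨?_, ?_⟩
  · refine (injective_iff_map_eq_zero _).2 fun c hc => ?_
    by_contra hne
    obtain ⟨w, hw⟩ := h0.mul_inv_cancel hne
    have h1 : c • u1 e = 0 := congrArg Subtype.val hc
    refine u1_ne_zero hpos h0 hmsp he ?_
    rw [← one_smul (GrLC.deg0 𝒜) (u1 e), ← hw, mul_comm, mul_smul, h1, smul_zero]
  · intro x
    obtain ⟨c, hc⟩ := eq_smul_u1 hpos h0 hmsp he (show x.1 ∈ 𝓔 0 from x.2)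
    exact ⟨c, Subtype.ext hc.symm⟩

/-- The linear form of a map of degree `d`. -/
noncomputable def form (he : GrLC.IsStarEss (GrLC.quotGr 𝒜 m) 𝓔 e) (d : ℤ) :
    GrLC.homDeg 𝒜 𝒞 𝓔 d →ₗ[GrLC.deg0 𝒜] Module.Dual (GrLC.deg0 𝒜) (GrLC.comp 𝒜 𝒞 (-d)) where
  toFun f := (line hpos h0 hmsp he).symm.toLinearMap ∘ₗ
    ((f.1.restrictScalars (GrLC.deg0 𝒜)).restrict (p := GrLC.comp 𝒜 𝒞 (-d)) (q := GrLC.comp 𝒜 𝓔 0)
      fun x hx => by have := f.2 (-d) x hx; rwa [neg_add_cancel] at this)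
  map_add' f g := LinearMap.ext fun x => map_add (line hpos h0 hmsp he).symm
    ⟨f.1 x, by have := f.2 (-d) x x.2; rwa [neg_add_cancel] at this⟩
    ⟨g.1 x, by have := g.2 (-d) x x.2; rwa [neg_add_cancel] at this⟩
  map_smul' c f := LinearMap.ext fun x => map_smul (line hpos h0 hmsp he).symm c
    ⟨f.1 x, by have := f.2 (-d) x x.2; rwa [neg_add_cancel] at this⟩

theorem form_injective (he : GrLC.IsStarEss (GrLC.quotGr 𝒜 m) 𝓔 e) (d : ℤ) :
    Function.Injective (form (𝒞 := 𝒞) hpos h0 hmsp he d) := by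
  refine (injective_iff_map_eq_zero _).2 fun f hf => Subtype.ext ?_
  have hzero : ∀ x ∈ 𝒞 (-d), f.1 x = 0 := fun x hx => by
    have h1 : (line hpos h0 hmsp he).symm ⟨f.1 x, _⟩ = 0 := LinearMap.congr_fun hf ⟨x, hx⟩
    rw [LinearEquiv.map_eq_zero_iff] at h1
    exact congrArg Subtype.val h1
  by_contra hne
  letI := HullPrime.quotDecomp m
  haveI := HullPrime.quotGSMul m
  obtain ⟨y, ⟨⟨x, hx⟩, ⟨z, hz⟩⟩, hy0⟩ := (Submodule.ne_bot_iff _).1 (inf_range_ne_bot 𝒜 he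
    (Q := LinearMap.range f.1) fun h => hne (LinearMap.range_eq_bot.1 h))
  obtain ⟨s, rfl⟩ := Ideal.Quotient.mk_surjective z
  rw [apply_mk, smul_u1 hpos h0 hmsp] at hz
  refine hy0 ?_
  have h2 := congrArg (proj 𝓔 0) hz
  rw [proj_smul_u1 he, proj_of_mem 𝒜 (proj_mem 𝒜 0 s), hz, ← hx] at h2
  rw [← hx, h2, show (0 : ℤ) = -d + d from (neg_add_cancel d).symm, ← map_proj_deg f.2,
    hzero _ (proj_mem 𝒞 (-d) x)]

theorem form_surjective (he : GrLC.IsStarInjHull 𝒜 (GrLC.quotGr 𝒜 m) 𝓔 e) (d : ℤ) :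
    Function.Surjective (form (𝒞 := 𝒞) hpos h0 hmsp he.toIsStarEss d) := by
  classical
  intro l
  let U : Submodule R C := Submodule.span R (𝒞 (-d) : Set C)
  have hU : U.IsHomogeneous 𝒞 := isHomogeneous_span 𝒜 𝒞 fun x hx => ⟨-d, hx⟩
  have hlow : ∀ x ∈ U, ∀ j < -d, proj 𝒞 j x = 0 := by
    intro x hx
    induction hx using Submodule.span_induction with
    | mem y hy => exact fun j hj => proj_of_mem_ne 𝒞 hy hj.ne'
    | zero => exact fun j _ => map_zero _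
    | add a b _ _ ha hb => exact fun j hj => by rw [map_add, ha j hj, hb j hj, add_zero]
    | smul r a _ ha =>
      intro j hj
      induction r using induction_hom 𝒜 with
      | zero => rw [zero_smul, map_zero]
      | add p q hp hq => rw [add_smul, map_add, hp, hq, add_zero]
      | hom k p hp =>
        rw [proj_smul_of_mem 𝒜 𝒞 hp]
        rcases lt_or_ge k 0 with hk | hk
        · rw [hpos k hk, AddSubgroup.mem_bot] at hp
          rw [hp, zero_smul]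
        · rw [ha (j - k) (by omega), smul_zero]
  have key : ∀ (r : R) (x : C), x ∈ U → proj 𝒞 (-d) (r • x) = proj 𝒜 0 r • proj 𝒞 (-d) x := by
    intro r x hx
    induction r using induction_hom 𝒜 with
    | zero => simp
    | add p q hp hq => rw [add_smul, map_add, hp, hq, map_add, add_smul]
    | hom k p hp =>
      rw [proj_smul_of_mem 𝒜 𝒞 hp]
      rcases lt_trichotomy k 0 with hk | rfl | hk
      · rw [hpos k hk, AddSubgroup.mem_bot] at hp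
        simp [hp]
      · rw [sub_zero, proj_of_mem 𝒜 hp]
      · rw [hlow x hx _ (by omega), smul_zero, proj_of_mem_ne 𝒜 hp hk.ne', zero_smul]
  let pd : C → GrLC.comp 𝒜 𝒞 (-d) := fun x => ⟨proj 𝒞 (-d) x, proj_mem 𝒞 (-d) x⟩
  let f₀ : U →ₗ[R] E' :=
    { toFun := fun x => l (pd x) • u1 e
      map_add' := fun x y => by
        rw [← add_smul, ← map_add]
        exact congrArg (fun v => l v • u1 e) (Subtype.ext (map_add (proj 𝒞 (-d)) _ _))
      map_smul' := fun r x => by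
        have h1 : pd (r • x : U) = (⟨proj 𝒜 0 r, proj_mem 𝒜 0 r⟩ : GrLC.deg0 𝒜) • pd x :=
          Subtype.ext (key r x x.2)
        simp only [h1, map_smul, smul_eq_mul, mul_smul, RingHom.id_apply]
        change proj 𝒜 0 r • ((l (pd x) : R) • u1 e) = r • ((l (pd x) : R) • u1 e)
        rw [smul_comm, ← smul_u1 hpos h0 hmsp r, smul_comm] }
  letI := subDecomp 𝒞 U hU
  haveI := subGSMul 𝒜 𝒞 U
  have hf₀ : GrLC.IsGrHomDeg (subGr 𝒞 U) 𝓔 f₀ d := fun g x hx => by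
    rcases eq_or_ne g (-d) with rfl | hne
    · rw [neg_add_cancel]
      exact (GrLC.comp 𝒜 𝓔 0).smul_mem _ (u1_mem he.toIsStarEss)
    · have h1 : pd x = 0 := Subtype.ext (proj_of_mem_ne 𝒞 hx hne)
      change l (pd x) • u1 e ∈ _
      rw [h1, map_zero, zero_smul]
      exact zero_mem _
  obtain ⟨f, hf, hfc⟩ := extend_deg (𝒩 := subGr 𝒞 U) (𝒬 := 𝒞) he.starInj (f := U.subtype)
    (fun _ _ hx => hx) U.injective_subtype hf₀
  refine ⟨⟨f, hf⟩, LinearMap.ext fun x => ?_⟩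
  change (line hpos h0 hmsp he.toIsStarEss).symm ⟨f x, _⟩ = l x
  rw [LinearEquiv.symm_apply_eq]
  refine Subtype.ext ?_
  have h1 : f x = l (pd x) • u1 e := LinearMap.congr_fun hfc ⟨x.1, Submodule.subset_span x.2⟩
  have h2 : pd x = x := Subtype.ext (proj_of_mem 𝒞 x.2)
  rw [h2] at h1
  exact h1

/-- The maps of degree `d` into the envelope are the linear forms on the piece of degree `-d`. -/
noncomputable def equiv (he : GrLC.IsStarInjHull 𝒜 (GrLC.quotGr 𝒜 m) 𝓔 e) (d : ℤ) :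
    GrLC.homDeg 𝒜 𝒞 𝓔 d ≃ₗ[GrLC.deg0 𝒜] Module.Dual (GrLC.deg0 𝒜) (GrLC.comp 𝒜 𝒞 (-d)) :=
  LinearEquiv.ofBijective (form hpos h0 hmsp he.toIsStarEss d)
    ⟨form_injective hpos h0 hmsp he.toIsStarEss d, form_surjective hpos h0 hmsp he d⟩

omit hpos h0 hmsp

/-- A linear map from a finitely generated graded module is the sum of finitely many components. -/
theorem exists_sum_components [Module.Finite R C] (f : C →ₗ[R] E') :
    ∃ (D : Finset ℤ) (c : ℤ → C →ₗ[R] E'), (∀ d, c d ∈ GrLC.homDeg 𝒜 𝒞 𝓔 d) ∧ f = ∑ d ∈ D, c d := by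
  classical
  have hex : ∀ d, ∃ h : C →ₗ[R] E', GrLC.IsGrHomDeg 𝒞 𝓔 h d ∧
      ∀ g, ∀ x ∈ 𝒞 g, h x = proj 𝓔 (g + d) (f x) :=
    ExtStarInj.exists_component (M := GrLC.GMod.of 𝒜 C 𝒞) (N := GrLC.GMod.of 𝒜 E' 𝓔) f
  choose c hc hcf using hex
  obtain ⟨s, hs⟩ := Module.finite_def.1 ‹Module.Finite R C›
  let D : Finset ℤ := s.biUnion fun y => (supp 𝒞 y).biUnion fun g =>
    (supp 𝓔 (f (proj 𝒞 g y))).image fun j => j - g
  refine ⟨D, c, hc, LinearMap.ext_on hs fun y hy => ?_⟩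
  rw [LinearMap.sum_apply, ← sum_proj 𝒞 y]
  simp only [map_sum]
  rw [Finset.sum_comm]
  refine Finset.sum_congr rfl fun g hg => ?_
  simp only [hcf _ g _ (proj_mem 𝒞 g y)]
  conv_lhs => rw [← sum_proj 𝓔 (f (proj 𝒞 g y))]
  rw [← Finset.sum_image (f := fun j => proj 𝓔 j (f (proj 𝒞 g y))) (g := fun d => g + d)
    fun a _ b _ hab => add_left_cancel hab]
  refine Finset.sum_subset ?_ fun j _ hj => ?_
  · intro j hj
    exact Finset.mem_image.2 ⟨j - g, Finset.mem_biUnion.2 ⟨y, hy, Finset.mem_biUnion.2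
      ⟨g, hg, Finset.mem_image.2 ⟨j, hj, rfl⟩⟩⟩, add_sub_cancel g j⟩
  · rwa [mem_supp, not_not] at hj

/-- The pieces of the top local cohomology and the maps of each degree into the envelope. -/
theorem nonempty_homDeg_equiv {n : ℕ} {I : GrLC.StarInjRes 𝒜 𝒜} (hC : GrLC.IsStarCanonical 𝒜 𝒞 𝓔 m n I)
    (d : ℤ) : Nonempty (GrLC.homDeg 𝒜 𝒞 𝓔 d ≃ₗ[GrLC.deg0 𝒜] I.Hcomp m n d) := by
  classical
  obtain ⟨hfin, φ, hφ⟩ := hC
  refine ⟨LinearEquiv.ofBijective ((φ.toLinearMap.restrictScalars (GrLC.deg0 𝒜)).restrict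
    (p := GrLC.homDeg 𝒜 𝒞 𝓔 d) (q := I.Hcomp m n d) fun f hf => hφ d f hf)
    ⟨fun f g hfg => Subtype.ext (φ.injective (congrArg Subtype.val hfg)), fun y => ?_⟩⟩
  obtain ⟨f, hf⟩ := φ.surjective y.1
  obtain ⟨D, c, hc, rfl⟩ := exists_sum_components (𝒜 := 𝒜) (𝒞 := 𝒞) (𝓔 := 𝓔) f
  letI := Res.hgrDecomp I m n
  have h1 := congrArg (proj (I.Hgr m n) d) hf
  have h2 : ∀ b, proj (I.Hgr m n) d (φ (c b)) = if d = b then φ (c b) else 0 := fun b => by
    split_ifs with hb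
    · subst hb
      exact proj_of_mem (I.Hgr m n) (hφ d _ (hc d))
    · exact proj_of_mem_ne (I.Hgr m n) (hφ b _ (hc b)) (Ne.symm hb)
  rw [map_sum, map_sum, Finset.sum_congr rfl fun b _ => h2 b, Finset.sum_ite_eq,
    proj_of_mem (I.Hgr m n) (show y.1 ∈ I.Hgr m n d from y.2)] at h1
  by_cases hd : d ∈ D
  · rw [if_pos hd] at h1
    exact ⟨⟨c d, hc d⟩, Subtype.ext h1⟩
  · rw [if_neg hd] at h1
    exact ⟨0, Subtype.ext ((map_zero φ).trans h1)⟩

/-- The dimensions of the pieces of a *canonical module. -/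
theorem finrank_eq [IsNoetherianRing R] (hpos : ∀ n : ℤ, n < 0 → 𝒜 n = ⊥) (h0 : IsField (GrLC.deg0 𝒜))
    (hmsp : m.toIdeal = Ideal.span (⋃ n ∈ Set.Ioi (0 : ℤ), (𝒜 n : Set R)))
    (he : GrLC.IsStarInjHull 𝒜 (GrLC.quotGr 𝒜 m) 𝓔 e) {n : ℕ} {I : GrLC.StarInjRes 𝒜 𝒜}
    (hC : GrLC.IsStarCanonical 𝒜 𝒞 𝓔 m n I) (d : ℤ) :
    Module.Finite (GrLC.deg0 𝒜) (I.Hcomp m n d) ∧
      Module.finrank (GrLC.deg0 𝒜) (I.Hcomp m n d) = Module.finrank (GrLC.deg0 𝒜) (GrLC.comp 𝒜 𝒞 (-d)) := by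
  letI : Field (GrLC.deg0 𝒜) := h0.toField
  haveI := hC.1
  haveI : IsNoetherian R C := inferInstance
  haveI : IsNoetherian (GrLC.deg0 𝒜) (GrLC.comp 𝒜 𝒞 (-d)) := Pieces.isNoetherian_comp 𝒜 𝒞 (-d)
  obtain ⟨ψ⟩ := nonempty_homDeg_equiv hC d
  let Φ := (equiv (𝒞 := 𝒞) hpos h0 hmsp he d).symm.trans ψ
  exact ⟨Module.Finite.equiv Φ, Φ.finrank_eq.symm.trans Subspace.dual_finrank_eq⟩

end Groth.Agent.Lib.Graded.Dual0
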