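import Mathlib.RingTheory.Length
import Mathlib.RingTheory.HopkinsLevitzki
import Mathlib.RingTheory.Artinian.Module
import Mathlib.LinearAlgebra.Isomorphisms
import Mathlib.Algebra.BigOperators.Fin
import Mathlib.Data.Rat.Defs
import Mathlib.Tactic.Ring
import Mathlib.Tactic.LinearCombination

/-!
# Alternating sums of lengths along a long exact sequence
-/

universe u

set_option maxHeartbeats 600000
set_option linter.unusedSectionVars false

namespace Groth.Agent.Lib.Graded.EulerLength

variable (A : Type u) [CommRing A] [IsArtinianRing A]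

/-- The length, as a rational number. -/
noncomputable def L (M : Type u) [AddCommGroup M] [Module A M] : ℚ := ((Module.length A M).toNat : ℚ)

theorem L_congr {M N : Type u} [AddCommGroup M] [Module A M] [AddCommGroup N] [Module A N] (e : M ≃ₗ[A] N) :
    L A M = L A N := by rw [L, L, e.length_eq]

theorem L_eq_zero (M : Type u) [AddCommGroup M] [Module A M] [Subsingleton M] : L A M = 0 := by
  simp [L, Module.length_eq_zero]

theorem ker_add_range {M N : Type u} [AddCommGroup M] [Module A M] [AddCommGroup N] [Module A N]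
    [IsArtinian A M] (g : M →ₗ[A] N) :
    L A (LinearMap.ker g) + L A (LinearMap.range g) = L A M := by
  haveI : IsNoetherian A M := IsSemiprimaryRing.isNoetherian_iff_isArtinian.2 ‹_›
  haveI : IsArtinian A (LinearMap.range g) := isArtinian_of_surjective M g.rangeRestrict g.surjective_rangeRestrict
  haveI : IsNoetherian A (LinearMap.range g) := IsSemiprimaryRing.isNoetherian_iff_isArtinian.2 ‹_›
  have h := Module.length_eq_add_of_exact (LinearMap.ker g).subtype g.rangeRestrict
    (Submodule.subtype_injective _) g.surjective_rangeRestrict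
    (LinearMap.exact_iff.2 ((LinearMap.ker_rangeRestrict g).trans (Submodule.range_subtype _).symm))
  rw [L, L, L, h, ENat.toNat_add Module.length_ne_top Module.length_ne_top, Nat.cast_add]

variable {a b c : ℕ → Type u} [∀ i, AddCommGroup (a i)] [∀ i, Module A (a i)] [∀ i, AddCommGroup (b i)]
  [∀ i, Module A (b i)] [∀ i, AddCommGroup (c i)] [∀ i, Module A (c i)]
  [∀ i, IsArtinian A (a i)] [∀ i, IsArtinian A (b i)] [∀ i, IsArtinian A (c i)]

/-- Additivity of Euler characteristics. -/
theorem euler (f : ∀ i, a i →ₗ[A] b i) (g : ∀ i, b i →ₗ[A] c i) (δ : ∀ i, c i →ₗ[A] a (i + 1))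
    (hb : ∀ i, LinearMap.ker (g i) = LinearMap.range (f i))
    (hc : ∀ i, LinearMap.ker (δ i) = LinearMap.range (g i))
    (ha : ∀ i, LinearMap.ker (f (i + 1)) = LinearMap.range (δ i))
    (h0 : Function.Injective (f 0)) (N : ℕ) (hN : Subsingleton (a (N + 1))) :
    ∑ i ∈ Finset.range (N + 1), (-1 : ℚ) ^ i * L A (b i) =
      (∑ i ∈ Finset.range (N + 1), (-1 : ℚ) ^ i * L A (a i)) +
        ∑ i ∈ Finset.range (N + 1), (-1 : ℚ) ^ i * L A (c i) := by
  have hi : ∀ i, L A (a i) + L A (c i) - L A (b i) =
      L A (LinearMap.ker (f i)) + L A (LinearMap.ker (f (i + 1))) := fun i => by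
    have h1 := ker_add_range A (f i)
    have h2 := ker_add_range A (g i)
    have h3 := ker_add_range A (δ i)
    rw [hb] at h2
    rw [hc] at h3
    rw [← ha] at h3
    linarith
  have key : ∀ n : ℕ, ∑ i ∈ Finset.range n, (-1 : ℚ) ^ i * (L A (a i) + L A (c i) - L A (b i)) =
      L A (LinearMap.ker (f 0)) - (-1 : ℚ) ^ n * L A (LinearMap.ker (f n)) := by
    intro n
    induction n with
    | zero => simp
    | succ n ih => rw [Finset.sum_range_succ, ih, hi, pow_succ]; ring
  haveI : Subsingleton (LinearMap.ker (f 0)) := by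
    rw [LinearMap.ker_eq_bot.2 h0]; infer_instance
  have h := key (N + 1)
  rw [L_eq_zero A (LinearMap.ker (f 0)), L_eq_zero A (LinearMap.ker (f (N + 1))), mul_zero, sub_zero] at h
  simp only [mul_sub, mul_add, Finset.sum_sub_distrib, Finset.sum_add_distrib, sub_eq_zero] at h
  exact h.symm

end Groth.Agent.Lib.Graded.EulerLength
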