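import Groth.Agent.Lib.Graded.Finiteness
import Mathlib.RingTheory.Finiteness.Basic
import Mathlib.Algebra.Module.Torsion.Basic
import Mathlib.RingTheory.Ideal.Quotient.Basic

/-!
# Finite and Artinian pieces
-/

universe u

set_option linter.unusedSectionVars false

open DirectSum

namespace Groth.Agent.Lib.Graded.FinitenessApp

open Groth.Agent.Lib.Graded.Basic Groth.Agent.Lib.Graded.StarInj Groth.Agent.Lib.Graded.FGInduction

/-- A finitely generated module killed by a power of a maximal ideal is Artinian. -/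
theorem isArtinian_of_pow_maximal {S : Type u} [CommRing S] [IsNoetherianRing S] (m : Ideal S)
    [m.IsMaximal] (k : ℕ) : ∀ (M : Type u) [AddCommGroup M] [Module S M] [Module.Finite S M],
    (∀ r ∈ m ^ k, ∀ y : M, r • y = 0) → IsArtinian S M := by
  induction k with
  | zero =>
    intro M _ _ _ h
    haveI : Subsingleton M := subsingleton_of_forall_eq 0 fun y => by
      have := h 1 (by rw [pow_zero, Ideal.one_eq_top]; trivial) y
      rwa [one_smul] at this
    infer_instance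
  | succ k ih =>
    intro M _ _ _ h
    let N : Submodule S M := m • ⊤
    haveI : Module.Finite S N := Module.Finite.iff_fg.2 (IsNoetherian.noetherian _)
    haveI : IsArtinian S N := ih N fun r hr y => Subtype.ext (by
      change r • (y : M) = 0
      refine Submodule.smul_induction_on y.2 (fun c hc z _ => ?_) fun u v hu hv => by
        rw [smul_add, hu, hv, add_zero]
      rw [← mul_smul]
      exact h _ (pow_succ m k ▸ Ideal.mul_mem_mul hr hc) z)
    have ht : Module.IsTorsionBySet S (M ⧸ N) m := by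
      intro z r
      obtain ⟨y, rfl⟩ := N.mkQ_surjective z
      exact (Submodule.Quotient.mk_eq_zero N).2 (Submodule.smul_mem_smul r.2 trivial)
    letI := ht.module
    haveI : IsScalarTower S (S ⧸ m) (M ⧸ N) := ht.isScalarTower
    letI : Field (S ⧸ m) := Ideal.Quotient.field m
    haveI : Module.Finite (S ⧸ m) (M ⧸ N) := Module.Finite.of_restrictScalars_finite S (S ⧸ m) (M ⧸ N)
    haveI : IsArtinian S (M ⧸ N) :=
      isArtinian_of_surjective_algebraMap (R := S ⧸ m) Ideal.Quotient.mk_surjective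
    exact isArtinian_of_range_eq_ker N.subtype N.mkQ (by rw [Submodule.ker_mkQ, Submodule.range_subtype])

variable {R : Type u} [CommRing R] [IsNoetherianRing R] {σ : Type u} [SetLike σ R] [AddSubgroupClass σ R]
variable {𝒜 : ℤ → σ} [GradedRing 𝒜]

theorem proj_zero_posIdeal {r : R} (hr : r ∈ (posIdeal 𝒜).toIdeal)
    (hpos : ∀ n : ℤ, n < 0 → ∀ c ∈ 𝒜 n, c = 0) : proj 𝒜 0 r = 0 := by
  suffices H : ∀ s : R, proj 𝒜 0 (s * r) = 0 by simpa using H 1
  induction hr using Submodule.span_induction with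
  | mem c hc =>
    intro s
    obtain ⟨k, hk, hck⟩ := hc
    rw [← smul_eq_mul, proj_smul_mem 𝒜 𝒜 hck, hpos _ (show (0 : ℤ) - k < 0 by omega) _
      (proj_mem 𝒜 _ s), zero_smul]
  | zero => simp
  | add u v _ _ hu hv => exact fun s => by rw [mul_add, map_add, hu, hv, add_zero]
  | smul t u _ hu => exact fun s => by rw [smul_eq_mul, ← mul_assoc]; exact hu (s * t)

/-- The pieces are finitely generated. -/
theorem finite_Hcomp (hpos : ∀ n : ℤ, n < 0 → ∀ c ∈ 𝒜 n, c = 0) {a : HomogeneousIdeal 𝒜}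
    (ha : a.toIdeal = (posIdeal 𝒜).toIdeal) (X : GrLC.GMod.{u} 𝒜) (hX : Module.Finite R X.carrier)
    (E : GrLC.StarInjRes 𝒜 X.gr) (i : ℕ) (n : ℤ) :
    Module.Finite (GrLC.deg0 𝒜) (E.Hcomp a i n) := by
  haveI := Pieces.isNoetherianRing_deg0 𝒜
  refine Finiteness.good_Hcomp (P := fun A _ _ => Module.Finite (GrLC.deg0 𝒜) A) hpos ha.ge
    ⟨fun A _ _ _ => inferInstance, fun A B C _ _ _ _ _ _ f g h hA hC => ?_,
      fun A B _ _ _ _ r hr f hf _ _ hA => ?_, fun Y hY _ d => ?_⟩ X hX E i n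
  · haveI := hA
    haveI := hC
    haveI : Module.Finite (GrLC.deg0 𝒜) (LinearMap.range g) :=
      Module.Finite.iff_fg.2 (IsNoetherian.noetherian _)
    haveI : Module.Finite (GrLC.deg0 𝒜) (LinearMap.range f) := Module.Finite.range f
    refine Module.finite_def.2 (Submodule.fg_of_fg_map_of_fg_inf_ker g ?_ ?_)
    · rw [Submodule.map_top]; exact Module.Finite.iff_fg.1 inferInstance
    · rw [top_inf_eq, h]; exact Module.Finite.iff_fg.1 inferInstance
  · haveI := hA
    have hr0 : r = 0 := by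
      refine Subtype.ext ?_
      have := proj_zero_posIdeal (ha ▸ hr) hpos
      rwa [proj_of_mem 𝒜 r.2] at this
    exact Module.Finite.of_surjective f fun y => hf y (by rw [hr0, zero_smul])
  · haveI := hY
    haveI := Pieces.isNoetherian_comp 𝒜 Y.gr d
    exact inferInstance

variable {m : HomogeneousIdeal 𝒜}

theorem posIdeal_le_of_isCoatom (hpos : ∀ n : ℤ, n < 0 → ∀ c ∈ 𝒜 n, c = 0) (hm : IsCoatom m) :
    (posIdeal 𝒜).toIdeal ≤ m.toIdeal := by
  by_contra hle
  have hlt : m < m ⊔ posIdeal 𝒜 := lt_of_le_of_ne le_sup_left fun h => hle (by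
    have h2 : (posIdeal 𝒜).toIdeal ≤ (m ⊔ posIdeal 𝒜).toIdeal := (le_sup_right : posIdeal 𝒜 ≤ _)
    rwa [← h] at h2)
  have h1 : (1 : R) ∈ m.toIdeal ⊔ (posIdeal 𝒜).toIdeal := by
    rw [← HomogeneousIdeal.toIdeal_sup, hm.2 _ hlt]
    trivial
  obtain ⟨p, hp, q, hq, hpq⟩ := Submodule.mem_sup.1 h1
  refine hm.1 (HomogeneousIdeal.ext ((Ideal.eq_top_iff_one _).2 ?_))
  have hp0 : proj 𝒜 0 p ∈ m.toIdeal := m.isHomogeneous 0 hp
  have heq : proj 𝒜 0 p = 1 := by
    have := congrArg (proj 𝒜 0) hpq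
    rwa [map_add, proj_zero_posIdeal hq hpos, add_zero,
      proj_of_mem 𝒜 (SetLike.one_mem_graded 𝒜)] at this
  rwa [heq] at hp0

theorem isMaximal_comap (hm : IsCoatom m) :
    (m.toIdeal.comap (GrLC.deg0 𝒜).subtype).IsMaximal := by
  refine ⟨⟨fun h => ?_, fun J hJ => ?_⟩⟩
  · have h1 : (1 : GrLC.deg0 𝒜) ∈ m.toIdeal.comap (GrLC.deg0 𝒜).subtype := h ▸ trivial
    exact hm.1 (HomogeneousIdeal.ext ((Ideal.eq_top_iff_one _).2 h1))
  · obtain ⟨c, hcJ, hcm⟩ := SetLike.exists_of_lt hJ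
    have hI : (m.toIdeal ⊔ Ideal.span {(c : R)}).IsHomogeneous 𝒜 :=
      m.isHomogeneous.sup (Ideal.homogeneous_span 𝒜 _ (by simpa using ⟨0, c.2⟩))
    have htop : m.toIdeal ⊔ Ideal.span {(c : R)} = ⊤ := by
      have := hm.2 (⟨_, hI⟩ : HomogeneousIdeal 𝒜) (lt_of_le_of_ne
        (show m.toIdeal ≤ m.toIdeal ⊔ Ideal.span {(c : R)} from le_sup_left) fun h => hcm (by
          have h2 : m.toIdeal = m.toIdeal ⊔ Ideal.span {(c : R)} := congrArg HomogeneousIdeal.toIdeal h
          change (c : R) ∈ m.toIdeal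
          rw [h2]
          exact Submodule.mem_sup_right (Ideal.subset_span rfl)))
      exact congrArg HomogeneousIdeal.toIdeal this
    obtain ⟨p, hp, q, hq, hpq⟩ := Submodule.mem_sup.1 (show (1 : R) ∈ m.toIdeal ⊔ Ideal.span {(c : R)} by rw [htop]; trivial)
    obtain ⟨t, rfl⟩ := Ideal.mem_span_singleton'.1 hq
    have h0 := congrArg (proj 𝒜 0) hpq
    rw [map_add, proj_of_mem 𝒜 (SetLike.one_mem_graded 𝒜), ← smul_eq_mul,
      proj_smul_mem 𝒜 𝒜 (show (c : R) ∈ 𝒜 0 from c.2), sub_zero] at h0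
    rw [Ideal.eq_top_iff_one]
    have hp' : (⟨proj 𝒜 0 p, proj_mem 𝒜 0 p⟩ : GrLC.deg0 𝒜) ∈ J :=
      hJ.le (show proj 𝒜 0 p ∈ m.toIdeal from m.isHomogeneous 0 hp)
    have heq : (1 : GrLC.deg0 𝒜) =
        ⟨proj 𝒜 0 p, proj_mem 𝒜 0 p⟩ + ⟨proj 𝒜 0 t, proj_mem 𝒜 0 t⟩ * c := Subtype.ext h0.symm
    rw [heq]
    exact add_mem hp' (J.mul_mem_left _ hcJ)

/-- The pieces are Artinian for the maximal homogeneous ideal. -/
theorem isArtinian_Hcomp (hpos : ∀ n : ℤ, n < 0 → ∀ c ∈ 𝒜 n, c = 0) (hm : IsCoatom m)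
    (X : GrLC.GMod.{u} 𝒜) (hX : Module.Finite R X.carrier)
    (E : GrLC.StarInjRes 𝒜 X.gr) (i : ℕ) (n : ℤ) :
    IsArtinian (GrLC.deg0 𝒜) (E.Hcomp m i n) := by
  haveI := Pieces.isNoetherianRing_deg0 𝒜
  haveI := isMaximal_comap hm
  refine Finiteness.good_Hcomp (P := fun A _ _ => IsArtinian (GrLC.deg0 𝒜) A) hpos
    (posIdeal_le_of_isCoatom hpos hm)
    ⟨fun A _ _ _ => inferInstance, fun A B C _ _ _ _ _ _ f g h hA hC => ?_,
      fun A B _ _ _ _ r hr f hf hf0 ht hA => ?_, fun Y hY htors d => ?_⟩ X hX E i n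
  · haveI := hA
    haveI := hC
    exact isArtinian_of_range_eq_ker f g h.symm
  · haveI := hA
    refine Finiteness.isArtinian_of_ker r ?_ ht
    refine isArtinian_of_surjective A (f.codRestrict _ fun z => LinearMap.mem_ker.2 (hf0 z)) fun y => ?_
    obtain ⟨z, hz⟩ := hf y.1 (LinearMap.mem_ker.1 y.2)
    exact ⟨z, Subtype.ext hz⟩
  · haveI := hY
    haveI := Pieces.isNoetherian_comp 𝒜 Y.gr d
    obtain ⟨k, hk⟩ := exists_pow_kills htors
    refine isArtinian_of_pow_maximal (m.toIdeal.comap (GrLC.deg0 𝒜).subtype) k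
      (GrLC.comp 𝒜 Y.gr d) fun r hr y => Subtype.ext ?_
    exact hk r (Ideal.le_comap_pow _ k hr) y.1

end Groth.Agent.Lib.Graded.FinitenessApp
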