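import Mathlib.Algebra.Polynomial.AlgebraMap
import Mathlib.LinearAlgebra.InvariantBasisNumber
import Mathlib.LinearAlgebra.Basis.VectorSpace
import Mathlib.LinearAlgebra.Dimension.Free
import Mathlib.LinearAlgebra.Matrix.ToLin
import Mathlib.LinearAlgebra.FreeModule.StrongRankCondition
import Mathlib.LinearAlgebra.Dimension.Constructions
import Mathlib.RingTheory.Polynomial.Basic

/-!
# A dimension inequality from a faithful family of linear forms
-/

universe u v

set_option maxHeartbeats 600000

open Polynomial

namespace Groth.Agent.Lib.Graded.Generic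

variable {K : Type v} [Field K] {R : Type u} [CommRing R] [Algebra K R]

/-- If the elements `e l` have no common nonzero annihilator and map `V` into `W`, then `dim V ≤ dim W`. -/
theorem finrank_le {V W : Submodule K R} [Module.Finite K V] [Module.Finite K W] {d : ℕ} (e : Fin d → R)
    (hmap : ∀ l, ∀ x ∈ V, e l * x ∈ W) (hann : ∀ r : R, (∀ l, e l * r = 0) → r = 0) :
    Module.finrank K V ≤ Module.finrank K W := by
  classical
  set a := Module.finrank K V
  set b := Module.finrank K W
  let bV := Module.finBasis K V
  let bW := Module.finBasis K W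
  let f : R[X] := ∑ l, C (e l) * X ^ (l : ℕ)
  let A : Matrix (Fin b) (Fin a) K[X] := Matrix.of fun i j =>
    ∑ l, C (bW.repr ⟨e l * (bV j : R), hmap l _ (bV j).2⟩ i) * X ^ (l : ℕ)
  let J : ∀ {n : ℕ}, (Fin n → R) → (Fin n → K[X]) → R[X] :=
    fun c v => ∑ j, (v j).map (algebraMap K R) * C (c j)
  have hf : f ∈ nonZeroDivisors R[X] := by
    by_contra h
    obtain ⟨r, hr0, hr⟩ := Polynomial.notMem_nonZeroDivisors_iff.1 h
    refine hr0 (hann r fun l => ?_)
    have h1 := congrArg (fun p => p.coeff (l : ℕ)) hr
    simp only [f, coeff_smul, finsetSum_coeff, coeff_C_mul, coeff_X_pow, coeff_zero, mul_ite, mul_one,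
      mul_zero, Fin.val_inj, Finset.sum_ite_eq, Finset.mem_univ, if_true, smul_eq_mul] at h1
    rwa [mul_comm]
  have hkey : ∀ v : Fin a → K[X],
      f * J (fun j => (bV j : R)) v = J (fun i => (bW i : R)) (A.mulVec v) := by
    intro v
    have hA : ∀ j, ∑ i, (A i j).map (algebraMap K R) * C (bW i : R) = f * C (bV j : R) := by
      intro j
      simp only [A, Matrix.of_apply, Polynomial.map_sum, Polynomial.map_mul, Polynomial.map_pow, map_C, map_X,
        Finset.sum_mul, f]
      rw [Finset.sum_comm]
      refine Finset.sum_congr rfl fun l _ => ?_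
      have h2 : ∑ i, algebraMap K R (bW.repr ⟨e l * (bV j : R), hmap l _ (bV j).2⟩ i) * (bW i : R) =
          e l * (bV j : R) := by
        have := congrArg Subtype.val (bW.sum_repr ⟨e l * (bV j : R), hmap l _ (bV j).2⟩)
        rw [Submodule.coe_sum] at this
        refine Eq.trans (Finset.sum_congr rfl fun i _ => ?_) this
        rw [Submodule.coe_smul, Algebra.smul_def]
      calc _ = (∑ i, C (algebraMap K R (bW.repr ⟨e l * (bV j : R), hmap l _ (bV j).2⟩ i) * (bW i : R))) *
            X ^ (l : ℕ) := by
            rw [Finset.sum_mul]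
            exact Finset.sum_congr rfl fun i _ => by rw [C_mul]; ring
        _ = _ := by rw [← map_sum, h2, C_mul]; ring
    simp only [J, Matrix.mulVec, dotProduct, Polynomial.map_sum, Polynomial.map_mul, Finset.sum_mul]
    rw [Finset.mul_sum, Finset.sum_comm]
    refine Finset.sum_congr rfl fun j _ => ?_
    rw [show f * ((v j).map (algebraMap K R) * C (bV j : R)) = (v j).map (algebraMap K R) * (f * C (bV j : R)) by ring,
      ← hA, Finset.mul_sum]
    exact Finset.sum_congr rfl fun i _ => by ring
  have hinj : Function.Injective (Matrix.mulVecLin A) := by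
    refine (injective_iff_map_eq_zero _).2 fun v hv => ?_
    have h1 : f * J (fun j => (bV j : R)) v = 0 := by
      rw [hkey, show A.mulVec v = 0 from hv]
      simp [J]
    have h2 : J (fun j => (bV j : R)) v = 0 := (mul_right_mem_nonZeroDivisors_eq_zero_iff hf).1 (by rwa [mul_comm])
    funext j
    ext n
    have h3 := congrArg (fun p => p.coeff n) h2
    simp only [J, finsetSum_coeff, coeff_mul_C, coeff_map, coeff_zero] at h3
    have h4 : ∑ j, (v j).coeff n • bV j = 0 := Subtype.ext (by simpa [Algebra.smul_def] using h3)
    simpa using Fintype.linearIndependent_iff.1 bV.linearIndependent _ h4 j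
  exact le_of_fin_injective K[X] (Matrix.mulVecLin A) hinj

end Groth.Agent.Lib.Graded.Generic
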