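import Groth.Agent.Lib.Graded.Hilbert
import Mathlib.Algebra.Polynomial.Roots
import Mathlib.Algebra.Polynomial.Eval.Defs
import Mathlib.Data.Nat.Choose.Basic
import Mathlib.Data.Nat.Factorial.BigOperators

/-!
# Hilbert function against Hilbert polynomial, from a graded free resolution
-/

universe u

set_option maxHeartbeats 600000
set_option linter.unusedSectionVars false

namespace Groth.Agent.Lib.Graded.HilbertDefect

open Polynomial

/-- `x ↦ binom(x + n, n)` as a polynomial. -/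
noncomputable def binom (n : ℕ) : ℚ[X] :=
  C (1 / (n.factorial : ℚ)) * ∏ j ∈ Finset.range n, (X + C ((j : ℚ) + 1))

theorem eval_binom (n : ℕ) (x : ℚ) :
    (binom n).eval x = 1 / (n.factorial : ℚ) * ∏ j ∈ Finset.range n, (x + ((j : ℚ) + 1)) := by
  simp [binom, eval_prod]

theorem binom_eq_hS (n : ℕ) {t : ℤ} (ht : -(n : ℤ) ≤ t) :
    (binom n).eval (t : ℚ) = (Hilbert.hS n t : ℚ) := by
  rw [eval_binom, Hilbert.hS]
  rcases lt_or_ge t 0 with hneg | hpos
  · rw [if_neg (not_le.2 hneg), Finset.prod_eq_zero (i := (-t).toNat - 1)]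
    · simp
    · simp only [Finset.mem_range]; omega
    · have h1 : (((-t).toNat - 1 : ℕ) : ℤ) + 1 = -t := by omega
      have h2 : ((((-t).toNat - 1 : ℕ) : ℚ)) + 1 = -(t : ℚ) := by exact_mod_cast h1
      rw [h2, add_neg_cancel]
  · obtain ⟨e, rfl⟩ := Int.eq_ofNat_of_zero_le hpos
    rw [if_pos (by omega), Int.toNat_natCast]
    have h := Nat.ascFactorial_eq_factorial_mul_choose e n
    rw [Nat.ascFactorial_eq_prod_range, add_comm e n] at h
    have h' : (∏ j ∈ Finset.range n, ((e : ℚ) + ((j : ℚ) + 1))) = (n.factorial : ℚ) * ((n + e).choose n : ℕ) := by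
      rw [← Nat.cast_mul, ← h]
      push_cast
      exact Finset.prod_congr rfl fun j _ => by ring
    rw [Int.cast_natCast, h']
    field_simp

theorem binom_neg (n : ℕ) : (binom n).eval (-(n : ℚ) - 1) ≠ 0 := by
  rw [eval_binom]
  refine mul_ne_zero (by positivity) (Finset.prod_ne_zero_iff.2 fun j hj h => ?_)
  have h1 : (j : ℚ) = n := by linarith
  have h2 : j = n := by exact_mod_cast h1
  simp [h2] at hj

theorem binom_defect (n : ℕ) {t : ℤ} (ht : -(n : ℤ) - 1 ≤ t) :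
    (Hilbert.hS n t : ℚ) - (binom n).eval (t : ℚ) =
      if t = -(n : ℤ) - 1 then -(binom n).eval (-(n : ℚ) - 1) else 0 := by
  split_ifs with h
  · subst h
    rw [Hilbert.hS, if_neg (by omega)]
    push_cast
    simp
  · rw [binom_eq_hS n (by omega), sub_self]

variable {k : Type u} [Field k] {n : ℕ} {M : Type u} [AddCommGroup M] [Module k M]
  [Module (MvPolynomial (Fin (n + 1)) k) M] [IsScalarTower k (MvPolynomial (Fin (n + 1)) k) M]
  {ℳ : ℤ → Submodule k M} [DirectSum.Decomposition ℳ]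
  [SetLike.GradedSMul (GrSyz.stdGr k (Fin (n + 1))) ℳ]
  (F : GrSyz.FreeRes (GrSyz.stdGr k (Fin (n + 1))) ℳ) {ℓ : ℕ} (hℓ : F.HasLengthLE ℓ)

include hℓ

/-- The Hilbert polynomial read off a resolution. -/
theorem poly_eq {P : ℚ[X]} {d₁ : ℤ}
    (hP : ∀ d : ℤ, d₁ ≤ d → ((Module.finrank k ↥(ℳ d) : ℤ) : ℚ) = P.eval (d : ℚ)) :
    P = ∑ i ∈ Finset.range (ℓ + 1), C ((-1 : ℚ) ^ i) *
      ∑ b : Fin (F.rk i), (binom n).comp (X - C (F.deg i b : ℚ)) := by
  obtain ⟨D, hD⟩ : ∃ D : ℤ, ∀ i ∈ Finset.range (ℓ + 1), ∀ b : Fin (F.rk i), F.deg i b ≤ D := by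
    refine ⟨(((Finset.range (ℓ + 1)).sigma fun i => (Finset.univ : Finset (Fin (F.rk i)))).sup
      fun p => (F.deg p.1 p.2).toNat : ℕ), fun i hi b => ?_⟩
    have := Finset.le_sup (f := fun p : (i : ℕ) × Fin (F.rk i) => (F.deg p.1 p.2).toNat)
      (s := (Finset.range (ℓ + 1)).sigma fun i => (Finset.univ : Finset (Fin (F.rk i))))
      (b := ⟨i, b⟩) (Finset.mem_sigma.2 ⟨hi, Finset.mem_univ b⟩)
    simp only at this
    omega
  refine eq_of_infinite_eval_eq _ _ (Set.Infinite.mono ?_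
    (((Set.Ici_infinite (max d₁ D))).image (Int.cast_injective.injOn : Set.InjOn (fun d : ℤ => (d : ℚ)) _)))
  rintro _ ⟨d, hd, rfl⟩
  have hd' := max_le_iff.1 (Set.mem_Ici.1 hd)
  simp only [Set.mem_setOf_eq, eval_finsetSum, eval_mul, eval_C, eval_comp, eval_sub, eval_X]
  rw [← hP d hd'.1, Hilbert.finrank_eq_sum F d hℓ]
  push_cast
  refine Finset.sum_congr rfl fun i hi => congrArg _ (Finset.sum_congr rfl fun b _ => ?_)
  have := hD i hi b
  rw [← Int.cast_sub, binom_eq_hS n (by omega)]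

/-- The defect one step below the range where they agree. -/
theorem defect {P : ℚ[X]} {d₁ : ℤ}
    (hP : ∀ d : ℤ, d₁ ≤ d → ((Module.finrank k ↥(ℳ d) : ℤ) : ℚ) = P.eval (d : ℚ)) {ρ : ℤ} (hρ : F.IsGenLE ρ) :
    ((Module.finrank k ↥(ℳ (ρ + ℓ - n - 1)) : ℤ) : ℚ) - P.eval ((ρ + ℓ - n - 1 : ℤ) : ℚ) =
      -((-1 : ℚ) ^ ℓ * (binom n).eval (-(n : ℚ) - 1)) *
        ((Finset.univ.filter fun b : Fin (F.rk ℓ) => F.deg ℓ b = ρ + ℓ).card : ℚ) := by
  have key : ∀ i ∈ Finset.range (ℓ + 1), ∀ b : Fin (F.rk i),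
      (Hilbert.hS n (ρ + ℓ - n - 1 - F.deg i b) : ℚ) -
        (binom n).eval (((ρ + ℓ - n - 1 - F.deg i b : ℤ) : ℚ)) =
      if i = ℓ ∧ F.deg i b = ρ + ℓ then -(binom n).eval (-(n : ℚ) - 1) else 0 := by
    intro i hi b
    have h1 := hρ i b
    have h2 := Finset.mem_range.1 hi
    rw [binom_defect n (by omega)]
    exact if_congr (by omega) rfl rfl
  rw [poly_eq F hℓ hP, Hilbert.finrank_eq_sum F _ hℓ]
  simp only [eval_finsetSum, eval_mul, eval_C, eval_comp, eval_sub, eval_X, Int.cast_sum, Int.cast_mul,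
    Int.cast_pow, Int.cast_neg, Int.cast_one, Int.cast_natCast, ← Finset.sum_sub_distrib, ← mul_sub]
  rw [Finset.sum_eq_single ℓ]
  · simp only [← Int.cast_sub]
    rw [Finset.sum_congr rfl (fun b _ => key ℓ (Finset.self_mem_range_succ ℓ) b)]
    simp only [true_and, Finset.sum_ite, Finset.sum_const, Finset.sum_const_zero, add_zero, nsmul_eq_mul]
    ring
  · intro i hi hne
    simp only [← Int.cast_sub]
    rw [Finset.sum_eq_zero fun b _ => (key i hi b).trans (if_neg fun h => hne h.1), mul_zero]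
  · exact fun h => absurd (Finset.self_mem_range_succ ℓ) h

end Groth.Agent.Lib.Graded.HilbertDefect
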