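import Groth.Agent.Lib.Graded.SerreFormula
import Groth.Agent.Lib.Graded.StdVanish

/-!
# Existence of Hilbert polynomials over standard graded rings
-/

universe u

set_option maxHeartbeats 1000000
set_option linter.unusedSectionVars false

open DirectSum

namespace Groth.Agent.Lib.Graded.HilbertPoly

open Groth.Agent.Lib.Graded.Basic Groth.Agent.Lib.Graded.StarInj Groth.Agent.Lib.Graded.EulerLength

open Polynomial in
/-- Every polynomial is a backward difference. -/
theorem exists_antidiff (Q : ℚ[X]) : ∃ S : ℚ[X], S - taylor (-1) S = Q := by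
  suffices H : ∀ (d : ℕ) (Q : ℚ[X]), (∀ j, d ≤ j → Q.coeff j = 0) → ∃ S : ℚ[X], S - taylor (-1) S = Q from
    H (Q.natDegree + 1) Q fun j hj => coeff_eq_zero_of_natDegree_lt (by omega)
  intro d
  induction d with
  | zero => intro Q hQ; exact ⟨0, by rw [map_zero, sub_zero]; ext j; simp [hQ j (Nat.zero_le j)]⟩
  | succ d ih =>
    intro Q hQ
    let S₀ : ℚ[X] := C (Q.coeff d / ((d : ℚ) + 1)) * X ^ (d + 1)
    obtain ⟨S, hS⟩ := ih (Q - (S₀ - taylor (-1) S₀)) fun j hj => by
      rw [coeff_sub, coeff_sub, taylor_coeff]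
      simp only [S₀, coeff_C_mul, coeff_X_pow, ← monomial_one_right_eq_X_pow, C_mul_monomial, mul_one,
        hasseDeriv_monomial, eval_monomial, coeff_monomial]
      rcases hj.lt_or_eq with h | rfl
      · rcases eq_or_lt_of_le (Nat.succ_le_of_lt h) with h' | h'
        · subst h'
          simp [hQ _ le_rfl]
        · rw [hQ j (by omega), Nat.choose_eq_zero_of_lt (by omega)]
          simp [show d + 1 ≠ j by omega]
      · rw [show d + 1 - d = 1 by omega, Nat.choose_succ_self_right]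
        simp
        field_simp
        ring
    exact ⟨S + S₀, by rw [map_add]; linear_combination hS⟩

/-- Eventually polynomial differences come from eventually polynomial functions. -/
theorem exists_poly_of_diff (f : ℤ → ℚ) (Q : Polynomial ℚ) (r : ℤ)
    (h : ∀ n, r ≤ n → f n - f (n - 1) = Q.eval (n : ℚ)) :
    ∃ (P : Polynomial ℚ) (n₀ : ℤ), ∀ n, n₀ ≤ n → P.eval (n : ℚ) = f n := by
  obtain ⟨S, hS⟩ := exists_antidiff Q
  have hS' : ∀ n : ℤ, S.eval (n : ℚ) - S.eval ((n - 1 : ℤ) : ℚ) = Q.eval (n : ℚ) := fun n => by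
    rw [← hS, Polynomial.eval_sub, Polynomial.taylor_eval]
    push_cast
    ring_nf
  refine ⟨S + Polynomial.C (f r - S.eval (r : ℚ)), r, fun n hn => ?_⟩
  obtain ⟨j, rfl⟩ : ∃ j : ℕ, n = r + j := ⟨(n - r).toNat, by omega⟩
  clear hn
  induction j with
  | zero => simp
  | succ j ih =>
    have h1 := h (r + (j + 1 : ℕ)) (by omega)
    have h2 := hS' (r + (j + 1 : ℕ))
    rw [show r + ((j + 1 : ℕ) : ℤ) - 1 = r + j by push_cast; ring] at h1 h2
    simp only [Polynomial.eval_add, Polynomial.eval_C] at ih ⊢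
    linarith

variable {R : Type u} [CommRing R] [IsNoetherianRing R] {𝒜 : ℤ → AddSubgroup R} [GradedRing 𝒜]
variable [IsArtinianRing (GrLC.deg0 𝒜)]
variable (hpos : ∀ n : ℤ, n < 0 → 𝒜 n = ⊥)

include hpos in
theorem exists_poly_of_list : ∀ (es : List R), (∀ e ∈ es, e ∈ 𝒜 1) → ∀ X : GrLC.GMod.{u} 𝒜,
    Module.Finite R X.carrier →
    (FGInduction.posIdeal 𝒜).toIdeal ≤ Ideal.span {r | r ∈ es} ⊔ Module.annihilator R X.carrier →
    ∃ (P : Polynomial ℚ) (n₀ : ℤ), ∀ n, n₀ ≤ n →
      P.eval (n : ℚ) = L (GrLC.deg0 𝒜) (GrLC.comp 𝒜 X.gr n) := by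
  intro es
  induction es with
  | nil =>
    intro _ X hX hle
    obtain ⟨b, hb⟩ := FGInduction.bdd_of_pow_kills (𝒜 := 𝒜) 1 X hX fun r hr y => by
      rw [pow_one] at hr
      have h := hle hr
      rw [show {r : R | r ∈ ([] : List R)} = ∅ by simp, Ideal.span_empty, bot_sup_eq] at h
      exact Module.mem_annihilator.1 h y
    refine ⟨0, b + 1, fun n hn => ?_⟩
    haveI : Subsingleton (GrLC.comp 𝒜 X.gr n) :=
      ⟨fun x y => Subtype.ext ((hb n (by omega) x.1 x.2).trans (hb n (by omega) y.1 y.2).symm)⟩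
    rw [L_eq_zero, Polynomial.eval_zero]
  | cons e es ih =>
    intro hes X hX hle
    have he : e ∈ 𝒜 1 := hes e List.mem_cons_self
    let μ : X.carrier →ₗ[R] X.carrier := e • LinearMap.id
    have hK : (LinearMap.ker μ).IsHomogeneous X.gr := fun g y hy => by
      change e • proj X.gr g y = 0
      have h := proj_smul_of_mem 𝒜 X.gr he (g + 1) y
      rw [show e • y = 0 from hy, map_zero, add_sub_cancel_right] at h
      exact h.symm
    have hI : (LinearMap.range μ).IsHomogeneous X.gr := SmulSeq.isHomogeneous_range_smul he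
    let K := subMod 𝒜 X.gr _ hK
    let C := qMod 𝒜 X.gr _ hI
    have hle' : ∀ (W : GrLC.GMod.{u} 𝒜), (∀ y : W.carrier, e • y = 0) →
        Module.annihilator R X.carrier ≤ Module.annihilator R W.carrier →
        (FGInduction.posIdeal 𝒜).toIdeal ≤ Ideal.span {r | r ∈ es} ⊔ Module.annihilator R W.carrier := by
      intro W he0 hann
      refine hle.trans (sup_le (Ideal.span_le.2 fun r hr => ?_) (hann.trans le_sup_right))
      rcases List.mem_cons.1 hr with rfl | hr
      · exact Submodule.mem_sup_right (Module.mem_annihilator.2 he0)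
      · exact Submodule.mem_sup_left (Ideal.subset_span hr)
    obtain ⟨PK, nK, hPK⟩ := ih (fun r hr => hes r (List.mem_cons_of_mem e hr)) K
      (FGInduction.finite_sub X hX _ hK) (hle' K (fun y => Subtype.ext y.2) fun r hr =>
        Module.mem_annihilator.2 fun y => Subtype.ext (Module.mem_annihilator.1 hr y.1))
    obtain ⟨PC, nC, hPC⟩ := ih (fun r hr => hes r (List.mem_cons_of_mem e hr)) C
      (FGInduction.finite_qMod X hX _ hI) (hle' C
        (fun z => by
          obtain ⟨y, rfl⟩ := Submodule.mkQ_surjective _ z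
          exact (Submodule.Quotient.mk_eq_zero _).2 ⟨y, rfl⟩)
        fun r hr => Module.mem_annihilator.2 fun z => by
          obtain ⟨y, rfl⟩ := Submodule.mkQ_surjective _ z
          change Submodule.Quotient.mk (r • y) = 0
          rw [Module.mem_annihilator.1 hr y]
          rfl)
    refine exists_poly_of_diff _ (PC - Polynomial.taylor (-1) PK) (max nC (nK + 1)) fun n hn => ?_
    have hn' := max_le_iff.1 hn
    let μn : GrLC.comp 𝒜 X.gr (n - 1) →ₗ[GrLC.deg0 𝒜] GrLC.comp 𝒜 X.gr n :=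
      (μ.restrictScalars (GrLC.deg0 𝒜)).restrict fun y hy => smul_mem' 𝒜 X.gr he hy (by ring)
    let qn : GrLC.comp 𝒜 X.gr n →ₗ[GrLC.deg0 𝒜] GrLC.comp 𝒜 C.gr n :=
      ((LinearMap.range μ).mkQ.restrictScalars (GrLC.deg0 𝒜)).restrict fun y hy =>
        mkQ_mem_qGr X.gr (LinearMap.range μ) hy
    haveI := SerreFormula.isArtinian_comp X hX (n - 1)
    haveI := SerreFormula.isArtinian_comp X hX n
    have h1 := ker_add_range (GrLC.deg0 𝒜) μn
    have h2 := ker_add_range (GrLC.deg0 𝒜) qn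
    have hker : L (GrLC.deg0 𝒜) (LinearMap.ker μn) = L (GrLC.deg0 𝒜) (GrLC.comp 𝒜 K.gr (n - 1)) :=
      L_congr _
        { toFun := fun y => ⟨⟨y.1.1, congrArg Subtype.val (LinearMap.mem_ker.1 y.2)⟩, y.1.2⟩
          invFun := fun y => ⟨⟨y.1.1, y.2⟩, LinearMap.mem_ker.2 (Subtype.ext y.1.2)⟩
          map_add' := fun _ _ => rfl
          map_smul' := fun _ _ => rfl }
    have hran : LinearMap.range μn = LinearMap.ker qn := by
      ext y
      constructor
      · rintro ⟨z, rfl⟩
        exact LinearMap.mem_ker.2 (Subtype.ext ((Submodule.Quotient.mk_eq_zero _).2 ⟨z.1, rfl⟩))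
      · intro hy
        obtain ⟨z, hz⟩ := (Submodule.Quotient.mk_eq_zero _).1 (congrArg Subtype.val (LinearMap.mem_ker.1 hy))
        refine ⟨⟨proj X.gr (n - 1) z, proj_mem X.gr _ z⟩, Subtype.ext ?_⟩
        change e • proj X.gr (n - 1) z = y.1
        rw [← proj_smul_of_mem 𝒜 X.gr he n z, show e • z = y.1 from hz, proj_of_mem X.gr y.2]
    have hsurj : Function.Surjective qn := fun z => by
      obtain ⟨y, hy, hyz⟩ := z.2
      exact ⟨⟨y, hy⟩, Subtype.ext hyz⟩
    rw [hran, hker, ← hPK (n - 1) (by omega)] at h1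
    have h3 := L_congr (GrLC.deg0 𝒜) (M := LinearMap.range qn) (N := GrLC.comp 𝒜 C.gr n) ((LinearEquiv.ofEq _ _ (LinearMap.range_eq_top.2 hsurj)).trans Submodule.topEquiv)
    rw [h3, ← hPC n hn'.1] at h2
    rw [Polynomial.eval_sub, Polynomial.taylor_eval]
    push_cast at h1
    rw [sub_eq_add_neg (n : ℚ) 1] at h1
    linarith

include hpos in
/-- **Hilbert–Serre** over a standard graded ring with Artinian degree zero part. -/
theorem exists_poly (hstd : Ideal.span (⋃ n ∈ Set.Ioi (0 : ℤ), (𝒜 n : Set R)) = Ideal.span ((𝒜 1 : AddSubgroup R) : Set R))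
    (X : GrLC.GMod.{u} 𝒜) (hX : Module.Finite R X.carrier) :
    ∃ (P : Polynomial ℚ) (n₀ : ℤ), ∀ n, n₀ ≤ n →
      P.eval (n : ℚ) = L (GrLC.deg0 𝒜) (GrLC.comp 𝒜 X.gr n) := by
  obtain ⟨xs, hxs, hspan⟩ := StdVanish.exists_list_of_span (a := FGInduction.posIdeal 𝒜)
    ((FGInduction.span_iUnion_Ioi 𝒜).symm.trans hstd)
  exact exists_poly_of_list hpos xs hxs X hX (hspan.le.trans le_sup_left)

end Groth.Agent.Lib.Graded.HilbertPoly
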