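import Groth.Agent.Lib.Graded.Chain
import Mathlib.LinearAlgebra.Prod

/-!
# The horseshoe construction for *injective resolutions
-/

universe u

set_option linter.unusedSectionVars false

open DirectSum

namespace Groth.Agent.Lib.Graded.Horseshoe

open Groth.Agent.Lib.Graded.Basic Groth.Agent.Lib.Graded.StarInj Groth.Agent.Lib.Graded.Chain

variable {ι : Type} [AddCommGroup ι] [DecidableEq ι]
variable {R : Type u} [CommRing R] {σ : Type u} [SetLike σ R] [AddSubgroupClass σ R]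
variable {𝒜 : ι → σ} [GradedRing 𝒜]

section Prod

variable (X Y : GrLC.GMod.{u} 𝒜)

/-- The pieces of a product. -/
def prodGr : ι → AddSubgroup (X.carrier × Y.carrier) := fun g => (X.gr g).prod (Y.gr g)

/-- The grading of a product. -/
@[instance_reducible]
noncomputable def prodDecomp : DirectSum.Decomposition (prodGr X Y) :=
  decompositionOfProj _ (fun g => AddMonoidHom.prodMap (proj X.gr g) (proj Y.gr g))
    (fun g x hx => Prod.ext (proj_of_mem X.gr (AddSubgroup.mem_prod.1 hx).1)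
      (proj_of_mem Y.gr (AddSubgroup.mem_prod.1 hx).2))
    (fun g h hne x hx => Prod.ext (proj_of_mem_ne X.gr (AddSubgroup.mem_prod.1 hx).1 hne)
      (proj_of_mem_ne Y.gr (AddSubgroup.mem_prod.1 hx).2 hne))
    (fun x => by
      have hx : x = (x.1, 0) + (0, x.2) := by simp
      rw [hx]
      refine add_mem ?_ ?_
      · induction x.1 using induction_hom X.gr with
        | zero => exact zero_mem _
        | hom g a ha => exact mem_coe_range g (AddSubgroup.mem_prod.2 ⟨ha, zero_mem _⟩)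
        | add a b ha hb => simpa using add_mem ha hb
      · induction x.2 using induction_hom Y.gr with
        | zero => exact zero_mem _
        | hom g a ha => exact mem_coe_range g (AddSubgroup.mem_prod.2 ⟨zero_mem _, ha⟩)
        | add a b ha hb => simpa using add_mem ha hb)

theorem prodGSMul : SetLike.GradedSMul 𝒜 (prodGr X Y) where
  smul_mem {i j r x} hr hx := AddSubgroup.mem_prod.2
    ⟨SetLike.GradedSMul.smul_mem hr (AddSubgroup.mem_prod.1 hx).1,
      SetLike.GradedSMul.smul_mem hr (AddSubgroup.mem_prod.1 hx).2⟩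

/-- The product of two graded modules. -/
noncomputable def prodMod : GrLC.GMod.{u} 𝒜 :=
  letI := prodDecomp X Y
  haveI := prodGSMul X Y
  GrLC.GMod.of 𝒜 (X.carrier × Y.carrier) (prodGr X Y)

theorem isStarInj_prodMod (hX : GrLC.IsStarInj 𝒜 X.gr) (hY : GrLC.IsStarInj 𝒜 Y.gr) :
    GrLC.IsStarInj 𝒜 (prodMod X Y).gr := by
  intro A B f hf hinj g hg
  obtain ⟨p, hp, hpc⟩ := hX A B f hf hinj (LinearMap.fst R X.carrier Y.carrier ∘ₗ g)
    (fun d x hx => (AddSubgroup.mem_prod.1 (hg d x hx)).1)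
  obtain ⟨q, hq, hqc⟩ := hY A B f hf hinj (LinearMap.snd R X.carrier Y.carrier ∘ₗ g)
    (fun d x hx => (AddSubgroup.mem_prod.1 (hg d x hx)).2)
  refine ⟨p.prod q, fun d x hx => AddSubgroup.mem_prod.2 ⟨hp d x hx, hq d x hx⟩, ?_⟩
  ext x
  exact Prod.ext (LinearMap.congr_fun hpc x) (LinearMap.congr_fun hqc x)

end Prod

variable {M' : Type u} [AddCommGroup M'] [Module R M'] {τ' : Type u} [SetLike τ' M'] [AddSubgroupClass τ' M']
variable {ℳ' : ι → τ'} [DirectSum.Decomposition ℳ'] [SetLike.GradedSMul 𝒜 ℳ']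
variable {M : Type u} [AddCommGroup M] [Module R M] {τ : Type u} [SetLike τ M] [AddSubgroupClass τ M]
variable {ℳ : ι → τ} [DirectSum.Decomposition ℳ] [SetLike.GradedSMul 𝒜 ℳ]
variable {M'' : Type u} [AddCommGroup M''] [Module R M''] {τ'' : Type u} [SetLike τ'' M'']
  [AddSubgroupClass τ'' M'']
variable {ℳ'' : ι → τ''} [DirectSum.Decomposition ℳ''] [SetLike.GradedSMul 𝒜 ℳ'']
variable (E' : GrLC.StarInjRes 𝒜 ℳ') (E'' : GrLC.StarInjRes 𝒜 ℳ'')

/-- A short exact sequence of graded modules. -/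
structure SES (ℳ' : ι → τ') (ℳ : ι → τ) (ℳ'' : ι → τ'') (i : M' →ₗ[R] M) (π : M →ₗ[R] M'') :
    Prop where
  grHom_i : GrLC.IsGrHom ℳ' ℳ i
  grHom_π : GrLC.IsGrHom ℳ ℳ'' π
  injective : Function.Injective i
  surjective : Function.Surjective π
  exact : LinearMap.ker π = LinearMap.range i

variable {i : M' →ₗ[R] M} {π : M →ₗ[R] M''}

theorem SES.π_i (h : SES ℳ' ℳ ℳ'' i π) (x : M') : π (i x) = 0 :=
  LinearMap.mem_ker.1 (h.exact.ge ⟨x, rfl⟩)

/-- A stage of the twisting maps. -/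
def TStage (n : ℕ) : Type u :=
  {θ : (E''.X n).carrier →ₗ[R] (E'.X (n + 1)).carrier //
    GrLC.IsGrHom (E''.X n).gr (E'.X (n + 1)).gr θ ∧
      LinearMap.ker (E''.d n) ≤ LinearMap.ker (E'.d (n + 1) ∘ₗ θ)}

theorem exists_tNext (n : ℕ) (s : TStage E' E'' n) :
    ∃ t : TStage E' E'' (n + 1), ∀ c, t.1 (E''.d n c) = - E'.d (n + 1) (s.1 c) := by
  obtain ⟨θ, hθ, hc⟩ := extend_of_ker_le (E'.starInj (n + 2)) (E''.d_grHom n)
    (Chain.isGrHom_neg (isGrHom_comp s.2.1 (E'.d_grHom (n + 1))))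
    (fun x hx => by rw [LinearMap.mem_ker, LinearMap.neg_apply, LinearMap.mem_ker.1 (s.2.2 hx), neg_zero])
  refine ⟨⟨θ, hθ, fun x hx => ?_⟩, fun c => LinearMap.congr_fun hc c⟩
  obtain ⟨y, rfl⟩ := (E''.exact_succ n).le hx
  rw [LinearMap.mem_ker, LinearMap.comp_apply,
    show θ (E''.d n y) = _ from LinearMap.congr_fun hc y, LinearMap.neg_apply, map_neg,
    LinearMap.comp_apply, d_d, neg_zero]

theorem exists_data (h : SES ℳ' ℳ ℳ'' i π) :
    ∃ (α : M →ₗ[R] (E'.X 0).carrier) (s : TStage E' E'' 0), GrLC.IsGrHom ℳ (E'.X 0).gr α ∧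
      (∀ x, α (i x) = E'.ε x) ∧ ∀ m, s.1 (E''.ε (π m)) = - E'.d 0 (α m) := by
  obtain ⟨α, hα, hαi⟩ := extend (𝒩 := ℳ') (𝒬 := ℳ) (E'.starInj 0) h.grHom_i h.injective E'.ε_grHom
  have hker : LinearMap.ker (E''.ε ∘ₗ π) ≤ LinearMap.ker (-(E'.d 0 ∘ₗ α)) := by
    intro m hm
    have hm' : π m = 0 := E''.ε_injective ((LinearMap.mem_ker.1 hm).trans (map_zero E''.ε).symm)
    obtain ⟨x, rfl⟩ := h.exact.le (LinearMap.mem_ker.2 hm')
    rw [LinearMap.mem_ker, LinearMap.neg_apply, LinearMap.comp_apply,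
      show α (i x) = _ from LinearMap.congr_fun hαi x, d_ε, neg_zero]
  obtain ⟨θ, hθ, hc⟩ := extend_of_ker_le (𝒩 := ℳ) (E'.starInj 1)
    (isGrHom_comp h.grHom_π E''.ε_grHom) (Chain.isGrHom_neg (isGrHom_comp hα (E'.d_grHom 0))) hker
  refine ⟨α, ⟨θ, hθ, fun c hc' => ?_⟩, hα, fun x => LinearMap.congr_fun hαi x,
    fun m => LinearMap.congr_fun hc m⟩
  obtain ⟨n, rfl⟩ := E''.exact_zero.le hc'
  obtain ⟨m, rfl⟩ := h.surjective n
  have hθm : θ (E''.ε (π m)) = - E'.d 0 (α m) := LinearMap.congr_fun hc m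
  rw [LinearMap.mem_ker, LinearMap.comp_apply, hθm, map_neg, d_d, neg_zero]

variable (h : SES ℳ' ℳ ℳ'' i π)

/-- The lift of the first augmentation. -/
noncomputable def alpha : M →ₗ[R] (E'.X 0).carrier := (exists_data E' E'' h).choose

/-- The twisting maps. -/
noncomputable def theta : ∀ n, TStage E' E'' n
  | 0 => (exists_data E' E'' h).choose_spec.choose
  | n + 1 => (exists_tNext E' E'' n (theta n)).choose

theorem alpha_grHom : GrLC.IsGrHom ℳ (E'.X 0).gr (alpha E' E'' h) :=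
  (exists_data E' E'' h).choose_spec.choose_spec.1

theorem alpha_i (x : M') : alpha E' E'' h (i x) = E'.ε x :=
  (exists_data E' E'' h).choose_spec.choose_spec.2.1 x

theorem theta_zero (m : M) : (theta E' E'' h 0).1 (E''.ε (π m)) = - E'.d 0 (alpha E' E'' h m) :=
  (exists_data E' E'' h).choose_spec.choose_spec.2.2 m

theorem theta_succ (n : ℕ) (c : (E''.X n).carrier) :
    (theta E' E'' h (n + 1)).1 (E''.d n c) = - E'.d (n + 1) ((theta E' E'' h n).1 c) :=
  (exists_tNext E' E'' n (theta E' E'' h n)).choose_spec c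

/-- The differential of the horseshoe resolution. -/
noncomputable def dMap (n : ℕ) : (E'.X n).carrier × (E''.X n).carrier →ₗ[R]
    (E'.X (n + 1)).carrier × (E''.X (n + 1)).carrier :=
  (E'.d n ∘ₗ LinearMap.fst R _ _ + (theta E' E'' h n).1 ∘ₗ LinearMap.snd R _ _).prod
    (E''.d n ∘ₗ LinearMap.snd R _ _)

theorem dMap_apply (n : ℕ) (a : (E'.X n).carrier) (c : (E''.X n).carrier) :
    dMap E' E'' h n (a, c) = (E'.d n a + (theta E' E'' h n).1 c, E''.d n c) := rfl

/-- The augmentation of the horseshoe resolution. -/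
noncomputable def eMap : M →ₗ[R] (E'.X 0).carrier × (E''.X 0).carrier :=
  (alpha E' E'' h).prod (E''.ε ∘ₗ π)

theorem eMap_apply (m : M) : eMap E' E'' h m = (alpha E' E'' h m, E''.ε (π m)) := rfl

/-- The horseshoe resolution. -/
noncomputable def res : GrLC.StarInjRes 𝒜 ℳ where
  X n := prodMod (E'.X n) (E''.X n)
  d := dMap E' E'' h
  ε := eMap E' E'' h
  d_grHom n g x hx := AddSubgroup.mem_prod.2
    ⟨add_mem (E'.d_grHom n g _ (AddSubgroup.mem_prod.1 hx).1)
      ((theta E' E'' h n).2.1 g _ (AddSubgroup.mem_prod.1 hx).2),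
      E''.d_grHom n g _ (AddSubgroup.mem_prod.1 hx).2⟩
  ε_grHom g x hx := AddSubgroup.mem_prod.2
    ⟨alpha_grHom E' E'' h g x hx, E''.ε_grHom g _ (h.grHom_π g x hx)⟩
  ε_injective := by
    refine (injective_iff_map_eq_zero (eMap E' E'' h)).2 fun m hm => ?_
    rw [eMap_apply, Prod.mk_eq_zero] at hm
    have hπ : π m = 0 := E''.ε_injective (hm.2.trans (map_zero _).symm)
    obtain ⟨x, rfl⟩ := h.exact.le (LinearMap.mem_ker.2 hπ)
    have hx := hm.1
    rw [alpha_i] at hx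
    rw [E'.ε_injective (hx.trans (map_zero _).symm), map_zero]
  exact_zero := by
    change LinearMap.ker (dMap E' E'' h 0) = LinearMap.range (eMap E' E'' h)
    refine le_antisymm ?_ ?_
    · rintro ⟨a, c⟩ hac
      rw [LinearMap.mem_ker, dMap_apply, Prod.mk_eq_zero] at hac
      obtain ⟨n, rfl⟩ := E''.exact_zero.le (LinearMap.mem_ker.2 hac.2)
      obtain ⟨m, rfl⟩ := h.surjective n
      have ha := hac.1
      rw [theta_zero, ← sub_eq_add_neg, ← map_sub] at ha
      obtain ⟨x, hx⟩ := E'.exact_zero.le (LinearMap.mem_ker.2 ha)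
      refine ⟨m + i x, ?_⟩
      rw [eMap_apply, map_add, alpha_i, hx, map_add π, h.π_i, add_zero, add_sub_cancel]
    · rintro _ ⟨m, rfl⟩
      rw [LinearMap.mem_ker, eMap_apply, dMap_apply, theta_zero, add_neg_cancel, d_ε, Prod.mk_zero_zero]
  exact_succ := by
    intro n
    change LinearMap.ker (dMap E' E'' h (n + 1)) = LinearMap.range (dMap E' E'' h n)
    refine le_antisymm ?_ ?_
    · rintro ⟨a, c⟩ hac
      rw [LinearMap.mem_ker, dMap_apply, Prod.mk_eq_zero] at hac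
      obtain ⟨c₀, rfl⟩ := (E''.exact_succ n).le (LinearMap.mem_ker.2 hac.2)
      have ha := hac.1
      rw [theta_succ, ← sub_eq_add_neg, ← map_sub] at ha
      obtain ⟨a₀, ha₀⟩ := (E'.exact_succ n).le (LinearMap.mem_ker.2 ha)
      refine ⟨(a₀, c₀), ?_⟩
      rw [dMap_apply, ha₀, sub_add_cancel]
    · rintro _ ⟨⟨a, c⟩, rfl⟩
      rw [LinearMap.mem_ker, dMap_apply, dMap_apply, theta_succ, map_add, d_d, d_d, zero_add,
        add_neg_cancel, Prod.mk_zero_zero]
  starInj n := isStarInj_prodMod _ _ (E'.starInj n) (E''.starInj n)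

/-- The inclusion of the first resolution. -/
noncomputable def inl : Chain.Map E' (res E' E'' h) where
  app n := LinearMap.inl R (E'.X n).carrier (E''.X n).carrier
  grHom _ _ _ hx := AddSubgroup.mem_prod.2 ⟨hx, zero_mem _⟩
  comm n := by
    refine LinearMap.ext fun x => ?_
    change (E'.d n x, (0 : (E''.X (n + 1)).carrier)) = dMap E' E'' h n (x, 0)
    rw [dMap_apply, map_zero, map_zero, add_zero]

/-- The projection on the last resolution. -/
noncomputable def snd : Chain.Map (res E' E'' h) E'' where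
  app n := LinearMap.snd R (E'.X n).carrier (E''.X n).carrier
  grHom _ _ _ hx := (AddSubgroup.mem_prod.1 hx).2
  comm n := by
    refine LinearMap.ext fun x => ?_
    rfl

theorem inl_ε : (inl E' E'' h).app 0 ∘ₗ E'.ε = (res E' E'' h).ε ∘ₗ i := by
  refine LinearMap.ext fun x => ?_
  change ((E'.ε x, 0) : (E'.X 0).carrier × (E''.X 0).carrier) = eMap E' E'' h (i x)
  rw [eMap_apply, alpha_i, h.π_i, map_zero]

theorem snd_ε : (snd E' E'' h).app 0 ∘ₗ (res E' E'' h).ε = E''.ε ∘ₗ π := rfl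

section LES

variable (a : HomogeneousIdeal 𝒜)

theorem mem_gam_fst {n : ℕ} {z : ((res E' E'' h).X n).carrier}
    (hz : z ∈ GrLC.gam a.toIdeal ((res E' E'' h).X n).carrier) :
    (show (E'.X n).carrier × (E''.X n).carrier from z).1 ∈ GrLC.gam a.toIdeal (E'.X n).carrier := by
  obtain ⟨k, hk⟩ := hz
  exact ⟨k, fun r hr => congrArg Prod.fst (hk r hr)⟩

theorem mem_gam_snd {n : ℕ} {z : ((res E' E'' h).X n).carrier}
    (hz : z ∈ GrLC.gam a.toIdeal ((res E' E'' h).X n).carrier) :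
    (show (E'.X n).carrier × (E''.X n).carrier from z).2 ∈ GrLC.gam a.toIdeal (E''.X n).carrier := by
  obtain ⟨k, hk⟩ := hz
  exact ⟨k, fun r hr => congrArg Prod.snd (hk r hr)⟩

theorem mem_gam_mk {n : ℕ} {x : (E'.X n).carrier} {y : (E''.X n).carrier}
    (hx : x ∈ GrLC.gam a.toIdeal (E'.X n).carrier) (hy : y ∈ GrLC.gam a.toIdeal (E''.X n).carrier) :
    ((x, y) : (E'.X n).carrier × (E''.X n).carrier) ∈
      GrLC.gam a.toIdeal ((E'.X n).carrier × (E''.X n).carrier) := by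
  obtain ⟨k, hk⟩ := hx
  obtain ⟨l, hl⟩ := hy
  refine ⟨k + l, fun r hr => Prod.ext (hk r (Ideal.pow_le_pow_right (Nat.le_add_right k l) hr))
    (hl r (Ideal.pow_le_pow_right (Nat.le_add_left l k) hr))⟩

/-- The connecting map on cocycles. -/
noncomputable def deltaCocyc (n : ℕ) : ↥(E''.cocyc a n) →ₗ[R] ↥(E'.cocyc a (n + 1)) :=
  (theta E' E'' h n).1.restrict fun x hx => ⟨map_mem_gam _ _ hx.1, by
    have h2 := (theta E' E'' h n).2.2 hx.2
    exact h2⟩

/-- The connecting homomorphism. -/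
noncomputable def delta (n : ℕ) : E''.H a n →ₗ[R] E'.H a (n + 1) :=
  Submodule.mapQ _ _ (deltaCocyc E' E'' h a n) (by
    intro x hx
    change (theta E' E'' h n).1 x ∈ E'.cobdy a (n + 1)
    cases n with
    | zero =>
      have hx0 : (x : (E''.X 0).carrier) = 0 := hx
      rw [hx0, map_zero]
      exact zero_mem _
    | succ n =>
      obtain ⟨y, hy, hyx⟩ := hx
      refine ⟨-(theta E' E'' h n).1 y, neg_mem (map_mem_gam _ _ hy), ?_⟩
      rw [map_neg, ← theta_succ, hyx]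
      rfl)

theorem delta_toH (n : ℕ) (z : ↥(E''.cocyc a n)) :
    delta E' E'' h a n (E''.toH a n z) = E'.toH a (n + 1) (deltaCocyc E' E'' h a n z) := rfl

theorem delta_grHom (n : ℕ) :
    GrLC.IsGrHom (E''.Hgr a n) (E'.Hgr a (n + 1)) (delta E' E'' h a n) := by
  rintro g _ ⟨z, hz, rfl⟩
  exact ⟨deltaCocyc E' E'' h a n z, (theta E' E'' h n).2.1 g z hz, rfl⟩

theorem mid_exact (n : ℕ) : LinearMap.ker ((snd E' E'' h).hMap a n) =
    LinearMap.range ((inl E' E'' h).hMap a n) := by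
  refine le_antisymm ?_ ?_
  · intro x hx
    obtain ⟨z, rfl⟩ := toH_surjective a n x
    rw [LinearMap.mem_ker, Map.hMap_toH, toH_eq_zero_iff] at hx
    obtain ⟨⟨p, q⟩, hzg, hzd⟩ := z
    have hzd' := LinearMap.mem_ker.1 hzd
    change dMap E' E'' h n (p, q) = 0 at hzd'
    rw [dMap_apply, Prod.mk_eq_zero] at hzd'
    change q ∈ E''.cobdy a n at hx
    cases n with
    | zero =>
      have hq : q = 0 := hx
      subst hq
      rw [map_zero, map_zero, add_zero] at hzd'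
      exact ⟨E'.toH a 0 ⟨p, mem_gam_fst E' E'' h a hzg, LinearMap.mem_ker.2 hzd'.1⟩, rfl⟩
    | succ n =>
      obtain ⟨c, hc, rfl⟩ := hx
      have ha' := hzd'.1
      rw [theta_succ, ← sub_eq_add_neg, ← map_sub] at ha'
      refine ⟨E'.toH a (n + 1) ⟨p - (theta E' E'' h n).1 c,
        sub_mem (mem_gam_fst E' E'' h a hzg) (map_mem_gam _ _ hc), LinearMap.mem_ker.2 ha'⟩, ?_⟩
      rw [Map.hMap_toH, toH_eq_iff]
      refine ⟨(0, -c), mem_gam_mk E' E'' a (zero_mem _) (neg_mem hc), ?_⟩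
      change dMap E' E'' h n (0, -c) =
        (((p - (theta E' E'' h n).1 c, 0) : (E'.X (n + 1)).carrier × (E''.X (n + 1)).carrier) -
          (p, E''.d n c))
      rw [dMap_apply, map_zero, zero_add, map_neg, map_neg, Prod.mk_sub_mk, sub_sub_cancel_left,
        zero_sub]
  · rintro _ ⟨x, rfl⟩
    obtain ⟨z, rfl⟩ := toH_surjective a n x
    rw [LinearMap.mem_ker, Map.hMap_toH, Map.hMap_toH, toH_eq_zero_iff]
    exact zero_mem (E''.cobdy a n)

theorem snd_exact (n : ℕ) : LinearMap.ker (delta E' E'' h a n) =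
    LinearMap.range ((snd E' E'' h).hMap a n) := by
  refine le_antisymm ?_ ?_
  · intro x hx
    obtain ⟨z, rfl⟩ := toH_surjective a n x
    rw [LinearMap.mem_ker, delta_toH, toH_eq_zero_iff] at hx
    obtain ⟨a₀, ha₀, hθ⟩ := hx
    change E'.d n a₀ = (theta E' E'' h n).1 z at hθ
    refine ⟨(res E' E'' h).toH a n ⟨(-a₀, z.1), mem_gam_mk E' E'' a (neg_mem ha₀) z.2.1, ?_⟩, rfl⟩
    change dMap E' E'' h n (-a₀, z.1) = 0
    rw [dMap_apply, map_neg, hθ, neg_add_cancel, LinearMap.mem_ker.1 z.2.2, Prod.mk_zero_zero]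
  · rintro _ ⟨x, rfl⟩
    obtain ⟨⟨⟨p, q⟩, hzg, hzd⟩, rfl⟩ := toH_surjective a n x
    rw [LinearMap.mem_ker, Map.hMap_toH, delta_toH, toH_eq_zero_iff]
    have hzd' := LinearMap.mem_ker.1 hzd
    change dMap E' E'' h n (p, q) = 0 at hzd'
    rw [dMap_apply, Prod.mk_eq_zero] at hzd'
    refine ⟨-p, neg_mem (mem_gam_fst E' E'' h a hzg), ?_⟩
    change E'.d n (-p) = (theta E' E'' h n).1 q
    rw [map_neg, ← add_eq_zero_iff_neg_eq, hzd'.1]

theorem inl_exact (n : ℕ) : LinearMap.ker ((inl E' E'' h).hMap a (n + 1)) =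
    LinearMap.range (delta E' E'' h a n) := by
  refine le_antisymm ?_ ?_
  · intro x hx
    obtain ⟨z, rfl⟩ := toH_surjective a (n + 1) x
    rw [LinearMap.mem_ker, Map.hMap_toH, toH_eq_zero_iff] at hx
    obtain ⟨⟨a₀, c₀⟩, hg, hd⟩ := hx
    change dMap E' E'' h n (a₀, c₀) = ((z.1, 0) : (E'.X (n + 1)).carrier × (E''.X (n + 1)).carrier) at hd
    rw [dMap_apply, Prod.mk_inj] at hd
    refine ⟨E''.toH a n ⟨c₀, mem_gam_snd E' E'' h a hg, LinearMap.mem_ker.2 hd.2⟩, ?_⟩
    rw [delta_toH, toH_eq_iff]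
    refine ⟨-a₀, neg_mem (mem_gam_fst E' E'' h a hg), ?_⟩
    change E'.d n (-a₀) = (theta E' E'' h n).1 c₀ - z.1
    rw [← hd.1, map_neg, sub_add_cancel_right]
  · rintro _ ⟨x, rfl⟩
    obtain ⟨z, rfl⟩ := toH_surjective a n x
    rw [LinearMap.mem_ker, delta_toH, Map.hMap_toH, toH_eq_zero_iff]
    refine ⟨(0, z.1), mem_gam_mk E' E'' a (zero_mem _) z.2.1, ?_⟩
    change dMap E' E'' h n (0, z.1) = ((theta E' E'' h n).1 z.1, 0)
    rw [dMap_apply, map_zero, zero_add, LinearMap.mem_ker.1 z.2.2]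

theorem inl_zero_injective : Function.Injective ((inl E' E'' h).hMap a 0) := by
  refine (injective_iff_map_eq_zero _).2 fun x hx => ?_
  obtain ⟨z, rfl⟩ := toH_surjective a 0 x
  rw [Map.hMap_toH, toH_eq_zero_iff] at hx
  rw [toH_eq_zero_iff]
  exact congrArg Prod.fst (show ((z.1, 0) : (E'.X 0).carrier × (E''.X 0).carrier) = 0 from hx)

end LES

end Groth.Agent.Lib.Graded.Horseshoe
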