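import Groth.Agent.Lib.Graded.StarLocal
import Groth.Agent.Lib.Graded.FGInduction
import Mathlib.RingTheory.Artinian.Module

/-!
# Changing the supporting ideal; the irrelevant ideal of a *local ring with Artinian degree zero part
-/

universe u

set_option maxHeartbeats 600000
set_option linter.unusedSectionVars false

open DirectSum

namespace Groth.Agent.Lib.Graded.IdealChange

open Groth.Agent.Lib.Graded.Basic Groth.Agent.Lib.Graded.StarInj

section Change

variable {ι : Type} [AddCommGroup ι] [DecidableEq ι] {R : Type u} [CommRing R] {σ : Type u} [SetLike σ R]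
  [AddSubgroupClass σ R] {𝒜 : ι → σ} [GradedRing 𝒜] {a b : HomogeneousIdeal 𝒜}

theorem gam_le {I J : Ideal R} {N : ℕ} (h : I ^ N ≤ J) (M : Type u) [AddCommGroup M] [Module R M] :
    GrLC.gam J M ≤ GrLC.gam I M := by
  rintro x ⟨n, hn⟩
  exact ⟨N * n, fun r hr => hn r (Ideal.pow_right_mono h n (by rwa [← pow_mul]))⟩

theorem Hgr_eq_bot_iff {M : Type u} [AddCommGroup M] [Module R M] {τ : Type u} [SetLike τ M]
    [AddSubgroupClass τ M] {ℳ : ι → τ} [DirectSum.Decomposition ℳ] [SetLike.GradedSMul 𝒜 ℳ]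
    (E : GrLC.StarInjRes 𝒜 ℳ) (i : ℕ) (d : ι) :
    E.Hgr a i d = ⊥ ↔ ∀ z ∈ (E.X i).gr d, z ∈ E.cocyc a i → z ∈ E.cobdy a i := by
  rw [AddSubgroup.eq_bot_iff_forall]
  constructor
  · intro h z hz hc
    exact (Chain.toH_eq_zero_iff a ⟨z, hc⟩).1 (h _ ⟨⟨z, hc⟩, hz, rfl⟩)
  · rintro h _ ⟨z, hz, rfl⟩
    exact (Chain.toH_eq_zero_iff a z).2 (h z hz z.2)

/-- Ideals with the same torsion functor have the same vanishing. -/
theorem V_congr_ideal (h : ∀ (M : Type u) [AddCommGroup M] [Module R M],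
      GrLC.gam a.toIdeal M = GrLC.gam b.toIdeal M) (X : GrLC.GMod.{u} 𝒜) (i : ℕ) (d : ι) :
    Van.V a X i d ↔ Van.V b X i d := by
  refine forall_congr' fun E => ?_
  rw [Hgr_eq_bot_iff, Hgr_eq_bot_iff]
  have hc : E.cocyc a i = E.cocyc b i := by simp only [GrLC.StarInjRes.cocyc, h]
  have hb : E.cobdy a i = E.cobdy b i := by cases i <;> simp only [GrLC.StarInjRes.cobdy, h]
  rw [hc, hb]

end Change

variable {R : Type u} [CommRing R] [IsNoetherianRing R] {𝒜 : ℤ → AddSubgroup R} [GradedRing 𝒜]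
variable {m : HomogeneousIdeal 𝒜} (hpos : ∀ n : ℤ, n < 0 → 𝒜 n = ⊥) (hm : GrLC.IsStarLocal 𝒜 m)

include hpos hm

theorem posIdeal_le : (FGInduction.posIdeal 𝒜).toIdeal ≤ m.toIdeal :=
  Ideal.span_le.2 fun _ ⟨_, hk, hr⟩ => StarLocal.mem_of_pos hpos hm hk.ne' hr

theorem isNilpotent_deg0 [IsArtinianRing (GrLC.deg0 𝒜)] {x : R} (hx : x ∈ 𝒜 0) (hxm : x ∈ m.toIdeal) :
    IsNilpotent x := by
  obtain ⟨n, ⟨y, hy0⟩, hy⟩ := IsArtinian.exists_pow_succ_smul_dvd (⟨x, hx⟩ : GrLC.deg0 𝒜) (1 : GrLC.deg0 𝒜)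
  have h1 : x ^ n.succ * y = x ^ n := by
    have := congrArg Subtype.val hy
    simpa [smul_eq_mul] using this
  have hu : IsUnit (1 - x * y) := StarLocal.isUnit_of_not_mem hm
    (sub_mem (SetLike.one_mem_graded 𝒜) (by
      have := SetLike.mul_mem_graded hx hy0
      rwa [add_zero] at this))
    fun h => StarLocal.toIdeal_ne_top hm ((Ideal.eq_top_iff_one _).2 (by
      have := m.toIdeal.add_mem h (m.toIdeal.mul_mem_right y hxm)
      rwa [sub_add_cancel] at this))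
  refine ⟨n, (hu.mul_left_eq_zero).1 ?_⟩
  rw [pow_succ] at h1
  linear_combination -h1

/-- With Artinian degree zero part, the *maximal ideal and the positive ideal have the same torsion. -/
theorem gam_eq [IsArtinianRing (GrLC.deg0 𝒜)] (M : Type u) [AddCommGroup M] [Module R M] :
    GrLC.gam m.toIdeal M = GrLC.gam (FGInduction.posIdeal 𝒜).toIdeal M := by
  have hle : m.toIdeal ≤ (FGInduction.posIdeal 𝒜).toIdeal.radical := fun x hx => by
    rw [← sum_proj 𝒜 x]
    refine sum_mem fun i _ => ?_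
    rcases lt_trichotomy i 0 with h | rfl | h
    · have := proj_mem 𝒜 i x
      rw [hpos i h, AddSubgroup.mem_bot] at this
      rw [this]; exact zero_mem _
    · obtain ⟨n, hn⟩ := isNilpotent_deg0 hpos hm (proj_mem 𝒜 0 x) (m.isHomogeneous 0 hx)
      exact ⟨n, hn ▸ zero_mem _⟩
    · exact Ideal.le_radical (Ideal.subset_span ⟨i, h, proj_mem 𝒜 i x⟩)
  obtain ⟨N, hN⟩ := Ideal.exists_pow_le_of_le_radical_of_fg hle (IsNoetherian.noetherian _)
  refine le_antisymm (gam_le (N := 1) ?_ M) (gam_le hN M)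
  rw [pow_one]
  exact posIdeal_le hpos hm

theorem V_iff [IsArtinianRing (GrLC.deg0 𝒜)] (X : GrLC.GMod.{u} 𝒜) (i : ℕ) (d : ℤ) :
    Van.V m X i d ↔ Van.V (FGInduction.posIdeal 𝒜) X i d :=
  V_congr_ideal (fun M _ _ => gam_eq hpos hm M) X i d

end Groth.Agent.Lib.Graded.IdealChange
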