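import Groth.Agent.Lib.Graded.Horseshoe

/-!
# The long exact sequence of graded local cohomology, degree by degree
-/

universe u

set_option linter.unusedSectionVars false

open DirectSum

namespace Groth.Agent.Lib.Graded.LES

open Groth.Agent.Lib.Graded.Basic Groth.Agent.Lib.Graded.StarInj Groth.Agent.Lib.Graded.Chain
open Groth.Agent.Lib.Graded.Horseshoe

variable {ι : Type} [AddCommGroup ι] [DecidableEq ι]
variable {R : Type u} [CommRing R] {σ : Type u} [SetLike σ R] [AddSubgroupClass σ R]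
variable {𝒜 : ι → σ} [GradedRing 𝒜]
variable {M' : Type u} [AddCommGroup M'] [Module R M'] {τ' : Type u} [SetLike τ' M'] [AddSubgroupClass τ' M']
variable {ℳ' : ι → τ'} [DirectSum.Decomposition ℳ'] [SetLike.GradedSMul 𝒜 ℳ']
variable {M : Type u} [AddCommGroup M] [Module R M] {τ : Type u} [SetLike τ M] [AddSubgroupClass τ M]
variable {ℳ : ι → τ} [DirectSum.Decomposition ℳ] [SetLike.GradedSMul 𝒜 ℳ]
variable {M'' : Type u} [AddCommGroup M''] [Module R M''] {τ'' : Type u} [SetLike τ'' M'']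
  [AddSubgroupClass τ'' M'']
variable {ℳ'' : ι → τ''} [DirectSum.Decomposition ℳ''] [SetLike.GradedSMul 𝒜 ℳ'']
variable {i : M' →ₗ[R] M} {π : M →ₗ[R] M''}
variable (E' : GrLC.StarInjRes 𝒜 ℳ') (E : GrLC.StarInjRes 𝒜 ℳ) (E'' : GrLC.StarInjRes 𝒜 ℳ'')
variable (a : HomogeneousIdeal 𝒜)

/-- The long exact sequence for given chain maps over the maps of a short exact sequence. -/
theorem exists_les (h : SES ℳ' ℳ ℳ'' i π) (φ : Chain.Map E' E) (hφ : φ.app 0 ∘ₗ E'.ε = E.ε ∘ₗ i)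
    (ψ : Chain.Map E E'') (hψ : ψ.app 0 ∘ₗ E.ε = E''.ε ∘ₗ π) :
    ∃ δ : ∀ n, E''.H a n →ₗ[R] E'.H a (n + 1),
      (∀ n, GrLC.IsGrHom (E''.Hgr a n) (E'.Hgr a (n + 1)) (δ n)) ∧
      (∀ n, LinearMap.ker (ψ.hMap a n) = LinearMap.range (φ.hMap a n)) ∧
      (∀ n, LinearMap.ker (δ n) = LinearMap.range (ψ.hMap a n)) ∧
      (∀ n, LinearMap.ker (φ.hMap a (n + 1)) = LinearMap.range (δ n)) ∧
      Function.Injective (φ.hMap a 0) := by
  let C := res E' E'' h
  let e : ∀ n, C.H a n ≃ₗ[R] E.H a n := compareEquiv a C E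
  have hc : (lift C E LinearMap.id).app 0 ∘ₗ C.ε = E.ε :=
    (lift_ε C E _ isGrHom_id).trans (LinearMap.comp_id _)
  have hi : ∀ n, φ.hMap a n = (e n).toLinearMap ∘ₗ (inl E' E'' h).hMap a n := fun n => by
    rw [show (e n).toLinearMap = (lift C E LinearMap.id).hMap a n from rfl, ← Map.hMap_comp]
    refine Map.hMap_congr a _ _ ?_ n
    change φ.app 0 ∘ₗ E'.ε = ((lift C E LinearMap.id).app 0 ∘ₗ (inl E' E'' h).app 0) ∘ₗ E'.ε
    rw [hφ, LinearMap.comp_assoc, inl_ε, ← LinearMap.comp_assoc, hc]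
  have hs : ∀ n, ψ.hMap a n ∘ₗ (e n).toLinearMap = (snd E' E'' h).hMap a n := fun n => by
    rw [show (e n).toLinearMap = (lift C E LinearMap.id).hMap a n from rfl, ← Map.hMap_comp]
    refine Map.hMap_congr a _ _ ?_ n
    change (ψ.app 0 ∘ₗ (lift C E LinearMap.id).app 0) ∘ₗ C.ε = (snd E' E'' h).app 0 ∘ₗ C.ε
    rw [LinearMap.comp_assoc, hc, hψ, snd_ε]
  refine ⟨delta E' E'' h a, delta_grHom E' E'' h a, fun n => ?_, fun n => ?_, fun n => ?_, ?_⟩
  · ext x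
    obtain ⟨y, rfl⟩ := (e n).surjective x
    have h1 : ψ.hMap a n (e n y) = (snd E' E'' h).hMap a n y := LinearMap.congr_fun (hs n) y
    rw [LinearMap.mem_ker, h1, ← LinearMap.mem_ker, mid_exact, hi]
    simp
  · rw [snd_exact, ← hs, LinearMap.range_comp, LinearEquiv.range, Submodule.map_top]
  · rw [hi, LinearMap.ker_comp, LinearEquiv.ker, Submodule.comap_bot, inl_exact]
  · rw [hi]
    exact (e 0).injective.comp (inl_zero_injective E' E'' h a)

section Degreewise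

variable {A : Type u} [AddCommGroup A] [Module R A] {𝔸 : ι → AddSubgroup A} [DirectSum.Decomposition 𝔸]
variable {B : Type u} [AddCommGroup B] [Module R B] {𝔹 : ι → AddSubgroup B}
variable {C : Type u} [AddCommGroup C] [Module R C] {ℂ : ι → AddSubgroup C} [DirectSum.Decomposition 𝔹]

/-- Degreewise vanishing through an exact pair of homogeneous maps. -/
theorem eq_bot_of_exact {f : A →ₗ[R] B} {g : B →ₗ[R] C} (hf : GrLC.IsGrHom 𝔸 𝔹 f)
    (hg : GrLC.IsGrHom 𝔹 ℂ g) (hex : LinearMap.ker g = LinearMap.range f) {d : ι}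
    (hA : 𝔸 d = ⊥) (hC : ℂ d = ⊥) : 𝔹 d = ⊥ := by
  refine (AddSubgroup.eq_bot_iff_forall _).2 fun x hx => ?_
  have hgx : g x = 0 := by
    have := hg d x hx
    rwa [hC, AddSubgroup.mem_bot] at this
  obtain ⟨y, hy, rfl⟩ := exists_hom_preimage hf hx (hex.le (LinearMap.mem_ker.2 hgx))
  rw [hA, AddSubgroup.mem_bot] at hy
  rw [hy, map_zero]

end Degreewise

variable (ℳ)

/-- The degreewise consequences of the long exact sequence for vanishing. -/
theorem vanish (h : SES ℳ' ℳ ℳ'' i π) (d : ι) :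
    (∀ n, E'.Hgr a n d = ⊥ → E''.Hgr a n d = ⊥ → E.Hgr a n d = ⊥) ∧
    (∀ n, E.Hgr a n d = ⊥ → E'.Hgr a (n + 1) d = ⊥ → E''.Hgr a n d = ⊥) ∧
    (∀ n, E''.Hgr a n d = ⊥ → E.Hgr a (n + 1) d = ⊥ → E'.Hgr a (n + 1) d = ⊥) ∧
    (E.Hgr a 0 d = ⊥ → E'.Hgr a 0 d = ⊥) := by
  have hφ := lift_ε E' E i h.grHom_i
  have hψ := lift_ε E E'' π h.grHom_π
  obtain ⟨δ, hδ, h1, h2, h3, h4⟩ := exists_les E' E E'' a h _ hφ _ hψ
  refine ⟨fun n hA hC => ?_, fun n hA hC => ?_, fun n hA hC => ?_, fun hC => ?_⟩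
  · letI := Res.hgrDecomp E' a n
    letI := Res.hgrDecomp E a n
    exact eq_bot_of_exact (Map.hMap_grHom a _ n) (Map.hMap_grHom a _ n) (h1 n) hA hC
  · letI := Res.hgrDecomp E a n
    letI := Res.hgrDecomp E'' a n
    exact eq_bot_of_exact (Map.hMap_grHom a _ n) (hδ n) (h2 n) hA hC
  · letI := Res.hgrDecomp E'' a n
    letI := Res.hgrDecomp E' a (n + 1)
    exact eq_bot_of_exact (hδ n) (Map.hMap_grHom a _ (n + 1)) (h3 n) hA hC
  · refine (AddSubgroup.eq_bot_iff_forall _).2 fun x hx => h4 ?_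
    have hz := Map.hMap_grHom a (lift E' E i) 0 d x hx
    rw [hC, AddSubgroup.mem_bot] at hz
    rw [hz, map_zero]

variable {ℳ}

/-- Vanishing does not depend on the resolution. -/
theorem Hgr_eq_bot_congr (F F' : GrLC.StarInjRes 𝒜 ℳ) (n : ℕ) (d : ι) (h : F.Hgr a n d = ⊥) :
    F'.Hgr a n d = ⊥ := by
  refine (AddSubgroup.eq_bot_iff_forall _).2 fun x hx => (compareEquiv a F' F n).injective ?_
  have hz := compareEquiv_grHom a F' F n d x hx
  rw [h, AddSubgroup.mem_bot] at hz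
  rw [map_zero]
  exact hz

theorem Hcomp_eq_bot_iff (F : GrLC.StarInjRes 𝒜 ℳ) (n : ℕ) (d : ι) :
    F.Hcomp a n d = ⊥ ↔ F.Hgr a n d = ⊥ := by
  rw [Submodule.eq_bot_iff, AddSubgroup.eq_bot_iff_forall]
  rfl

section Shift

variable (ℳ) in
/-- A resolution of a shifted module. -/
noncomputable def shiftRes (F : GrLC.StarInjRes 𝒜 ℳ) (c : ι) :
    GrLC.StarInjRes 𝒜 (shiftMod 𝒜 ℳ c).gr where
  X n := shiftMod 𝒜 (F.X n).gr c
  d := F.d
  ε := F.ε
  d_grHom n j x hx := F.d_grHom n (j + c) x hx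
  ε_grHom j x hx := F.ε_grHom (j + c) x hx
  ε_injective := F.ε_injective
  exact_zero := F.exact_zero
  exact_succ := F.exact_succ
  starInj n := isStarInj_shiftMod (F.starInj n) c

theorem mem_shiftRes_Hgr (F : GrLC.StarInjRes 𝒜 ℳ) (c : ι) (n : ℕ) (d : ι) (x : F.H a n) :
    x ∈ (show ι → AddSubgroup (F.H a n) from (shiftRes ℳ F c).Hgr a n) d ↔ x ∈ F.Hgr a n (d + c) := by
  have hcb : (shiftRes ℳ F c).cobdy a n = F.cobdy a n := by cases n <;> rfl
  constructor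
  · rintro ⟨z, hz, rfl⟩
    exact ⟨z, hz, rfl⟩
  · rintro ⟨z, hz, rfl⟩
    exact ⟨z, hz, rfl⟩

theorem shiftRes_Hgr_eq_bot_iff (F : GrLC.StarInjRes 𝒜 ℳ) (c : ι) (n : ℕ) (d : ι) :
    (shiftRes ℳ F c).Hgr a n d = ⊥ ↔ F.Hgr a n (d + c) = ⊥ := by
  rw [AddSubgroup.eq_bot_iff_forall, AddSubgroup.eq_bot_iff_forall]
  constructor
  · intro h x hx
    exact h x ((mem_shiftRes_Hgr a F c n d x).2 hx)
  · intro h x hx
    exact h x ((mem_shiftRes_Hgr a F c n d x).1 hx)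

end Shift

end Groth.Agent.Lib.Graded.LES
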