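import Groth.Agent.Lib.Depth.Ext
import Groth.Agent.Lib.Depth.Local
import Mathlib.LinearAlgebra.Matrix.ToLin

/-!
# Depth of a module with a minimal free resolution (the Auslander–Buchsbaum formula)
-/

universe u

set_option maxHeartbeats 600000
set_option linter.unusedSectionVars false

open CategoryTheory Abelian LocCoh

namespace Groth.Agent.Lib.Graded.MinDepth

variable {R : Type u} [CommRing R] (N : ModuleCat.{u} R)

/-- Composition of a class with a linear map. -/
noncomputable def post {X Y : Type u} [AddCommGroup X] [Module R X] [AddCommGroup Y] [Module R Y]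
    {i : ℕ} (x : Ext N (ModuleCat.of R X) i) : (X →ₗ[R] Y) →+ Ext N (ModuleCat.of R Y) i :=
  AddMonoidHom.mk' (fun φ => x.comp (Ext.mk₀ (ModuleCat.ofHom φ)) (add_zero i)) fun a b => by
    rw [show ModuleCat.ofHom (a + b) = ModuleCat.ofHom a + ModuleCat.ofHom b from rfl, Ext.mk₀_add,
      Ext.comp_add]

theorem post_id {X : Type u} [AddCommGroup X] [Module R X] {i : ℕ} (x : Ext N (ModuleCat.of R X) i) :
    post N x LinearMap.id = x :=
  Ext.comp_mk₀_id x

theorem post_comp {X Y Z : Type u} [AddCommGroup X] [Module R X] [AddCommGroup Y] [Module R Y]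
    [AddCommGroup Z] [Module R Z] {i : ℕ} (x : Ext N (ModuleCat.of R X) i) (f : X →ₗ[R] Y) (g : Y →ₗ[R] Z) :
    post N (post N x f) g = post N x (g ∘ₗ f) := by
  change (x.comp _ (add_zero i)).comp _ (add_zero i) = x.comp _ (add_zero i)
  rw [Ext.comp_assoc _ _ _ (add_zero i) (add_zero 0) (by simp), Ext.mk₀_comp_mk₀]
  rfl

theorem post_zero {X Y : Type u} [AddCommGroup X] [Module R X] [AddCommGroup Y] [Module R Y]
    {i : ℕ} (f : X →ₗ[R] Y) : post N (0 : Ext N (ModuleCat.of R X) i) f = 0 := by
  simp [post]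

theorem post_smul {X Y : Type u} [AddCommGroup X] [Module R X] [AddCommGroup Y] [Module R Y]
    {i : ℕ} (x : Ext N (ModuleCat.of R X) i) (c : R) (f : X →ₗ[R] Y) :
    post N x (c • f) = c • post N x f := by
  change x.comp _ (add_zero i) = c • x.comp _ (add_zero i)
  rw [← Ext.comp_smul, ← Ext.mk₀_smul]
  rfl

theorem sum_single_proj (n : ℕ) : ∑ b : Fin n, LinearMap.single R (fun _ : Fin n => R) b ∘ₗ
    LinearMap.proj b = LinearMap.id := by
  ext v c
  simp

theorem subsingleton_free (n : ℕ) {i : ℕ} (h : Subsingleton (Ext N (ModuleCat.of R R) i)) :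
    Subsingleton (Ext N (ModuleCat.of R (Fin n → R)) i) := by
  refine subsingleton_of_forall_eq 0 fun x => ?_
  rw [← post_id N x, ← sum_single_proj, map_sum]
  refine Finset.sum_eq_zero fun b _ => ?_
  rw [← post_comp, h.elim (post N x (LinearMap.proj b)) 0]
  simp only [post_zero, Ext.zero_comp]

theorem nontrivial_free {n i : ℕ} (b : Fin n) (h : ¬ Subsingleton (Ext N (ModuleCat.of R R) i)) :
    ¬ Subsingleton (Ext N (ModuleCat.of R (Fin n → R)) i) := by
  intro hs
  refine h (subsingleton_of_forall_eq 0 fun x => ?_)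
  rw [← post_id N x, show (LinearMap.id : R →ₗ[R] R) =
    LinearMap.proj b ∘ₗ LinearMap.single R (fun _ : Fin n => R) b by ext; simp, ← post_comp,
    hs.elim (post N x (LinearMap.single R (fun _ : Fin n => R) b)) 0]
  simp only [post_zero, Ext.zero_comp]

theorem post_mulVecLin_eq_zero {m n : ℕ} {A : Matrix (Fin m) (Fin n) R}
    (hA : ∀ a b, A a b ∈ Module.annihilator R N) {i : ℕ} (x : Ext N (ModuleCat.of R (Fin n → R)) i) :
    post N x A.mulVecLin = 0 := by
  have e : A.mulVecLin = ∑ a, ∑ b, A a b • (LinearMap.single R (fun _ : Fin m => R) a ∘ₗ LinearMap.proj b) := by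
    ext v c
    simp [LinearMap.sum_apply, Finset.sum_apply, Pi.single_apply, Matrix.mulVec, dotProduct]
  rw [e, map_sum]
  refine Finset.sum_eq_zero fun a _ => ?_
  rw [map_sum]
  refine Finset.sum_eq_zero fun b _ => ?_
  rw [post_smul]
  exact Depth.Ext.smul_eq_zero_of_annihilator_src (hA a b) _

variable {N}

/-- A minimal free resolution of length `ℓ` lowers the first nonvanishing `Ext` degree by `ℓ`. -/
theorem ext_of_minimal {D : ℕ} (hlow : ∀ i < D, Subsingleton (Ext N (ModuleCat.of R R) i))
    (htop : ¬ Subsingleton (Ext N (ModuleCat.of R R) D)) :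
    ∀ (ℓ : ℕ) (M : Type u) [AddCommGroup M] [Module R M] (rk : ℕ → ℕ)
      (d : ∀ i, Matrix (Fin (rk i)) (Fin (rk (i + 1))) R) (aug : (Fin (rk 0) → R) →ₗ[R] M),
      Function.Surjective aug → LinearMap.ker aug = LinearMap.range (d 0).mulVecLin →
      (∀ i, LinearMap.ker (d i).mulVecLin = LinearMap.range (d (i + 1)).mulVecLin) →
      (∀ i a b, d i a b ∈ Module.annihilator R N) → (∀ i, ℓ < i → rk i = 0) → rk ℓ ≠ 0 → ℓ ≤ D →
      (∀ i, i + ℓ < D → Subsingleton (Ext N (ModuleCat.of R M) i)) ∧
        ¬ Subsingleton (Ext N (ModuleCat.of R M) (D - ℓ)) := by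
  intro ℓ
  induction ℓ with
  | zero =>
    intro M _ _ rk d aug hs he _ hd hz hne hD
    have hi : Function.Injective aug := by
      rw [← LinearMap.ker_eq_bot, he, LinearMap.range_eq_bot]
      haveI : IsEmpty (Fin (rk 1)) := by rw [hz 1 one_pos]; infer_instance
      exact LinearMap.ext fun v => by rw [Subsingleton.elim v 0, map_zero, map_zero]
    let e := LinearEquiv.ofBijective aug ⟨hi, hs⟩
    have back : ∀ {i : ℕ} (x : Ext N (ModuleCat.of R M) i),
        post N (post N x e.symm.toLinearMap) e.toLinearMap = x := fun x => by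
      rw [post_comp, show e.toLinearMap ∘ₗ e.symm.toLinearMap = LinearMap.id by ext; simp, post_id]
    refine ⟨fun i hi' => subsingleton_of_forall_eq 0 fun x => ?_, fun hs' => ?_⟩
    · rw [← back x, (subsingleton_free N (rk 0) (hlow i (by omega))).elim (post N x e.symm.toLinearMap) 0]
      simp only [post_zero, Ext.zero_comp]
    · refine nontrivial_free N ⟨0, Nat.pos_of_ne_zero hne⟩ htop (subsingleton_of_forall_eq 0 fun x => ?_)
      rw [← post_id N x, show LinearMap.id = e.symm.toLinearMap ∘ₗ e.toLinearMap by ext; simp,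
        ← post_comp, hs'.elim (post N x e.toLinearMap) 0]
      simp only [post_zero, Ext.zero_comp]
  | succ ℓ ih =>
    intro M _ _ rk d aug hs he hsucc hd hz hne hD
    let S : ShortComplex (ModuleCat.{u} R) :=
      ShortComplex.mk (ModuleCat.ofHom (LinearMap.range (d 0).mulVecLin).subtype) (ModuleCat.ofHom aug)
        (by ext x; exact LinearMap.mem_ker.1 (he.ge x.2))
    have hS : S.ShortExact :=
      { exact := (ShortComplex.ShortExact.moduleCat_exact_iff_function_exact _).mpr
          (LinearMap.exact_iff.2 (he.trans (Submodule.range_subtype _).symm))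
        mono_f := (ModuleCat.mono_iff_injective _).mpr (Submodule.injective_subtype _)
        epi_g := (ModuleCat.epi_iff_surjective _).mpr hs }
    obtain ⟨hK, hK'⟩ := ih ↥(LinearMap.range (d 0).mulVecLin) (fun i => rk (i + 1)) (fun i => d (i + 1))
      (d 0).mulVecLin.rangeRestrict (LinearMap.surjective_rangeRestrict _)
      ((LinearMap.ker_rangeRestrict _).trans (hsucc 0)) (fun i => hsucc (i + 1))
      (fun i => hd (i + 1)) (fun i hi => hz (i + 1) (by omega)) hne (by omega)
    have hF : ∀ i < D, Subsingleton (Ext N S.X₂ i) := fun i hi => subsingleton_free N _ (hlow i hi)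
    refine ⟨fun i hi => Depth.Ext.subsingleton_X₃ N hS (hF i (by omega)) (hK (i + 1) (by omega)),
      fun hM => hK' (subsingleton_of_forall_eq 0 fun x => ?_)⟩
    obtain ⟨x₃, hx₃⟩ : ∃ x₃ : Ext N S.X₃ (D - (ℓ + 1)), x₃.comp hS.extClass (by omega : _ = D - ℓ) = x := by
      refine Ext.covariant_sequence_exact₁ N hS x ?_ _
      rcases Nat.eq_zero_or_pos ℓ with rfl | hl
      · obtain ⟨y, rfl⟩ : ∃ y, post N y (d 0).mulVecLin.rangeRestrict = x := by
          have hinj : Function.Injective (d 0).mulVecLin.rangeRestrict := by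
            rw [← LinearMap.ker_eq_bot, LinearMap.ker_rangeRestrict, hsucc 0, LinearMap.range_eq_bot]
            haveI : IsEmpty (Fin (rk 2)) := by rw [hz 2 (by omega)]; infer_instance
            exact LinearMap.ext fun v => by rw [Subsingleton.elim v 0, map_zero, map_zero]
          let e := LinearEquiv.ofBijective _ ⟨hinj, LinearMap.surjective_rangeRestrict _⟩
          refine ⟨post N x e.symm.toLinearMap, ?_⟩
          rw [post_comp, show (d 0).mulVecLin.rangeRestrict ∘ₗ e.symm.toLinearMap = LinearMap.id from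
            LinearMap.ext fun v => e.apply_symm_apply v, post_id]
        change post N (post N y _) (LinearMap.range (d 0).mulVecLin).subtype = 0
        rw [post_comp, show (LinearMap.range (d 0).mulVecLin).subtype ∘ₗ (d 0).mulVecLin.rangeRestrict =
          (d 0).mulVecLin from rfl]
        exact post_mulVecLin_eq_zero N (hd 0) y
      · exact (hF (D - ℓ) (by omega)).elim _ _
    rw [← hx₃, hM.elim x₃ 0]
    simp only [post_zero, Ext.zero_comp]

/-- **Auslander–Buchsbaum**, for a minimal free resolution. -/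
theorem idealDepth_add [IsNoetherianRing R] {I : Ideal R} {D : ℕ} (hD : idealDepth I R = D)
    {M : Type u} [AddCommGroup M] [Module R M] [Module.Finite R M] (rk : ℕ → ℕ)
    (d : ∀ i, Matrix (Fin (rk i)) (Fin (rk (i + 1))) R) (aug : (Fin (rk 0) → R) →ₗ[R] M)
    (hs : Function.Surjective aug) (he : LinearMap.ker aug = LinearMap.range (d 0).mulVecLin)
    (hsucc : ∀ i, LinearMap.ker (d i).mulVecLin = LinearMap.range (d (i + 1)).mulVecLin)
    (hd : ∀ i a b, d i a b ∈ I) {ℓ : ℕ} (hz : ∀ i, ℓ < i → rk i = 0) (hne : rk ℓ ≠ 0) (hℓ : ℓ ≤ D) :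
    (ℓ : ℕ∞) + idealDepth I M = D := by
  have hlow := (Depth.Ext.le_idealDepth_iff_ext_quotient I R D).1 hD.ge
  have htop : ¬ Subsingleton (Ext (ModuleCat.of R (R ⧸ I)) (ModuleCat.of R R) D) := fun h => by
    have h1 := (Depth.Ext.le_idealDepth_iff_ext_quotient I R (D + 1)).2 fun i hi => by
      rcases Nat.lt_succ_iff_lt_or_eq.1 hi with hi | rfl
      · exact hlow i hi
      · exact h
    rw [hD, Nat.cast_le] at h1
    omega
  obtain ⟨h1, h2⟩ := ext_of_minimal hlow htop ℓ M rk d aug hs he hsucc
    (fun i a b => by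
      rw [show Module.annihilator R (ModuleCat.of R (R ⧸ I)) = I from Ideal.annihilator_quotient]
      exact hd i a b) hz hne hℓ
  have heq : idealDepth I M = ((D - ℓ : ℕ) : ℕ∞) := by
    refine Depth.Basic.eq_of_forall_le_iff fun n => ?_
    rw [Depth.Ext.le_idealDepth_iff_ext_quotient, Nat.cast_le]
    exact ⟨fun h => Nat.le_of_not_lt fun hn => h2 (h _ hn), fun h i hi => h1 i (by omega)⟩
  rw [heq, ← Nat.cast_add, Nat.add_sub_cancel' hℓ]

end Groth.Agent.Lib.Graded.MinDepth
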