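import Groth.Agent.Lib.Graded.MinDepth
import Groth.Agent.Lib.Graded.ProjDim
import Groth.Agent.Lib.Grass.RegSeq
import Groth.Agent.Lib.Depth.Assoc

/-!
# Depth of the polynomial ring and Auslander–Buchsbaum for graded modules over it
-/

universe u

set_option maxHeartbeats 600000
set_option linter.unusedSectionVars false

open DirectSum MvPolynomial LocCoh

namespace Groth.Agent.Lib.Graded.PolyDepth

variable {k : Type u} [Field k] {n : ℕ}

local notation "𝔪" => GrSyz.irrel (GrSyz.stdGr k (Fin n))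

theorem idealDepth_irrel : idealDepth (𝔪).toIdeal (MvPolynomial (Fin n) k) = n := by
  refine le_antisymm ?_ ?_
  · obtain ⟨m, hm, hle⟩ := Ideal.exists_le_maximal (𝔪).toIdeal
      ((Ideal.ne_top_iff_one _).2 Poly.one_not_mem_irrel)
    haveI := hm.isPrime
    refine (Depth.Local.idealDepth_le_depth_localization _ _ m hle).trans ?_
    haveI : Nontrivial (LocalizedModule m.primeCompl (MvPolynomial (Fin n) k)) :=
      inferInstanceAs (Nontrivial (Localization m.primeCompl))
    haveI := Module.Finite.of_isLocalizedModule m.primeCompl (Rₚ := Localization.AtPrime m)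
      (LocalizedModule.mkLinearMap m.primeCompl (MvPolynomial (Fin n) k))
    have h := (Depth.Assoc.depth_le_ringKrullDim (R := Localization.AtPrime m)
      (LocalizedModule m.primeCompl (MvPolynomial (Fin n) k))).trans
      ((IsLocalization.AtPrime.ringKrullDim_eq_height m _).trans_le
        (Ideal.height_le_ringKrullDim_of_ne_top hm.ne_top))
    rw [MvPolynomial.ringKrullDim_of_isNoetherianRing, ringKrullDim_eq_zero_of_field, zero_add,
      Nat.card_eq_fintype_card, Fintype.card_fin] at h
    exact WithBot.coe_le_coe.1 h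
  · have h := Lib.Grass.RegSeq.isWeaklyRegular_X_sub_C (F := k) n 0
    simp only [Pi.zero_apply, map_zero, sub_zero] at h
    refine le_of_eq_of_le ?_ (Depth.Basic.length_le_idealDepth h fun r hr => ?_)
    · simp
    · obtain ⟨i, rfl⟩ := (List.mem_ofFn' _ _).1 hr
      exact Poly.X_mem_irrel i

variable {M : Type u} [AddCommGroup M] [Module (MvPolynomial (Fin n) k) M]
  [Module.Finite (MvPolynomial (Fin n) k) M] {τ : Type u} [SetLike τ M] [AddSubgroupClass τ M]
  {ℳ : ℤ → τ} [DirectSum.Decomposition ℳ] [SetLike.GradedSMul (GrSyz.stdGr k (Fin n)) ℳ]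
variable (F : GrSyz.FreeRes (GrSyz.stdGr k (Fin n)) ℳ)

theorem length_le (hF : F.IsMinimal (𝔪).toIdeal) {ℓ : ℕ} (hℓ' : F.rk ℓ ≠ 0) : ℓ ≤ n := by
  by_contra h
  refine hℓ' ((ProjDim.hasLengthLE_iff hF n).2 ?_ ℓ (by omega))
  have h1 := ProjDim.pd_le_card (k := k) (σ := Fin n) (M := M)
  rwa [Nat.card_eq_fintype_card, Fintype.card_fin] at h1

/-- Auslander–Buchsbaum for a minimal graded free resolution. -/
theorem length_add_idealDepth (hF : F.IsMinimal (𝔪).toIdeal) {ℓ : ℕ} (hℓ : F.HasLengthLE ℓ)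
    (hℓ' : F.rk ℓ ≠ 0) : (ℓ : ℕ∞) + idealDepth (𝔪).toIdeal M = n :=
  MinDepth.idealDepth_add idealDepth_irrel F.rk F.d F.augLin F.aug_surjective F.exact_zero F.exact_succ
    hF hℓ hℓ' (length_le F hF hℓ')

end Groth.Agent.Lib.Graded.PolyDepth
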