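import Groth.Agent.Lib.Graded.Reg
import Mathlib.RingTheory.Finiteness.Nakayama
import Mathlib.RingTheory.FiniteLength

/-!
# Regularity and hyperplane sections
-/

universe u

set_option maxHeartbeats 600000

set_option linter.unusedSectionVars false

open DirectSum MvPolynomial

namespace Groth.Agent.Lib.Graded.Reg2

open Groth.Agent.Lib.Graded.Basic Groth.Agent.Lib.Graded.StarInj Groth.Agent.Lib.Graded.Van

variable {k : Type u} [Field k] {σ : Type} [Finite σ]

theorem proj_eq_zero_of_mem_irrel {r : MvPolynomial σ k}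
    (hr : r ∈ (GrSyz.irrel (GrSyz.stdGr k σ)).toIdeal) {g : ℤ} (hg : g ≤ 0) :
    proj (GrSyz.stdGr k σ) g r = 0 := by
  rcases lt_or_eq_of_le hg with h | rfl
  · exact Poly.eq_zero_of_neg g h _ (proj_mem _ _ _)
  · exact Poly.eq_zero_of_deg0_mem_irrel (proj_mem _ _ _) ((GrSyz.irrel (GrSyz.stdGr k σ)).isHomogeneous 0 hr)

/-- A graded module of finite length is killed by a power of the irrelevant ideal. -/
theorem gam_eq_top_of_isFiniteLength {M : Type u} [AddCommGroup M] [Module (MvPolynomial σ k) M]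
    {τ : Type u} [SetLike τ M] [AddSubgroupClass τ M] (ℳ : ℤ → τ) [DirectSum.Decomposition ℳ]
    [SetLike.GradedSMul (GrSyz.stdGr k σ) ℳ] (h : IsFiniteLength (MvPolynomial σ k) M) :
    GrLC.gam (GrSyz.irrel (GrSyz.stdGr k σ)).toIdeal M = ⊤ := by
  obtain ⟨hN, hA⟩ := isFiniteLength_iff_isNoetherian_isArtinian.1 h
  obtain ⟨I, hI⟩ : ∃ I, I = (GrSyz.irrel (GrSyz.stdGr k σ)).toIdeal := ⟨_, rfl⟩
  rw [← hI]
  obtain ⟨n, hn⟩ := IsArtinian.monotone_stabilizes
    (⟨fun n => OrderDual.toDual (I ^ n • (⊤ : Submodule (MvPolynomial σ k) M)),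
      fun m n hmn => OrderDual.toDual_le_toDual.2 (Submodule.smul_mono_left (Ideal.pow_le_pow_right hmn))⟩ :
        ℕ →o (Submodule (MvPolynomial σ k) M)ᵒᵈ)
  have hstab : I ^ n • (⊤ : Submodule (MvPolynomial σ k) M) ≤ I • (I ^ n • ⊤) := by
    rw [← Submodule.mul_smul, ← pow_succ']
    exact le_of_eq (OrderDual.toDual.injective (hn (n + 1) (Nat.le_succ n)))
  obtain ⟨r, hr, hkill⟩ := Submodule.exists_sub_one_mem_and_smul_eq_zero_of_fg_of_le_smul I _
    (hN.noetherian _) hstab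
  refine eq_top_iff.2 fun y _ => ⟨n, fun s hs => ?_⟩
  have hw := hkill (s • y) (Submodule.smul_mem_smul hs trivial)
  by_contra hne
  obtain ⟨w, hwdef⟩ : ∃ w, w = s • y := ⟨_, rfl⟩
  rw [← hwdef] at hw hne
  have hs0 : (supp ℳ w).Nonempty := by
    by_contra hc
    apply hne
    rw [← sum_proj ℳ w, Finset.not_nonempty_iff_eq_empty.1 hc, Finset.sum_empty]
  obtain ⟨g, hgw, hmin⟩ : ∃ g ∈ supp ℳ w, ∀ e ∈ supp ℳ w, g ≤ e :=
    ⟨(supp ℳ w).min' hs0, Finset.min'_mem _ hs0, fun e he => Finset.min'_le _ e he⟩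
  refine (mem_supp ℳ).1 hgw ?_
  have h2 : proj ℳ g ((r - 1) • w) = 0 := by
    rw [← sum_proj ℳ w, Finset.smul_sum, map_sum]
    refine Finset.sum_eq_zero fun e he => ?_
    rw [proj_smul_mem (GrSyz.stdGr k σ) ℳ (proj_mem ℳ e w),
      proj_eq_zero_of_mem_irrel (hI ▸ hr) (by have := hmin e he; omega), zero_smul]
  rw [sub_smul, one_smul, hw, zero_sub, map_neg, neg_eq_zero] at h2
  exact h2

theorem VR_iff_of_torsion {M : Type u} [AddCommGroup M] [Module (MvPolynomial σ k) M]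
    {τ : Type u} [SetLike τ M] [AddSubgroupClass τ M] {ℳ : ℤ → τ} [DirectSum.Decomposition ℳ]
    [SetLike.GradedSMul (GrSyz.stdGr k σ) ℳ]
    (h : GrLC.gam (GrSyz.irrel (GrSyz.stdGr k σ)).toIdeal M = ⊤) {d : ℤ} :
    Reg.VR (toMod (GrSyz.stdGr k σ) ℳ) d ↔ ∀ n, d < n → ∀ x ∈ ℳ n, x = 0 := by
  constructor
  · intro hV n hn x hx
    exact V_zero_iff.1 (hV 0 n (by simpa using hn)) x ((mem_toMod _ ℳ).2 hx)
      (h.ge (trivial : x ∈ (⊤ : Submodule (MvPolynomial σ k) M)))
  · intro hM i n hn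
    rcases Nat.eq_zero_or_pos i with rfl | hi
    · exact V_zero_iff.2 fun x hx _ => hM n (by simpa using hn) x ((mem_toMod _ ℳ).1 hx)
    · exact V_torsion (X := toMod (GrSyz.stdGr k σ) ℳ) h hi

variable {X Y : GrLC.GMod.{u} (GrSyz.stdGr k σ)} {x : MvPolynomial σ k}
variable {π : X.carrier →ₗ[MvPolynomial σ k] Y.carrier}

section

variable (hx : x ∈ GrSyz.stdGr k σ 1) (hπ : GrLC.IsGrHom X.gr Y.gr π) (hsurj : Function.Surjective π)
  (hker : LinearMap.ker π = LinearMap.range (x • (LinearMap.id : X.carrier →ₗ[MvPolynomial σ k] X.carrier)))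
include hx hπ hsurj hker

/-- A regular linear form does not change the regularity. -/
theorem VR_iff_regular (hreg : IsSMulRegular X.carrier x) {d : ℤ} :
    Reg.VR X d ↔ Reg.VR Y d := by
  have hxa : x ∈ (GrSyz.irrel (GrSyz.stdGr k σ)).toIdeal := Ideal.subset_span ⟨1, one_pos, hx⟩
  constructor
  · intro h i n hn
    exact V_right (SmulSeq.ses_smul hx hreg hπ hsurj hker) (h i n hn)
      ((V_shift_iff (X := X) (-1)).2 (h (i + 1) _ (by omega)))
  · intro h i n hn
    cases i with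
    | zero => exact RegSeq.V_zero hxa hreg n
    | succ i =>
      exact RegSeq.V_succ (lo := d - i) hx zero_le_one hxa hreg hπ hsurj hker
        (fun m hm => h i (m + 1) (by omega)) n (by omega)

variable (htors : ∀ y : X.carrier, x • y = 0 → y ∈ GrLC.gam (GrSyz.irrel (GrSyz.stdGr k σ)).toIdeal X.carrier)
include htors

omit hπ hsurj hker in
/-- Away from degree zero cohomology, `xX` is a shift of `X`. -/
theorem V_iff_mul {i : ℕ} (hi : 1 ≤ i) (n : ℤ) :
    V (GrSyz.irrel (GrSyz.stdGr k σ)) X i n ↔ V (GrSyz.irrel (GrSyz.stdGr k σ))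
      (subMod (GrSyz.stdGr k σ) X.gr _ (SmulSeq.isHomogeneous_range_smul (ℳ := X.gr) hx)) i (n + 1) := by
  obtain ⟨f, hfdef⟩ : ∃ f : X.carrier →ₗ[MvPolynomial σ k]
      (shiftMod (GrSyz.stdGr k σ) X.gr 1).carrier, f = x • LinearMap.id := ⟨_, rfl⟩
  have hf : GrLC.IsGrHom X.gr (shiftMod (GrSyz.stdGr k σ) X.gr 1).gr f := by
    subst hfdef
    exact fun g m hm => smul_mem' (GrSyz.stdGr k σ) X.gr hx hm (by ring)
  let P := LinearMap.ker f
  have hP : P.IsHomogeneous X.gr := isHomogeneous_ker hf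
  have hPt : GrLC.gam (GrSyz.irrel (GrSyz.stdGr k σ)).toIdeal P = ⊤ := by
    refine eq_top_iff.2 fun y _ => ?_
    obtain ⟨m, hm⟩ := htors y.1 (by have h := y.2; subst hfdef; exact h)
    exact ⟨m, fun r hr => Subtype.ext (hm r hr)⟩
  have hses : Horseshoe.SES (subMod (GrSyz.stdGr k σ) X.gr P hP).gr X.gr
      (shiftMod (GrSyz.stdGr k σ)
        (subMod (GrSyz.stdGr k σ) X.gr _ (SmulSeq.isHomogeneous_range_smul (ℳ := X.gr) hx)).gr 1).gr
      P.subtype (x • (LinearMap.id : X.carrier →ₗ[MvPolynomial σ k] X.carrier)).rangeRestrict :=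
    { grHom_i := fun g m hm => hm
      grHom_π := fun g m hm => smul_mem' (GrSyz.stdGr k σ) X.gr hx hm (by ring)
      injective := Submodule.injective_subtype _
      surjective := LinearMap.surjective_rangeRestrict _
      exact := (LinearMap.ker_rangeRestrict _).trans
        ((show LinearMap.ker _ = P by subst hfdef; rfl).trans (Submodule.range_subtype P).symm) }
  have hV : ∀ j, 1 ≤ j → ∀ m, V (GrSyz.irrel (GrSyz.stdGr k σ))
      (subMod (GrSyz.stdGr k σ) X.gr P hP) j m := fun j hj m => V_torsion hPt hj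
  rw [← V_shift_iff 1]
  exact ⟨fun h => V_right hses h (hV _ (by omega) _), fun h => V_mid hses (hV i hi _) h⟩

theorem ses_mul : Horseshoe.SES
    (subMod (GrSyz.stdGr k σ) X.gr _ (SmulSeq.isHomogeneous_range_smul (ℳ := X.gr) hx)).gr X.gr Y.gr
    (LinearMap.range (x • (LinearMap.id : X.carrier →ₗ[MvPolynomial σ k] X.carrier))).subtype π :=
  { grHom_i := fun _ _ hm => hm
    grHom_π := hπ
    injective := Submodule.injective_subtype _
    surjective := hsurj
    exact := hker.trans (Submodule.range_subtype _).symm }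

/-- The regularity of the hyperplane section. -/
theorem VR_right {d : ℤ} (h : ∀ i : ℕ, 1 ≤ i → ∀ n : ℤ, d < n + i → V (GrSyz.irrel (GrSyz.stdGr k σ)) X i n)
    {i : ℕ} {n : ℤ} (hn : d < n + i) (hX : V (GrSyz.irrel (GrSyz.stdGr k σ)) X i n) :
    V (GrSyz.irrel (GrSyz.stdGr k σ)) Y i n := by
  refine V_right (ses_mul hx hπ hsurj hker htors) hX ?_
  have h1 := (V_iff_mul hx htors (i := i + 1) (by omega) (n - 1)).1 (h (i + 1) (by omega) _ (by omega))
  rwa [sub_add_cancel] at h1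

theorem VR_iff [Module.Finite (MvPolynomial σ k) X.carrier] {d : ℤ} :
    Reg.VR X d ↔ Reg.VR Y d ∧ ∀ n, d < n → V (GrSyz.irrel (GrSyz.stdGr k σ)) X 0 n := by
  refine ⟨fun h => ⟨fun i n hn => VR_right hx hπ hsurj hker htors (fun j _ => h j) hn (h i n hn),
    fun n hn => h 0 n (by simpa using hn)⟩, fun ⟨hY, h0⟩ => ?_⟩
  intro i n hn
  rcases Nat.eq_zero_or_pos i with rfl | hi
  · exact h0 n (by simpa using hn)
  obtain ⟨b, hb⟩ := Finiteness.exists_V_of_le (a := GrSyz.irrel (GrSyz.stdGr k σ))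
    Poly.eq_zero_of_neg le_rfl X ‹_›
  have key : ∀ (m : ℕ) (n : ℤ), b ≤ n + m → d < n + i → V (GrSyz.irrel (GrSyz.stdGr k σ)) X i n := by
    intro m
    induction m with
    | zero => exact fun n h _ => hb i n (by simpa using h)
    | succ m ih =>
      intro n h hn
      refine (V_iff_mul hx htors hi n).2 ?_
      obtain ⟨i, rfl⟩ := Nat.exists_eq_add_of_le' hi
      exact V_left (ses_mul hx hπ hsurj hker htors) (hY i (n + 1) (by push_cast at hn; omega))
        (ih (n + 1) (by push_cast at h; omega) (by omega))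
  exact key (b - n).toNat n (by omega) hn

end

end Groth.Agent.Lib.Graded.Reg2
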