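import Groth.Agent.Lib.Graded.StdPoly
import Groth.Agent.Lib.Graded.HilbertDefect
import Mathlib.RingTheory.KrullDimension.NonZeroDivisors
import Mathlib.RingTheory.KrullDimension.Polynomial
import Mathlib.RingTheory.KrullDimension.Field
import Mathlib.Algebra.Polynomial.BigOperators
import Mathlib.Algebra.Polynomial.Roots

/-!
# Graded rings which are polynomial rings
-/

universe u

set_option maxHeartbeats 600000
set_option linter.unusedSectionVars false

open DirectSum MvPolynomial

namespace Groth.Agent.Lib.Graded.RegularCrit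

open Groth.Agent.Lib.Graded.Basic

variable {R : Type u} [CommRing R] {𝒜 : ℤ → AddSubgroup R} [GradedRing 𝒜]
variable (hpos : ∀ n : ℤ, n < 0 → 𝒜 n = ⊥)
include hpos

theorem proj_eq_zero_of_neg {i : ℤ} (hi : i < 0) (x : R) : proj 𝒜 i x = 0 := by
  have h := proj_mem 𝒜 i x
  rwa [hpos i hi, AddSubgroup.mem_bot] at h

/-- Units of a positively graded domain have degree zero. -/
theorem mem_zero_of_isUnit [IsDomain R] {u : R} (hu : IsUnit u) : u ∈ 𝒜 0 := by
  obtain ⟨v, huv⟩ := hu.exists_right_inv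
  have hne : ∀ w : R, w ≠ 0 → (supp 𝒜 w).Nonempty := fun w hw => by
    obtain ⟨g, hg⟩ := exists_proj_ne_zero 𝒜 hw
    exact ⟨g, (mem_supp 𝒜).2 hg⟩
  have hu' := hne u fun h => by simp [h] at huv
  have hv' := hne v fun h => by simp [h] at huv
  have hA := (mem_supp 𝒜).1 ((supp 𝒜 u).max'_mem hu')
  have hB := (mem_supp 𝒜).1 ((supp 𝒜 v).max'_mem hv')
  have hnn : ∀ {w : R} {i : ℤ}, proj 𝒜 i w ≠ 0 → 0 ≤ i := fun {w i} h =>
    le_of_not_gt fun hi => h (proj_eq_zero_of_neg hpos hi w)
  have h := Dim.proj_mul_extreme (𝒜 := 𝒜) (P := (⊥ : Ideal R)) (a := u) (f := v)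
    (A := (supp 𝒜 u).max' hu') (B := (supp 𝒜 v).max' hv') fun i j hi hj hij => by
      have h1 := (supp 𝒜 u).le_max' i ((mem_supp 𝒜).2 fun h => hi (by rw [h]; exact zero_mem _))
      have h2 := (supp 𝒜 v).le_max' j ((mem_supp 𝒜).2 fun h => hj (by rw [h]; exact zero_mem _))
      omega
  rw [huv, Ideal.mem_bot, sub_eq_zero] at h
  have hsum : (supp 𝒜 u).max' hu' + (supp 𝒜 v).max' hv' = 0 := by
    by_contra hne'
    rw [proj_of_mem_ne 𝒜 (SetLike.one_mem_graded 𝒜) (Ne.symm hne')] at h
    exact (mul_ne_zero hA hB) h.symm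
  have h0 := hnn hA
  have h0' := hnn hB
  rw [← sum_proj 𝒜 u]
  refine sum_mem fun i hi => ?_
  have h1 := (supp 𝒜 u).le_max' i hi
  have h2 := hnn ((mem_supp 𝒜).1 hi)
  obtain rfl : i = 0 := by omega
  exact proj_mem 𝒜 0 u

variable {K : Type u} [Field K] [Algebra K R] (hK : ∀ c : K, algebraMap K R c ∈ 𝒜 0)
  (h0 : ∀ x ∈ 𝒜 0, ∃ c : K, algebraMap K R c = x)
include hK h0

/-- Through a ring isomorphism with a polynomial ring, the linear part is small. -/
theorem exists_span_one {r : ℕ} {K' : Type u} [Field K'] (ψ : R ≃+* MvPolynomial (Fin r) K') :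
    ∃ z : Fin r → R, (∀ i, z i ∈ 𝒜 1) ∧ ∀ x ∈ 𝒜 1, x ∈ Submodule.span K (Set.range z) := by
  haveI : IsDomain R := ψ.toMulEquiv.isDomain (MvPolynomial (Fin r) K')
  let y : Fin r → R := fun i => ψ.symm (X i) - proj 𝒜 0 (ψ.symm (X i))
  have hy : ∀ i, proj 𝒜 0 (y i) = 0 := fun i => by
    rw [map_sub, proj_of_mem 𝒜 (proj_mem 𝒜 0 _), sub_self]
  have hgen : ∀ x : R, x ∈ (aeval y : MvPolynomial (Fin r) K →ₐ[K] R).range := by
    intro x
    obtain ⟨p, rfl⟩ := ψ.symm.surjective x
    induction p using MvPolynomial.induction_on with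
    | C c =>
      have hc : ψ.symm (C c) ∈ 𝒜 0 := by
        rcases eq_or_ne c 0 with rfl | hne
        · rw [map_zero, map_zero]; exact zero_mem _
        · exact mem_zero_of_isUnit hpos ((((isUnit_iff_ne_zero.2 hne).map C).map ψ.symm))
      obtain ⟨d, hd⟩ := h0 _ hc
      rw [← hd]
      exact Subalgebra.algebraMap_mem _ d
    | add p q hp hq => rw [map_add]; exact add_mem hp hq
    | mul_X p i hp =>
      rw [map_mul]
      refine mul_mem hp ?_
      obtain ⟨d, hd⟩ := h0 _ (proj_mem 𝒜 0 (ψ.symm (X i)))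
      rw [show ψ.symm (X i) = y i + algebraMap K R d by rw [hd]; simp only [y, sub_add_cancel]]
      exact add_mem ⟨X i, aeval_X y i⟩ (Subalgebra.algebraMap_mem _ d)
  refine ⟨fun i => proj 𝒜 1 (y i), fun i => proj_mem 𝒜 1 _, fun x hx => ?_⟩
  have key : ∀ (q : R) (i : Fin r), proj 𝒜 1 (q * y i) ∈ Submodule.span K (Set.range fun i => proj 𝒜 1 (y i)) := by
    intro q i
    induction q using induction_hom 𝒜 with
    | zero => rw [zero_mul, map_zero]; exact zero_mem _
    | hom d w hw =>
      rw [Dim.proj_mul_of_left hw]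
      rcases lt_trichotomy d 0 with h | rfl | h
      · rw [hpos d h, AddSubgroup.mem_bot] at hw
        rw [hw, zero_mul]; exact zero_mem _
      · obtain ⟨c, rfl⟩ := h0 w hw
        rw [sub_zero, ← Algebra.smul_def]
        exact Submodule.smul_mem _ c (Submodule.subset_span ⟨i, rfl⟩)
      · rcases eq_or_ne d 1 with rfl | hne
        · rw [sub_self, hy, mul_zero]; exact zero_mem _
        · rw [proj_eq_zero_of_neg hpos (by omega), mul_zero]; exact zero_mem _
    | add a b ha hb => rw [add_mul, map_add]; exact add_mem ha hb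
  obtain ⟨p, rfl⟩ := hgen x
  change aeval y p ∈ 𝒜 1 at hx
  change aeval y p ∈ _
  rw [← proj_of_mem 𝒜 hx]
  clear hx
  induction p using MvPolynomial.induction_on with
  | C c =>
    rw [aeval_C, proj_of_mem_ne 𝒜 (hK c) (by decide)]
    exact zero_mem _
  | add a b ha hb => simp only [map_add]; exact add_mem ha hb
  | mul_X a i _ =>
    simp only [map_mul, aeval_X]
    exact key _ i

omit hpos hK h0

/-- A surjection from a polynomial ring of the same dimension is bijective. -/
theorem injective_of_dim {S : Type u} [CommRing S] {L : Type u} [Field L] {N : ℕ}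
    (φ : MvPolynomial (Fin N) L →+* S) (hφ : Function.Surjective φ) (hdim : (N : WithBot ℕ∞) ≤ ringKrullDim S) :
    Function.Injective φ := by
  refine (injective_iff_map_eq_zero φ).2 fun p hp => by_contra fun hp0 => ?_
  have h1 := ringKrullDim_quotient_succ_le_of_nonZeroDivisor (mem_nonZeroDivisors_of_ne_zero hp0)
  have hle : Ideal.span {p} ≤ RingHom.ker φ := (Ideal.span_singleton_le_iff_mem _).2 hp
  have h2 : ringKrullDim S ≤ ringKrullDim (MvPolynomial (Fin N) L ⧸ Ideal.span {p}) :=
    ringKrullDim_le_of_surjective (Ideal.Quotient.lift _ φ fun a ha => hle ha)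
      (Ideal.Quotient.lift_surjective_of_surjective _ _ hφ)
  rw [MvPolynomial.ringKrullDim_of_isNoetherianRing, ringKrullDim_eq_zero_of_field, zero_add,
    Nat.card_eq_fintype_card, Fintype.card_fin] at h1
  have h3 := (add_le_add (hdim.trans h2) (le_refl (1 : WithBot ℕ∞))).trans h1
  have h4 : N + 1 ≤ N := by exact_mod_cast h3
  omega

theorem natDegree_binom_le (n : ℕ) : (HilbertDefect.binom n).natDegree ≤ n := by
  refine (Polynomial.natDegree_C_mul_le _ _).trans ((Polynomial.natDegree_prod_le _ _).trans ?_)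
  exact le_of_eq_of_le (Finset.sum_congr rfl fun j _ => Polynomial.natDegree_X_add_C _) (by simp)

end Groth.Agent.Lib.Graded.RegularCrit
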