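import Groth.Agent.Lib.Graded.StarInj
import Groth.Agent.Lib.Graded.Res

/-!
# Regarding the pieces of a graded ring as additive subgroups
-/

universe u

set_option maxHeartbeats 800000
set_option linter.unusedSectionVars false

open DirectSum

namespace Groth.Agent.Lib.Graded.SigmaChange

open Groth.Agent.Lib.Graded.Basic

variable {R : Type u} [CommRing R] {σ : Type u} [SetLike σ R] [AddSubgroupClass σ R]
variable (𝒜 : ℤ → σ) [GradedRing 𝒜]

/-- The pieces, as additive subgroups. -/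
def pieces : ℤ → AddSubgroup R := fun i => AddSubgroup.ofClass (𝒜 i)

theorem mem_pieces {i : ℤ} {x : R} : x ∈ pieces 𝒜 i ↔ x ∈ 𝒜 i := Iff.rfl

noncomputable instance gradedRing : GradedRing (pieces 𝒜) :=
  { decompositionOfProj (pieces 𝒜) (fun g => proj 𝒜 g) (fun _ _ hx => proj_of_mem 𝒜 hx)
      (fun _ _ hne _ hx => proj_of_mem_ne 𝒜 hx hne) (fun x => by
        rw [← sum_proj 𝒜 x]
        exact sum_mem fun g _ => StarInj.mem_coe_range (N := pieces 𝒜) g (proj_mem 𝒜 g x)) with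
    one_mem := SetLike.one_mem_graded 𝒜
    mul_mem := fun {_ _ _ _} hx hy => SetLike.mul_mem_graded (A := 𝒜) hx hy }

theorem proj_pieces (g : ℤ) (x : R) : proj (pieces 𝒜) g x = proj 𝒜 g x := by
  induction x using induction_hom 𝒜 with
  | zero => simp
  | add a b ha hb => simp only [map_add, ha, hb]
  | hom i x hx =>
    rcases eq_or_ne i g with rfl | hne
    · rw [proj_of_mem 𝒜 hx, proj_of_mem (pieces 𝒜) hx]
    · rw [proj_of_mem_ne 𝒜 hx hne, proj_of_mem_ne (pieces 𝒜) hx hne]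

instance gsmulPieces {M : Type u} [AddCommGroup M] [Module R M] {τ : Type u} [SetLike τ M]
    (ℳ : ℤ → τ) [SetLike.GradedSMul 𝒜 ℳ] : SetLike.GradedSMul (pieces 𝒜) ℳ :=
  ⟨fun {_ _ _ _} hr hm => SetLike.GradedSMul.smul_mem (A := 𝒜) (B := ℳ) hr hm⟩

theorem gsmul_of_pieces {M : Type u} [AddCommGroup M] [Module R M] {τ : Type u} [SetLike τ M]
    (ℳ : ℤ → τ) [SetLike.GradedSMul (pieces 𝒜) ℳ] : SetLike.GradedSMul 𝒜 ℳ :=
  ⟨fun {_ _ _ _} hr hm => SetLike.GradedSMul.smul_mem (A := pieces 𝒜) (B := ℳ) hr hm⟩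

variable {𝒜}

/-- A homogeneous ideal for the pieces. -/
noncomputable def ideal (I : HomogeneousIdeal 𝒜) : HomogeneousIdeal (pieces 𝒜) :=
  ⟨I.toIdeal, fun g x hx => by
    have h : proj 𝒜 g x ∈ I.toIdeal := I.isHomogeneous g hx
    rw [← proj_pieces] at h
    exact h⟩

/-- A homogeneous ideal from the pieces. -/
noncomputable def unideal (I : HomogeneousIdeal (pieces 𝒜)) : HomogeneousIdeal 𝒜 :=
  ⟨I.toIdeal, fun g x hx => by
    have h : proj (pieces 𝒜) g x ∈ I.toIdeal := I.isHomogeneous g hx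
    rw [proj_pieces] at h
    exact h⟩

/-- The order isomorphism between the two lattices of homogeneous ideals. -/
noncomputable def idealIso : HomogeneousIdeal 𝒜 ≃o HomogeneousIdeal (pieces 𝒜) where
  toFun := ideal
  invFun := unideal
  left_inv _ := HomogeneousIdeal.ext rfl
  right_inv _ := HomogeneousIdeal.ext rfl
  map_rel_iff' := Iff.rfl

theorem isStarLocal {m : HomogeneousIdeal 𝒜} (hm : GrLC.IsStarLocal 𝒜 m) :
    GrLC.IsStarLocal (pieces 𝒜) (ideal m) :=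
  ⟨(idealIso (𝒜 := 𝒜).isCoatom_iff m).2 hm.1, fun n hn => by
    obtain ⟨n, rfl⟩ := (idealIso (𝒜 := 𝒜)).surjective n
    exact congrArg (idealIso (𝒜 := 𝒜)) (hm.2 n ((idealIso (𝒜 := 𝒜).isCoatom_iff n).1 hn))⟩

/-- A bundled graded module for the pieces. -/
noncomputable def gmod (X : GrLC.GMod.{u} 𝒜) : GrLC.GMod.{u} (pieces 𝒜) :=
  GrLC.GMod.of (pieces 𝒜) X.carrier X.gr

/-- A bundled graded module from the pieces. -/
noncomputable def ungmod (X : GrLC.GMod.{u} (pieces 𝒜)) : GrLC.GMod.{u} 𝒜 :=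
  haveI := gsmul_of_pieces 𝒜 X.gr
  GrLC.GMod.of 𝒜 X.carrier X.gr

theorem isStarInj {M : Type u} [AddCommGroup M] [Module R M] {τ : Type u} [SetLike τ M]
    [AddSubgroupClass τ M] {ℳ : ℤ → τ} [DirectSum.Decomposition ℳ] [SetLike.GradedSMul 𝒜 ℳ]
    (h : GrLC.IsStarInj 𝒜 ℳ) : GrLC.IsStarInj (pieces 𝒜) ℳ :=
  fun A B f hf hinj g hg => h (ungmod A) (ungmod B) f hf hinj g hg

theorem isStarInjHull {M : Type u} [AddCommGroup M] [Module R M] {τ : Type u} [SetLike τ M]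
    [AddSubgroupClass τ M] {ℳ : ℤ → τ} {N : Type u} [AddCommGroup N] [Module R N] {τ' : Type u}
    [SetLike τ' N] [AddSubgroupClass τ' N] {𝒩 : ℤ → τ'} [DirectSum.Decomposition 𝒩]
    [SetLike.GradedSMul 𝒜 𝒩] {f : M →ₗ[R] N} (h : GrLC.IsStarInjHull 𝒜 ℳ 𝒩 f) :
    GrLC.IsStarInjHull (pieces 𝒜) ℳ 𝒩 f where
  toIsStarEss := h.toIsStarEss
  starInj := isStarInj h.starInj

/-- A resolution for the pieces. -/
noncomputable def res {M : Type u} [AddCommGroup M] [Module R M] {τ : Type u} [SetLike τ M]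
    [AddSubgroupClass τ M] {ℳ : ℤ → τ} [DirectSum.Decomposition ℳ] [SetLike.GradedSMul 𝒜 ℳ]
    {τ' : Type u} [SetLike τ' M] [AddSubgroupClass τ' M] {ℳ' : ℤ → τ'} [DirectSum.Decomposition ℳ']
    [SetLike.GradedSMul (pieces 𝒜) ℳ'] (hle : ∀ g x, x ∈ ℳ' g → x ∈ ℳ g)
    (E : GrLC.StarInjRes 𝒜 ℳ) : GrLC.StarInjRes (pieces 𝒜) ℳ' where
  X n := gmod (E.X n)
  d := E.d
  ε := E.ε
  d_grHom := E.d_grHom
  ε_grHom g x hx := E.ε_grHom g x (hle g x hx)
  ε_injective := E.ε_injective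
  exact_zero := E.exact_zero
  exact_succ := E.exact_succ
  starInj n := fun A B f hf hinj g hg => E.starInj n (ungmod A) (ungmod B) f hf hinj g hg

end Groth.Agent.Lib.Graded.SigmaChange
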