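import Groth.Agent.Lib.Graded.LES
import Groth.Agent.Lib.Graded.ExtStarInj
import Groth.Agent.Lib.Graded.CMVanish

/-!
# Top graded local cohomology is generated by the images of the ring
-/

universe u

set_option maxHeartbeats 800000
set_option linter.unusedSectionVars false

open DirectSum

namespace Groth.Agent.Lib.Graded.TopH

open Groth.Agent.Lib.Graded.Basic Groth.Agent.Lib.Graded.StarInj Groth.Agent.Lib.Graded.Chain

variable {ι : Type} [AddCommGroup ι] [DecidableEq ι]
variable {R : Type u} [CommRing R] {σ : Type u} [SetLike σ R] [AddSubgroupClass σ R]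
variable {𝒜 : ι → σ} [GradedRing 𝒜] (a : HomogeneousIdeal 𝒜) (n : ℕ)

section Lift

variable {M : Type u} [AddCommGroup M] [Module R M] {τ : Type u} [SetLike τ M] [AddSubgroupClass τ M]
variable {ℳ : ι → τ} [DirectSum.Decomposition ℳ] [SetLike.GradedSMul 𝒜 ℳ]
variable {N : Type u} [AddCommGroup N] [Module R N] {τ' : Type u} [SetLike τ' N] [AddSubgroupClass τ' N]
variable {𝒩 : ι → τ'} [DirectSum.Decomposition 𝒩] [SetLike.GradedSMul 𝒜 𝒩]
variable {P : Type u} [AddCommGroup P] [Module R P] {τ'' : Type u} [SetLike τ'' P] [AddSubgroupClass τ'' P]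
variable {𝒬 : ι → τ''} [DirectSum.Decomposition 𝒬] [SetLike.GradedSMul 𝒜 𝒬]
variable {E : GrLC.StarInjRes 𝒜 ℳ} {F : GrLC.StarInjRes 𝒜 𝒩} {G : GrLC.StarInjRes 𝒜 𝒬}

theorem hMap_eq (φ : Chain.Map E F) {f : M →ₗ[R] N} (hf : GrLC.IsGrHom ℳ 𝒩 f)
    (hφ : φ.app 0 ∘ₗ E.ε = F.ε ∘ₗ f) : φ.hMap a n = (lift E F f).hMap a n :=
  Map.hMap_congr a φ _ (hφ.trans (lift_ε E F f hf).symm) n

theorem hMap_comp {f : M →ₗ[R] N} {g : N →ₗ[R] P} (hf : GrLC.IsGrHom ℳ 𝒩 f) (hg : GrLC.IsGrHom 𝒩 𝒬 g) :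
    (lift F G g).hMap a n ∘ₗ (lift E F f).hMap a n = (lift E G (g ∘ₗ f)).hMap a n := by
  rw [← Map.hMap_comp]
  refine hMap_eq a n _ (isGrHom_comp hf hg) ?_
  change ((lift F G g).app 0 ∘ₗ (lift E F f).app 0) ∘ₗ E.ε = _
  rw [LinearMap.comp_assoc, lift_ε E F f hf, ← LinearMap.comp_assoc, lift_ε F G g hg, LinearMap.comp_assoc]

theorem hMap_add {f g : M →ₗ[R] N} (hf : GrLC.IsGrHom ℳ 𝒩 f) (hg : GrLC.IsGrHom ℳ 𝒩 g) :
    (lift E F (f + g)).hMap a n = (lift E F f).hMap a n + (lift E F g).hMap a n := by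
  let s : Chain.Map E F :=
    ⟨fun k => (lift E F f).app k + (lift E F g).app k,
      fun k => isGrHom_add ((lift E F f).grHom k) ((lift E F g).grHom k),
      fun k => by rw [LinearMap.comp_add, LinearMap.add_comp, (lift E F f).comm k, (lift E F g).comm k]⟩
  rw [← hMap_eq a n s (isGrHom_add hf hg)
    (by
      change ((lift E F f).app 0 + (lift E F g).app 0) ∘ₗ E.ε = _
      rw [LinearMap.add_comp, lift_ε E F f hf, lift_ε E F g hg, LinearMap.comp_add])]
  refine LinearMap.ext fun x => ?_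
  obtain ⟨z, rfl⟩ := toH_surjective a n x
  rfl

theorem hMap_zero : (lift E F (0 : M →ₗ[R] N)).hMap a n = 0 := by
  have h0 : GrLC.IsGrHom ℳ 𝒩 (0 : M →ₗ[R] N) := fun _ _ _ => zero_mem _
  have h := hMap_add a n (E := E) (F := F) h0 h0
  rw [add_zero] at h
  exact left_eq_add.1 h

theorem hMap_sum {κ : Type} (s : Finset κ) {f : κ → M →ₗ[R] N} (hf : ∀ i, GrLC.IsGrHom ℳ 𝒩 (f i)) :
    (lift E F (∑ i ∈ s, f i)).hMap a n = ∑ i ∈ s, (lift E F (f i)).hMap a n := by
  classical
  induction s using Finset.induction with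
  | empty => simp [hMap_zero]
  | insert i s hi ih =>
    rw [Finset.sum_insert hi, Finset.sum_insert hi, ← ih]
    refine hMap_add a n (hf i) ?_
    intro g x hx
    rw [LinearMap.sum_apply]
    exact sum_mem fun j _ => hf j g x hx

theorem hMap_id : (lift E E (LinearMap.id : M →ₗ[R] M)).hMap a n = LinearMap.id := by
  rw [← hMap_eq a n (Map.id E) isGrHom_id rfl, Map.hMap_id]

end Lift

section Eta

variable (I : GrLC.StarInjRes 𝒜 𝒜)
variable {M : Type u} [AddCommGroup M] [Module R M] {τ : Type u} [SetLike τ M] [AddSubgroupClass τ M]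
variable {ℳ : ι → τ} [DirectSum.Decomposition ℳ] [SetLike.GradedSMul 𝒜 ℳ] (E : GrLC.StarInjRes 𝒜 ℳ)

theorem isGrHom_span_singleton {g : ι} {x : M} (hx : x ∈ ℳ g) :
    GrLC.IsGrHom (shiftMod 𝒜 𝒜 (-g)).gr ℳ (LinearMap.toSpanSingleton R M x) :=
  fun j r hr => smul_mem' 𝒜 ℳ (show r ∈ 𝒜 (j + -g) from hr) hx (by abel)

/-- The map induced by the element `x` of degree `g`. -/
noncomputable def etaHom (g : ι) (x : M) : I.H a n →ₗ[R] E.H a n :=
  (lift (LES.shiftRes 𝒜 I (-g)) E (LinearMap.toSpanSingleton R M x)).hMap a n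

theorem etaHom_add {g : ι} {x y : M} (hx : x ∈ ℳ g) (hy : y ∈ ℳ g) :
    etaHom a n I E g (x + y) = etaHom a n I E g x + etaHom a n I E g y := by
  rw [etaHom, show LinearMap.toSpanSingleton R M (x + y) =
    LinearMap.toSpanSingleton R M x + LinearMap.toSpanSingleton R M y from LinearMap.ext fun r => smul_add r x y]
  exact hMap_add a n (isGrHom_span_singleton hx) (isGrHom_span_singleton hy)

/-- The maps induced by the elements of a module. -/
noncomputable def eta : M →+ (I.H a n →ₗ[R] E.H a n) :=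
  (DirectSum.toAddMonoid fun g => AddMonoidHom.mk' (fun x : ℳ g => etaHom a n I E g x.1)
    fun x y => etaHom_add a n I E x.2 y.2).comp (decomposeAddEquiv ℳ).toAddMonoidHom

theorem eta_of_mem {g : ι} {x : M} (hx : x ∈ ℳ g) : eta a n I E x = etaHom a n I E g x := by
  change DirectSum.toAddMonoid _ (decompose ℳ x) = _
  rw [decompose_of_mem ℳ hx, DirectSum.toAddMonoid_of]
  rfl

theorem eta_mem {g j : ι} {x : M} (hx : x ∈ ℳ g) {z : I.H a n} (hz : z ∈ I.Hgr a n j) :
    eta a n I E x z ∈ E.Hgr a n (j + g) := by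
  rw [eta_of_mem a n I E hx]
  refine Map.hMap_grHom a (lift (LES.shiftRes 𝒜 I (-g)) E (LinearMap.toSpanSingleton R M x)) n (j + g) z ?_
  exact (LES.mem_shiftRes_Hgr a I (-g) n (j + g) z).2 (by rwa [add_neg_cancel_right])

/-- Multiplication by a homogeneous element, as a map of shifted resolutions. -/
noncomputable def mulMap {e g : ι} {r : R} (hr : r ∈ 𝒜 e) :
    Chain.Map (LES.shiftRes 𝒜 I (-(e + g))) (LES.shiftRes 𝒜 I (-g)) :=
  ⟨fun _ => r • LinearMap.id,
    fun k j m hm => smul_mem' 𝒜 (I.X k).gr hr (show m ∈ (I.X k).gr (j + -(e + g)) from hm) (by abel),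
    fun k => LinearMap.ext fun m => (map_smul (I.d k) r m).symm⟩

theorem eta_smul (r : R) (x : M) (z : I.H a n) : eta a n I E (r • x) z = eta a n I E x (r • z) := by
  induction r using induction_hom 𝒜 with
  | zero => simp
  | add p q hp hq => rw [add_smul, map_add, LinearMap.add_apply, hp, hq, add_smul, map_add]
  | hom e r hr =>
    induction x using induction_hom ℳ with
    | zero => simp
    | add p q hp hq => rw [smul_add, map_add, LinearMap.add_apply, hp, hq, map_add, LinearMap.add_apply]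
    | hom g x hx =>
      rw [eta_of_mem a n I E (smul_mem_add 𝒜 ℳ hr hx), eta_of_mem a n I E hx]
      have h1 : (lift (LES.shiftRes 𝒜 I (-(e + g))) E (LinearMap.toSpanSingleton R M (r • x))).hMap a n =
          (Map.comp (lift (LES.shiftRes 𝒜 I (-g)) E (LinearMap.toSpanSingleton R M x)) (mulMap I hr)).hMap a n := by
        refine (hMap_eq a n (E := LES.shiftRes 𝒜 I (-(e + g))) (F := E) _ (isGrHom_span_singleton (smul_mem_add 𝒜 ℳ hr hx)) ?_).symm
        refine LinearMap.ext fun s => ?_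
        have h2 : ∀ t : R, (lift (LES.shiftRes 𝒜 I (-g)) E (LinearMap.toSpanSingleton R M x)).app 0 (I.ε t) =
            E.ε (t • x) := LinearMap.congr_fun (lift_ε (LES.shiftRes 𝒜 I (-g)) E _ (isGrHom_span_singleton hx))
        change (lift (LES.shiftRes 𝒜 I (-g)) E (LinearMap.toSpanSingleton R M x)).app 0 (r • I.ε (show R from s)) =
          E.ε ((show R from s) • r • x)
        exact ((map_smul _ r _).trans (congrArg (r • ·) (h2 s))).trans
          ((map_smul E.ε r _).symm.trans (congrArg E.ε (smul_comm r (show R from s) x)))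
      rw [etaHom, h1, Map.hMap_comp]
      obtain ⟨w, rfl⟩ := toH_surjective a n z
      rfl

theorem eta_eq {N : Type u} [AddCommGroup N] [Module R N] {τ' : Type u} [SetLike τ' N]
    [AddSubgroupClass τ' N] {𝒩 : ι → τ'} [DirectSum.Decomposition 𝒩] [SetLike.GradedSMul 𝒜 𝒩]
    (E' : GrLC.StarInjRes 𝒜 𝒩) {f : M →ₗ[R] N} (hf : GrLC.IsGrHom ℳ 𝒩 f) (x : M) (z : I.H a n) :
    (lift E E' f).hMap a n (eta a n I E x z) = eta a n I E' (f x) z := by
  induction x using induction_hom ℳ with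
  | zero => simp
  | add p q hp hq => simp only [map_add, LinearMap.add_apply, hp, hq]
  | hom g x hx =>
    rw [eta_of_mem a n I E hx, eta_of_mem a n I E' (hf g x hx)]
    have h := LinearMap.congr_fun (hMap_comp a n (E := LES.shiftRes 𝒜 I (-g)) (F := E) (G := E')
      (isGrHom_span_singleton hx) hf) z
    refine h.trans (congrArg (fun ψ => (lift (LES.shiftRes 𝒜 I (-g)) E' ψ).hMap a n z) ?_)
    exact LinearMap.ext fun r => map_smul f (show R from r) x

/-- On the ring the induced maps are multiplications. -/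
theorem eta_self (c : ι) (x : R) (z : I.H a n) :
    eta a n I (LES.shiftRes 𝒜 I c) (show (shiftMod 𝒜 𝒜 c).carrier from x) z = x • z := by
  induction x using induction_hom 𝒜 with
  | zero => exact (LinearMap.congr_fun (map_zero (eta a n I (LES.shiftRes 𝒜 I c))) z).trans (zero_smul R z).symm
  | add p q hp hq =>
    rw [add_smul, ← hp, ← hq]
    exact LinearMap.congr_fun (map_add (eta a n I (LES.shiftRes 𝒜 I c)) _ _) z
  | hom e r hr =>
    have hrm : (show (shiftMod 𝒜 𝒜 c).carrier from r) ∈ (shiftMod 𝒜 𝒜 c).gr (e - c) :=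
      show r ∈ 𝒜 (e - c + c) by rwa [sub_add_cancel]
    rw [eta_of_mem a n I _ hrm]
    let φ : Chain.Map (LES.shiftRes 𝒜 I (-(e - c))) (LES.shiftRes 𝒜 I c) :=
      ⟨fun _ => r • LinearMap.id,
        fun k j m hm => smul_mem' 𝒜 (I.X k).gr hr (show m ∈ (I.X k).gr (j + -(e - c)) from hm) (by abel),
        fun k => LinearMap.ext fun m => (map_smul (I.d k) r m).symm⟩
    have h1 := hMap_eq a n φ (isGrHom_span_singleton hrm) (LinearMap.ext fun s => by
      change r • I.ε (show R from s) = I.ε ((show R from s) * r)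
      rw [mul_comm, ← smul_eq_mul, map_smul])
    rw [etaHom, ← h1]
    obtain ⟨w, rfl⟩ := toH_surjective a n z
    rfl

end Eta

section Generation

variable [Module.Free ℤ ι] [Module.Finite ℤ ι] [IsNoetherianRing R] (I : GrLC.StarInjRes 𝒜 𝒜)

/-- In the top degree a homogeneous surjection of finite modules gives a surjection. -/
theorem hMap_surjective (hdim : ringKrullDim R ≤ (n : WithBot ℕ∞)) {X Y : GrLC.GMod.{u} 𝒜} (hX : Module.Finite R X.carrier)
    {π : X.carrier →ₗ[R] Y.carrier} (hπ : GrLC.IsGrHom X.gr Y.gr π) (hs : Function.Surjective π)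
    (E : GrLC.StarInjRes 𝒜 X.gr) (F : GrLC.StarInjRes 𝒜 Y.gr) :
    Function.Surjective ((lift E F π).hMap a n) := by
  let K := subMod 𝒜 X.gr (LinearMap.ker π) (isHomogeneous_ker hπ)
  obtain ⟨G⟩ := Res.nonempty_starInjRes 𝒜 K.gr
  have hses : Horseshoe.SES K.gr X.gr Y.gr (LinearMap.ker π).subtype π :=
    { grHom_i := fun _ _ hx => hx
      grHom_π := hπ
      injective := (LinearMap.ker π).injective_subtype
      surjective := hs
      exact := (Submodule.range_subtype _).symm }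
  obtain ⟨δ, -, -, h2, -, -⟩ := LES.exists_les G E F a hses _ (lift_ε G E _ hses.grHom_i) _ (lift_ε E F π hπ)
  haveI : Module.Finite R K.carrier := Module.Finite.iff_fg.2 (IsNoetherian.noetherian (LinearMap.ker π))
  haveI : Subsingleton (G.H a (n + 1)) := by
    haveI := Groth.Agent.Lib.LocalCoh.lc_subsingleton_of_supportDim_lt (n + 1) R a.toIdeal K.carrier
      (lt_of_le_of_lt ((Module.supportDim_le_ringKrullDim R K.carrier).trans hdim)
        (by exact_mod_cast n.lt_succ_self))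
    exact (LocCohCompare.equiv G a (n + 1)).toEquiv.subsingleton
  intro y
  have h3 : y ∈ LinearMap.ker (δ n) := LinearMap.mem_ker.2 (Subsingleton.elim _ _)
  rw [h2] at h3
  exact h3

theorem free_decomp {N : ℕ} (deg : Fin N → ι) (E : GrLC.StarInjRes 𝒜 (ExtStarInj.freeMod 𝒜 deg).gr) :
    ∃ π : Fin N → E.H a n →ₗ[R] I.H a n,
      (∀ i j z, z ∈ E.Hgr a n j → π i z ∈ I.Hgr a n (j - deg i)) ∧
      (∀ z, z = ∑ i, eta a n I E (show (ExtStarInj.freeMod 𝒜 deg).carrier from Pi.single i (1 : R)) (π i z)) ∧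
      ∀ i (y : (ExtStarInj.freeMod 𝒜 deg).carrier) z, π i (eta a n I E y z) = (y : Fin N → R) i • z := by
  classical
  let pr : ∀ i, (ExtStarInj.freeMod 𝒜 deg).carrier →ₗ[R] (shiftMod 𝒜 𝒜 (-deg i)).carrier :=
    fun i => LinearMap.proj i
  have hpr : ∀ i, GrLC.IsGrHom (ExtStarInj.freeMod 𝒜 deg).gr (shiftMod 𝒜 𝒜 (-deg i)).gr (pr i) :=
    fun i g v hv => show v i ∈ 𝒜 (g + -deg i) from sub_eq_add_neg g (deg i) ▸ (ExtStarInj.mem_freeGr 𝒜 deg).1 hv i
  let inc : ∀ i, (shiftMod 𝒜 𝒜 (-deg i)).carrier →ₗ[R] (ExtStarInj.freeMod 𝒜 deg).carrier :=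
    fun i => LinearMap.toSpanSingleton R _ (show (ExtStarInj.freeMod 𝒜 deg).carrier from Pi.single i (1 : R))
  have hone : ∀ i, (show (ExtStarInj.freeMod 𝒜 deg).carrier from Pi.single i (1 : R)) ∈
      (ExtStarInj.freeMod 𝒜 deg).gr (deg i) := fun i => by
    have h := ExtStarInj.single_mem 𝒜 deg (b := i) (SetLike.one_mem_graded 𝒜)
    rw [zero_add] at h
    exact h
  have hinc : ∀ i, GrLC.IsGrHom (shiftMod 𝒜 𝒜 (-deg i)).gr (ExtStarInj.freeMod 𝒜 deg).gr (inc i) :=
    fun i => isGrHom_span_singleton (hone i)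
  have hsum : ∑ i, inc i ∘ₗ pr i = LinearMap.id := by
    refine LinearMap.ext fun v => ?_
    rw [LinearMap.sum_apply]
    change ∑ i, (v : Fin N → R) i • (Pi.single i (1 : R) : Fin N → R) = v
    simp only [← Pi.single_smul, smul_eq_mul, mul_one]
    exact Finset.univ_sum_single _
  refine ⟨fun i => (lift E (LES.shiftRes 𝒜 I (-deg i)) (pr i)).hMap a n, fun i j z hz => ?_, fun z => ?_,
    fun i y z => ?_⟩
  · have h := Map.hMap_grHom a (lift E (LES.shiftRes 𝒜 I (-deg i)) (pr i)) n j z hz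
    rw [sub_eq_add_neg]
    exact (LES.mem_shiftRes_Hgr a I (-deg i) n j _).1 h
  · have h1 := hMap_sum a n (E := E) (F := E) Finset.univ (f := fun i => inc i ∘ₗ pr i)
      fun i => isGrHom_comp (hpr i) (hinc i)
    rw [hsum, hMap_id] at h1
    conv_lhs => rw [← LinearMap.id_apply (R := R) z, h1, LinearMap.sum_apply]
    refine Finset.sum_congr rfl fun i _ => ?_
    rw [← hMap_comp a n (F := LES.shiftRes 𝒜 I (-deg i)) (hpr i) (hinc i), LinearMap.comp_apply,
      eta_of_mem a n I E (hone i)]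
    rfl
  · exact (eta_eq a n I E _ (hpr i) y z).trans (eta_self a n I _ _ z)

/-- Top cohomology is generated by the images of the ring. -/
theorem mem_closure_eta (hdim : ringKrullDim R ≤ (n : WithBot ℕ∞)) {X : GrLC.GMod.{u} 𝒜} (hX : Module.Finite R X.carrier)
    (E : GrLC.StarInjRes 𝒜 X.gr) (w : E.H a n) :
    w ∈ AddSubgroup.closure {v | ∃ (g : ι) (x : X.carrier), x ∈ X.gr g ∧ ∃ z, eta a n I E x z = v} := by
  classical
  obtain ⟨N, deg, π, hπ, hs⟩ := ExtStarInj.exists_cover 𝒜 X hX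
  obtain ⟨F⟩ := Res.nonempty_starInjRes 𝒜 (ExtStarInj.freeMod 𝒜 deg).gr
  haveI : Module.Finite R (ExtStarInj.freeMod 𝒜 deg).carrier := inferInstanceAs (Module.Finite R (Fin N → R))
  obtain ⟨v, rfl⟩ := hMap_surjective a n hdim inferInstance hπ hs F E w
  obtain ⟨p, -, hp, -⟩ := free_decomp a n I deg F
  rw [hp v, map_sum]
  refine sum_mem fun i _ => ?_
  rw [eta_eq a n I F E hπ]
  exact AddSubgroup.subset_closure ⟨deg i, _, hπ (deg i) _ (by
    have h := ExtStarInj.single_mem 𝒜 deg (b := i) (SetLike.one_mem_graded 𝒜)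
    rw [zero_add] at h
    exact h), _, rfl⟩

end Generation

end Groth.Agent.Lib.Graded.TopH
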