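import Groth.Agent.Lib.Graded.Ass
import Groth.Agent.Lib.Graded.LES

/-!
# Torsion modules are acyclic for graded local cohomology
-/

universe u

set_option linter.unusedSectionVars false

open DirectSum

namespace Groth.Agent.Lib.Graded.Torsion

open Groth.Agent.Lib.Graded.Basic Groth.Agent.Lib.Graded.StarInj Groth.Agent.Lib.Graded.Chain

variable {ι : Type} [AddCommGroup ι] [DecidableEq ι] [Module.Free ℤ ι] [Module.Finite ℤ ι]
variable {R : Type u} [CommRing R] [IsNoetherianRing R] {σ : Type u} [SetLike σ R] [AddSubgroupClass σ R]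
variable {𝒜 : ι → σ} [GradedRing 𝒜] (a : HomogeneousIdeal 𝒜)
variable {M : Type u} [AddCommGroup M] [Module R M] {τ : Type u} [SetLike τ M] [AddSubgroupClass τ M]
variable {ℳ : ι → τ} [DirectSum.Decomposition ℳ] [SetLike.GradedSMul 𝒜 ℳ]
variable {N : Type u} [AddCommGroup N] [Module R N] {τ' : Type u} [SetLike τ' N] [AddSubgroupClass τ' N]
variable {𝒩 : ι → τ'} [DirectSum.Decomposition 𝒩] [SetLike.GradedSMul 𝒜 𝒩]

/-- The *injective envelope of a torsion module is torsion. -/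
theorem gam_eq_top_of_isStarEss {f : M →ₗ[R] N} (hf : GrLC.IsStarEss ℳ 𝒩 f)
    (hM : GrLC.gam a.toIdeal M = ⊤) : GrLC.gam a.toIdeal N = ⊤ := by
  refine eq_top_iff.2 (le_of_hom (isHomogeneous_top (ℳ := 𝒩)) fun g x hx _ => ?_)
  by_contra hxa
  obtain ⟨d, r, hr, hr0, hP, hle⟩ := Ass.exists_prime_ann_not_le 𝒜 𝒩 a hx hxa
  obtain ⟨e, s, -, hs0, ⟨y, hy⟩⟩ := exists_smul_mem_range (𝒜 := 𝒜) hf _ hr0
  obtain ⟨n, hn⟩ : y ∈ GrLC.gam a.toIdeal M := hM ▸ trivial
  have hsP : s ∉ (Submodule.span R {r • x}).annihilator := fun h =>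
    hs0 ((Submodule.mem_annihilator_span_singleton _ _).1 h)
  refine hle ?_
  intro c hc
  refine hP.mem_of_pow_mem n ((hP.mem_or_mem (y := s) ?_).resolve_right hsP)
  rw [Submodule.mem_annihilator_span_singleton, mul_smul, ← hy, ← map_smul,
    hn _ (Ideal.pow_mem_pow hc n), map_zero]

theorem exists_step (B : Submodule R M) (hB : B.IsHomogeneous ℳ) (hM : GrLC.gam a.toIdeal M = ⊤) :
    ∃ (Y : GrLC.GMod.{u} 𝒜) (d : M →ₗ[R] Y.carrier),
      GrLC.IsGrHom ℳ Y.gr d ∧ LinearMap.ker d = B ∧ GrLC.IsStarInj 𝒜 Y.gr ∧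
        GrLC.gam a.toIdeal Y.carrier = ⊤ := by
  letI := qDecomp ℳ B hB
  haveI := qGSMul 𝒜 ℳ B
  obtain ⟨Y, f, hf⟩ := exists_hull 𝒜 (qGr ℳ B)
  refine ⟨Y, f ∘ₗ B.mkQ, fun g x hx => hf.grHom g _ (mkQ_mem_qGr ℳ B hx), ?_, hf.starInj,
    gam_eq_top_of_isStarEss a hf.toIsStarEss (eq_top_iff.2 fun z _ => ?_)⟩
  · rw [LinearMap.ker_comp, LinearMap.ker_eq_bot.2 hf.injective, Submodule.comap_bot, Submodule.ker_mkQ]
  · obtain ⟨y, rfl⟩ := B.mkQ_surjective z
    exact map_mem_gam _ B.mkQ (hM ▸ trivial)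

/-- A stage of the torsion resolution. -/
structure Stage : Type (u + 1) where
  /-- the module -/
  X : GrLC.GMod.{u} 𝒜
  /-- the submodule to kill -/
  B : Submodule R X.carrier
  hB : B.IsHomogeneous X.gr
  inj : GrLC.IsStarInj 𝒜 X.gr
  tors : GrLC.gam a.toIdeal X.carrier = ⊤

variable {a}

theorem exists_next (S : Stage a) : ∃ (T : Stage a) (d : S.X.carrier →ₗ[R] T.X.carrier),
    GrLC.IsGrHom S.X.gr T.X.gr d ∧ LinearMap.ker d = S.B ∧ T.B = LinearMap.range d := by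
  obtain ⟨Y, d, hd, hk, hY, hYt⟩ := exists_step a (ℳ := S.X.gr) S.B S.hB S.tors
  exact ⟨⟨Y, LinearMap.range d, isHomogeneous_range hd, hY, hYt⟩, d, hd, hk, rfl⟩

/-- All stages. -/
noncomputable def stages (S : Stage a) : ℕ → Stage a
  | 0 => S
  | n + 1 => (exists_next (stages S n)).choose

/-- The differentials. -/
noncomputable def stageMap (S : Stage a) (n : ℕ) :
    (stages S n).X.carrier →ₗ[R] (stages S (n + 1)).X.carrier :=
  (exists_next (stages S n)).choose_spec.choose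

theorem stageMap_spec (S : Stage a) (n : ℕ) :
    GrLC.IsGrHom (stages S n).X.gr (stages S (n + 1)).X.gr (stageMap S n) ∧
      LinearMap.ker (stageMap S n) = (stages S n).B ∧
      (stages S (n + 1)).B = LinearMap.range (stageMap S n) :=
  (exists_next (stages S n)).choose_spec.choose_spec

variable (a)

/-- A torsion module has a resolution by torsion *injective modules. -/
theorem exists_torsion_res (hM : GrLC.gam a.toIdeal M = ⊤) :
    ∃ E : GrLC.StarInjRes 𝒜 ℳ, ∀ n, GrLC.gam a.toIdeal (E.X n).carrier = ⊤ := by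
  obtain ⟨X₀, e, hf⟩ := exists_hull 𝒜 ℳ
  let S : Stage a := ⟨X₀, LinearMap.range e, isHomogeneous_range hf.grHom, hf.starInj,
    gam_eq_top_of_isStarEss a hf.toIsStarEss hM⟩
  exact ⟨{
    X := fun n => (stages S n).X
    d := fun n => stageMap S n
    ε := e
    d_grHom := fun n => (stageMap_spec S n).1
    ε_grHom := hf.grHom
    ε_injective := hf.injective
    exact_zero := (stageMap_spec S 0).2.1
    exact_succ := fun n => (stageMap_spec S (n + 1)).2.1.trans (stageMap_spec S n).2.2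
    starInj := fun n => (stages S n).inj }, fun n => (stages S n).tors⟩

/-- Higher graded local cohomology of a torsion module vanishes. -/
theorem subsingleton_H (hM : GrLC.gam a.toIdeal M = ⊤) (E : GrLC.StarInjRes 𝒜 ℳ) (i : ℕ)
    (hi : 1 ≤ i) : Subsingleton (E.H a i) := by
  obtain ⟨F, hF⟩ := exists_torsion_res (ℳ := ℳ) a hM
  obtain ⟨n, rfl⟩ := Nat.exists_eq_add_of_le' hi
  haveI : Subsingleton (F.H a (n + 1)) := by
    refine subsingleton_of_forall_eq 0 fun x => ?_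
    obtain ⟨z, rfl⟩ := toH_surjective a (n + 1) x
    obtain ⟨y, hy⟩ := (F.exact_succ n).le z.2.2
    rw [toH_eq_zero_iff]
    exact ⟨y, (hF n).symm ▸ trivial, hy⟩
  exact (compareEquiv a E F (n + 1)).toEquiv.subsingleton

theorem Hgr_eq_bot (hM : GrLC.gam a.toIdeal M = ⊤) (E : GrLC.StarInjRes 𝒜 ℳ) (i : ℕ) (hi : 1 ≤ i)
    (d : ι) : E.Hgr a i d = ⊥ := by
  haveI := subsingleton_H a hM E i hi
  exact AddSubgroup.eq_bot_of_subsingleton _

end Groth.Agent.Lib.Graded.Torsion
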