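import Groth.Agent.Lib.Graded.EulerLength
import Groth.Agent.Lib.Graded.FinitenessApp
import Groth.Agent.Lib.Graded.IdealChange
import Mathlib.Algebra.Polynomial.Taylor
import Mathlib.RingTheory.KrullDimension.Module

/-!
# Serre's formula: Hilbert function minus Hilbert polynomial is the Euler characteristic
-/

universe u

set_option maxHeartbeats 1000000
set_option linter.unusedSectionVars false

open DirectSum

namespace Groth.Agent.Lib.Graded.SerreFormula

open Groth.Agent.Lib.Graded.Basic Groth.Agent.Lib.Graded.StarInj Groth.Agent.Lib.Graded.EulerLength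

section Difference

/-- Iterated differences. -/
def D : List ℕ → (ℤ → ℚ) → ℤ → ℚ
  | [], f => f
  | k :: ks, f => D ks fun n => f n - f (n - k)

theorem D_zero : ∀ ks, D ks 0 = 0
  | [] => rfl
  | k :: ks => by
    change D ks (fun _ => (0 : ℚ) - 0) = 0
    simp only [sub_zero]
    exact D_zero ks

theorem D_add : ∀ (ks : List ℕ) (f g : ℤ → ℚ), D ks (f + g) = D ks f + D ks g
  | [], _, _ => rfl
  | k :: ks, f, g => by
    simp only [D]
    rw [← D_add ks]
    congr 1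
    funext n
    simp only [Pi.add_apply]
    ring

theorem D_comm : ∀ (ks : List ℕ) (k : ℕ) (f : ℤ → ℚ),
    D ks (fun n => f n - f (n - k)) = fun n => D ks f n - D ks f (n - k)
  | [], _, _ => rfl
  | j :: ks, k, f => by
    simp only [D]
    rw [← D_comm ks k]
    congr 1
    funext n
    rw [sub_right_comm n (j : ℤ) k]
    ring

theorem D_append : ∀ (ks ls : List ℕ) (f : ℤ → ℚ), D (ks ++ ls) f = D ls (D ks f)
  | [], _, _ => rfl
  | k :: ks, ls, f => by simp only [List.cons_append, D]; exact D_append ks ls _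

theorem D_D_comm : ∀ (ks ls : List ℕ) (f : ℤ → ℚ), D ls (D ks f) = D ks (D ls f)
  | [], _, _ => rfl
  | k :: ks, ls, f => by
    simp only [D]
    rw [D_D_comm ks ls, D_comm ls k f]

theorem eq_zero_of_D : ∀ (ks : List ℕ) (f : ℤ → ℚ), (∀ k ∈ ks, 0 < k) → D ks f = 0 →
    (∃ r, ∀ n, r ≤ n → f n = 0) → f = 0
  | [], _, _, h, _ => h
  | k :: ks, f, hk, h, ⟨r, hr⟩ => by
    have h1 := eq_zero_of_D ks _ (fun j hj => hk j (List.mem_cons_of_mem k hj)) h
      ⟨r + k, fun n hn => by simp only [hr n (by omega), hr (n - k) (by omega), sub_zero]⟩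
    have hper : ∀ n, f n = f (n - k) := fun n => sub_eq_zero.1 (congrFun h1 n)
    have hk0 := hk k List.mem_cons_self
    have key : ∀ (j : ℕ) (n : ℤ), r ≤ n + j → f n = 0 := by
      intro j
      induction j using Nat.strong_induction_on with
      | _ j ih =>
        intro n hn
        rcases le_or_gt r n with h | h
        · exact hr n h
        · have hj : 0 < j := by omega
          have := ih (j - k) (by omega) (n + k) (by omega)
          rwa [hper, add_sub_cancel_right] at this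
    funext n
    exact key (r - n).toNat n (by omega)

open Polynomial in
theorem exists_D_poly (P : Polynomial ℚ) :
    ∃ ks : List ℕ, (∀ k ∈ ks, 0 < k) ∧ D ks (fun n => P.eval (n : ℚ)) = 0 := by
  induction hd : P.natDegree using Nat.strong_induction_on generalizing P with
  | _ d ih =>
    have hev : (fun n : ℤ => P.eval (n : ℚ) - P.eval ((n - (1 : ℕ) : ℤ) : ℚ)) =
        fun n : ℤ => (P - taylor (-1) P).eval (n : ℚ) := by
      funext n
      rw [eval_sub, taylor_eval]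
      push_cast
      ring_nf
    rcases Nat.eq_zero_or_pos d with h0 | hpos
    · refine ⟨[1], by simp, ?_⟩
      simp only [D, hev]
      rw [eq_C_of_natDegree_eq_zero (hd.trans h0)]
      funext n
      simp
    · have hP : P ≠ 0 := by rintro rfl; simp at hd; omega
      have hlt : (P - taylor (-1) P).natDegree < d := by
        rcases eq_or_ne (P - taylor (-1) P) 0 with h | h
        · rw [h, natDegree_zero]; exact hpos
        · rw [← hd]
          refine natDegree_lt_natDegree h (degree_sub_lt_left ?_ hP ?_)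
          · exact (degree_taylor P _).symm
          · exact (leadingCoeff_taylor (-1 : ℚ) (f := P)).symm
      obtain ⟨ks, hks, hks0⟩ := ih _ hlt _ rfl
      exact ⟨1 :: ks, by simpa using hks, by simp only [D, hev]; exact hks0⟩

end Difference

section Restrict

variable {A : Type u} [CommRing A] {M N : Type u} [AddCommGroup M] [Module A M] [AddCommGroup N] [Module A N]

theorem ker_restrict_eq_range {L : Type u} [AddCommGroup L] [Module A L] {f : L →ₗ[A] M} {g : M →ₗ[A] N}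
    {P : Submodule A L} {Q : Submodule A M} {S : Submodule A N} (hf : ∀ x ∈ P, f x ∈ Q) (hg : ∀ y ∈ Q, g y ∈ S)
    (hgf : ∀ x, g (f x) = 0) (hpre : ∀ y ∈ Q, g y = 0 → ∃ x ∈ P, f x = y) :
    LinearMap.ker (g.restrict hg) = LinearMap.range (f.restrict hf) := by
  ext y
  constructor
  · intro hy
    obtain ⟨x, hx, hxy⟩ := hpre y.1 y.2 (congrArg Subtype.val (LinearMap.mem_ker.1 hy))
    exact ⟨⟨x, hx⟩, Subtype.ext hxy⟩
  · rintro ⟨x, rfl⟩
    exact LinearMap.mem_ker.2 (Subtype.ext (hgf x.1))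

/-- Euler characteristics of pieces of a long exact sequence. -/
theorem euler_restrict {A : Type u} [CommRing A] [IsArtinianRing A] {Ha Hb Hc : ℕ → Type u}
    [∀ i, AddCommGroup (Ha i)] [∀ i, Module A (Ha i)] [∀ i, AddCommGroup (Hb i)] [∀ i, Module A (Hb i)]
    [∀ i, AddCommGroup (Hc i)] [∀ i, Module A (Hc i)]
    (f : ∀ i, Ha i →ₗ[A] Hb i) (g : ∀ i, Hb i →ₗ[A] Hc i) (δ : ∀ i, Hc i →ₗ[A] Ha (i + 1))
    (P : ∀ i, Submodule A (Ha i)) (Q : ∀ i, Submodule A (Hb i)) (S : ∀ i, Submodule A (Hc i))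
    (hP : ∀ i, IsArtinian A (P i)) (hQ : ∀ i, IsArtinian A (Q i)) (hS : ∀ i, IsArtinian A (S i))
    (hf : ∀ i, ∀ x ∈ P i, f i x ∈ Q i) (hg : ∀ i, ∀ x ∈ Q i, g i x ∈ S i)
    (hδ : ∀ i, ∀ x ∈ S i, δ i x ∈ P (i + 1))
    (hgf : ∀ i x, g i (f i x) = 0) (hdg : ∀ i x, δ i (g i x) = 0) (hfd : ∀ i x, f (i + 1) (δ i x) = 0)
    (pf : ∀ i, ∀ y ∈ Q i, g i y = 0 → ∃ x ∈ P i, f i x = y)
    (pg : ∀ i, ∀ y ∈ S i, δ i y = 0 → ∃ x ∈ Q i, g i x = y)
    (pd : ∀ i, ∀ y ∈ P (i + 1), f (i + 1) y = 0 → ∃ x ∈ S i, δ i x = y)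
    (h0 : ∀ x ∈ P 0, f 0 x = 0 → x = 0) (N : ℕ) (hN : Subsingleton (P (N + 1))) :
    ∑ i ∈ Finset.range (N + 1), (-1 : ℚ) ^ i * L A (Q i) =
      (∑ i ∈ Finset.range (N + 1), (-1 : ℚ) ^ i * L A (P i)) +
        ∑ i ∈ Finset.range (N + 1), (-1 : ℚ) ^ i * L A (S i) :=
  EulerLength.euler A (fun i => (f i).restrict (hf i)) (fun i => (g i).restrict (hg i))
    (fun i => (δ i).restrict (hδ i))
    (fun i => ker_restrict_eq_range _ _ (hgf i) (pf i)) (fun i => ker_restrict_eq_range _ _ (hdg i) (pg i))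
    (fun i => ker_restrict_eq_range _ _ (hfd i) (pd i))
    ((injective_iff_map_eq_zero _).2 fun x hx => Subtype.ext (h0 x.1 x.2 (congrArg Subtype.val hx))) N hN

/-- Lengths of pieces of a short exact sequence. -/
theorem L_restrict {A : Type u} [CommRing A] [IsArtinianRing A] {L₀ M N : Type u} [AddCommGroup L₀]
    [Module A L₀] [AddCommGroup M] [Module A M] [AddCommGroup N] [Module A N]
    (f : L₀ →ₗ[A] M) (g : M →ₗ[A] N) (P : Submodule A L₀) (Q : Submodule A M) (S : Submodule A N)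
    (hQ : IsArtinian A Q) (hf : ∀ x ∈ P, f x ∈ Q) (hg : ∀ x ∈ Q, g x ∈ S) (hgf : ∀ x, g (f x) = 0)
    (pf : ∀ y ∈ Q, g y = 0 → ∃ x ∈ P, f x = y) (pg : ∀ z ∈ S, ∃ y ∈ Q, g y = z)
    (hinj : Function.Injective f) : L A Q = L A P + L A S := by
  haveI := hQ
  have hsurj : Function.Surjective (g.restrict hg) := fun z => by
    obtain ⟨y, hy, hyz⟩ := pg z.1 z.2
    exact ⟨⟨y, hy⟩, Subtype.ext hyz⟩
  have h := ker_add_range A (g.restrict hg)
  rw [ker_restrict_eq_range hf hg hgf pf,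
    ← L_congr A (LinearEquiv.ofInjective (f.restrict hf) fun x y hxy => Subtype.ext (hinj (congrArg Subtype.val hxy))),
    L_congr A ((LinearEquiv.ofEq _ _ (LinearMap.range_eq_top.2 hsurj)).trans Submodule.topEquiv)] at h
  exact h.symm

end Restrict

variable {R : Type u} [CommRing R] [IsNoetherianRing R] {𝒜 : ℤ → AddSubgroup R} [GradedRing 𝒜]
variable [IsArtinianRing (GrLC.deg0 𝒜)] {m : HomogeneousIdeal 𝒜}

/-- A chosen resolution. -/
noncomputable def res (X : GrLC.GMod.{u} 𝒜) : GrLC.StarInjRes 𝒜 X.gr := (Res.nonempty_starInjRes 𝒜 X.gr).some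

variable (m) in
/-- The defect `len X_n - χ(X)_n`. -/
noncomputable def delta (N : ℕ) (X : GrLC.GMod.{u} 𝒜) (n : ℤ) : ℚ :=
  L (GrLC.deg0 𝒜) (GrLC.comp 𝒜 X.gr n) -
    ∑ i ∈ Finset.range (N + 1), (-1 : ℚ) ^ i * L (GrLC.deg0 𝒜) ((res X).Hcomp m i n)

theorem L_Hcomp_eq {X : GrLC.GMod.{u} 𝒜} (E E' : GrLC.StarInjRes 𝒜 X.gr) (i : ℕ) (n : ℤ) :
    L (GrLC.deg0 𝒜) (E.Hcomp m i n) = L (GrLC.deg0 𝒜) (E'.Hcomp m i n) :=
  L_congr _ (LinearEquiv.ofLinear
    (((Chain.compareEquiv m E E' i).toLinearMap.restrictScalars (GrLC.deg0 𝒜)).restrict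
      (p := E.Hcomp m i n) (q := E'.Hcomp m i n) fun x hx => Chain.compareEquiv_grHom m E E' i n x hx)
    (((Chain.compareEquiv m E E' i).symm.toLinearMap.restrictScalars (GrLC.deg0 𝒜)).restrict
      (p := E'.Hcomp m i n) (q := E.Hcomp m i n) fun x hx => Chain.compareEquiv_symm_grHom m E E' i n x hx)
    (LinearMap.ext fun x => Subtype.ext ((Chain.compareEquiv m E E' i).apply_symm_apply x.1))
    (LinearMap.ext fun x => Subtype.ext ((Chain.compareEquiv m E E' i).symm_apply_apply x.1)))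

theorem delta_eq {X : GrLC.GMod.{u} 𝒜} (E : GrLC.StarInjRes 𝒜 X.gr) (N : ℕ) (n : ℤ) :
    delta m N X n = L (GrLC.deg0 𝒜) (GrLC.comp 𝒜 X.gr n) -
      ∑ i ∈ Finset.range (N + 1), (-1 : ℚ) ^ i * L (GrLC.deg0 𝒜) (E.Hcomp m i n) := by
  simp only [delta, L_Hcomp_eq (res X) E]

theorem delta_shift (X : GrLC.GMod.{u} 𝒜) (c : ℤ) (N : ℕ) (n : ℤ) :
    delta m N (shiftMod 𝒜 X.gr c) n = delta m N X (n + c) := by
  have h1 : ∀ i, L (GrLC.deg0 𝒜) ((LES.shiftRes X.gr (res X) c).Hcomp m i n) =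
      L (GrLC.deg0 𝒜) ((res X).Hcomp m i (n + c)) := fun i => L_congr _
    { toFun := fun x => ⟨x.1, (LES.mem_shiftRes_Hgr m (res X) c i n x.1).1 x.2⟩
      invFun := fun x => ⟨x.1, (LES.mem_shiftRes_Hgr m (res X) c i n x.1).2 x.2⟩
      map_add' := fun _ _ => rfl
      map_smul' := fun _ _ => rfl }
  have h2 : L (GrLC.deg0 𝒜) (GrLC.comp 𝒜 (shiftMod 𝒜 X.gr c).gr n) =
      L (GrLC.deg0 𝒜) (GrLC.comp 𝒜 X.gr (n + c)) := L_congr _
    { toFun := fun x => ⟨x.1, x.2⟩
      invFun := fun x => ⟨x.1, x.2⟩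
      map_add' := fun _ _ => rfl
      map_smul' := fun _ _ => rfl }
  rw [delta_eq (LES.shiftRes X.gr (res X) c), delta, h2]
  simp only [h1]

variable (hpos : ∀ n : ℤ, n < 0 → 𝒜 n = ⊥) (hm : GrLC.IsStarLocal 𝒜 m)

include hpos in
theorem hpos' : ∀ n : ℤ, n < 0 → ∀ r ∈ 𝒜 n, r = 0 := fun n hn r hr => by
  rwa [hpos n hn, AddSubgroup.mem_bot] at hr

include hpos hm in
theorem isArtinian_Hcomp (X : GrLC.GMod.{u} 𝒜) (hX : Module.Finite R X.carrier)
    (E : GrLC.StarInjRes 𝒜 X.gr) (i : ℕ) (n : ℤ) : IsArtinian (GrLC.deg0 𝒜) (E.Hcomp m i n) :=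
  FinitenessApp.isArtinian_Hcomp (hpos' hpos) hm.1 X hX E i n

theorem isArtinian_comp (X : GrLC.GMod.{u} 𝒜) (hX : Module.Finite R X.carrier) (n : ℤ) :
    IsArtinian (GrLC.deg0 𝒜) (GrLC.comp 𝒜 X.gr n) :=
  haveI := Pieces.isNoetherian_comp 𝒜 X.gr n (M := X.carrier)
  IsSemiprimaryRing.isNoetherian_iff_isArtinian.1 inferInstance

theorem Hcomp_subsingleton_of_lt {N : ℕ} (hdim : ringKrullDim R ≤ N) (X : GrLC.GMod.{u} 𝒜)
    (hX : Module.Finite R X.carrier) (E : GrLC.StarInjRes 𝒜 X.gr) {i : ℕ} (hi : N < i) (n : ℤ) :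
    Subsingleton (E.Hcomp m i n) := by
  haveI := hX
  rw [Submodule.subsingleton_iff_eq_bot, LES.Hcomp_eq_bot_iff]
  refine CMVanish.Hgr_eq_bot_of_subsingleton E n
    (Groth.Agent.Lib.LocalCoh.lc_subsingleton_of_supportDim_lt i R _ _ ?_)
  exact lt_of_le_of_lt ((Module.supportDim_le_ringKrullDim R X.carrier).trans hdim) (by exact_mod_cast hi)

variable {X Y Z : GrLC.GMod.{u} 𝒜} {f : X.carrier →ₗ[R] Y.carrier} {g : Y.carrier →ₗ[R] Z.carrier}

include hpos hm in
theorem delta_ses (h : Horseshoe.SES X.gr Y.gr Z.gr f g) (hX : Module.Finite R X.carrier)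
    (hY : Module.Finite R Y.carrier) (hZ : Module.Finite R Z.carrier) {N : ℕ} (hdim : ringKrullDim R ≤ N) (n : ℤ) :
    delta m N Y n = delta m N X n + delta m N Z n := by
  obtain ⟨δ, hδ, h1, h2, h3, h4⟩ := LES.exists_les (res X) (res Y) (res Z) m h _
    (Chain.lift_ε (res X) (res Y) f h.grHom_i) _ (Chain.lift_ε (res Y) (res Z) g h.grHom_π)
  let φ := Chain.lift (res X) (res Y) f
  let ψ := Chain.lift (res Y) (res Z) g
  letI := fun i => Res.hgrDecomp (res X) m i
  letI := fun i => Res.hgrDecomp (res Y) m i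
  letI := fun i => Res.hgrDecomp (res Z) m i
  have he := euler_restrict (A := GrLC.deg0 𝒜) (Ha := fun i => (res X).H m i) (Hb := fun i => (res Y).H m i)
    (Hc := fun i => (res Z).H m i)
    (fun i => (φ.hMap m i).restrictScalars (GrLC.deg0 𝒜)) (fun i => (ψ.hMap m i).restrictScalars (GrLC.deg0 𝒜))
    (fun i => (δ i).restrictScalars (GrLC.deg0 𝒜))
    (fun i => (res X).Hcomp m i n) (fun i => (res Y).Hcomp m i n) (fun i => (res Z).Hcomp m i n)
    (fun i => isArtinian_Hcomp hpos hm X hX (res X) i n) (fun i => isArtinian_Hcomp hpos hm Y hY (res Y) i n)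
    (fun i => isArtinian_Hcomp hpos hm Z hZ (res Z) i n)
    (fun i x hx => Chain.Map.hMap_grHom m φ i n x hx) (fun i x hx => Chain.Map.hMap_grHom m ψ i n x hx)
    (fun i x hx => hδ i n x hx)
    (fun i x => LinearMap.mem_ker.1 ((h1 i).ge ⟨x, rfl⟩)) (fun i x => LinearMap.mem_ker.1 ((h2 i).ge ⟨x, rfl⟩))
    (fun i x => LinearMap.mem_ker.1 ((h3 i).ge ⟨x, rfl⟩))
    (fun i y hy h0 => exists_hom_preimage (Chain.Map.hMap_grHom m φ i) hy ((h1 i).le (LinearMap.mem_ker.2 h0)))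
    (fun i y hy h0 => exists_hom_preimage (Chain.Map.hMap_grHom m ψ i) hy ((h2 i).le (LinearMap.mem_ker.2 h0)))
    (fun i y hy h0 => exists_hom_preimage (hδ i) hy ((h3 i).le (LinearMap.mem_ker.2 h0)))
    (fun x _ hx => h4 (hx.trans (map_zero _).symm)) N
    (Hcomp_subsingleton_of_lt hdim X hX (res X) N.lt_succ_self n)
  have hlen := L_restrict (f.restrictScalars (GrLC.deg0 𝒜)) (g.restrictScalars (GrLC.deg0 𝒜))
    (GrLC.comp 𝒜 X.gr n) (GrLC.comp 𝒜 Y.gr n) (GrLC.comp 𝒜 Z.gr n) (isArtinian_comp Y hY n)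
    (fun x hx => h.grHom_i n x hx) (fun x hx => h.grHom_π n x hx)
    (fun x => LinearMap.mem_ker.1 (h.exact.ge ⟨x, rfl⟩))
    (fun y hy h0 => exists_hom_preimage h.grHom_i hy (h.exact.le (LinearMap.mem_ker.2 h0)))
    (fun z hz => exists_hom_preimage h.grHom_π (y := z) hz (h.surjective z)) h.injective
  simp only [delta]
  linarith

include hpos hm in
theorem delta_torsion (X : GrLC.GMod.{u} 𝒜) (htors : GrLC.gam m.toIdeal X.carrier = ⊤) (N : ℕ) (n : ℤ) :
    delta m N X n = 0 := by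
  obtain ⟨E, hE⟩ : ∃ E : GrLC.StarInjRes 𝒜 X.gr, E = res X := ⟨_, rfl⟩
  have h0 : L (GrLC.deg0 𝒜) (GrLC.comp 𝒜 X.gr n) = L (GrLC.deg0 𝒜) (E.Hcomp m 0 n) := by
    let f : X.carrier →ₗ[R] E.H m 0 := Chain.h0Map (E := E) m ∘ₗ
      (LinearMap.id.codRestrict (GrLC.gam m.toIdeal X.carrier) fun _ => htors.ge trivial)
    have hf : GrLC.IsGrHom X.gr (E.Hgr m 0) f := fun g x hx => Chain.h0Map_grHom m g ⟨x, _⟩ hx
    refine L_congr _ (LinearEquiv.ofBijective ((f.restrictScalars (GrLC.deg0 𝒜)).restrict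
      (p := GrLC.comp 𝒜 X.gr n) (q := E.Hcomp m 0 n) fun x hx => hf n x hx) ⟨fun x y hxy => ?_, fun y => ?_⟩)
    · have h1 := (Chain.h0Map_bijective m).1 (congrArg Subtype.val hxy)
      exact Subtype.ext (congrArg Subtype.val h1 :)
    · letI := Res.hgrDecomp E m 0
      obtain ⟨x, hx, hfx⟩ := exists_hom_preimage hf (y := y.1) y.2 (by
        obtain ⟨w, hw⟩ := (Chain.h0Map_bijective m).2 y.1
        exact ⟨w.1, hw⟩)
      exact ⟨⟨x, hx⟩, Subtype.ext hfx⟩
  rw [delta_eq E, h0, Finset.sum_eq_single 0]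
  · simp
  · intro i _ hi
    haveI := Torsion.subsingleton_H m htors E i (Nat.pos_of_ne_zero hi)
    rw [L_eq_zero, mul_zero]
  · simp

include hpos hm in
theorem exists_D {N : ℕ} (hdim : ringKrullDim R ≤ N) (X : GrLC.GMod.{u} 𝒜) (hX : Module.Finite R X.carrier) :
    ∃ ks : List ℕ, (∀ k ∈ ks, 0 < k) ∧ D ks (delta m N X) = 0 := by
  refine FGInduction.induction (C := fun X => ∃ ks : List ℕ, (∀ k ∈ ks, 0 < k) ∧ D ks (delta m N X) = 0)
    (hpos' hpos) (IdealChange.posIdeal_le hpos hm) ?_ ?_ ?_ X hX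
  · exact fun X _ htors => ⟨[], by simp, funext fun n => delta_torsion hpos hm X htors N n⟩
  · rintro X P hP hX ⟨ks, hks, hks0⟩ ⟨ls, hls, hls0⟩
    refine ⟨ks ++ ls, fun k hk => (List.mem_append.1 hk).elim (hks k) (hls k), ?_⟩
    rw [show delta m N X = delta m N (subMod 𝒜 X.gr P hP) + delta m N (qMod 𝒜 X.gr P hP) from funext fun n =>
      delta_ses hpos hm (Van.ses_quot X P hP) (FGInduction.finite_sub X hX P hP) hX
        (FGInduction.finite_qMod X hX P hP) hdim n]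
    rw [D_append, D_add, hks0, zero_add, D_D_comm, hls0, D_zero]
  · intro X k x hx hk hxa hreg hX hks
    rcases hk.lt_or_eq with hk | rfl
    · obtain ⟨ks, hks, hks0⟩ := hks
      refine ⟨k.toNat :: ks, by simp only [List.mem_cons, forall_eq_or_imp]; exact ⟨by omega, hks⟩, ?_⟩
      simp only [D]
      convert hks0 using 2
      funext n
      have h := delta_ses hpos hm (X := shiftMod 𝒜 X.gr (-k)) (Y := X)
        (Z := qMod 𝒜 X.gr _ (SmulSeq.isHomogeneous_range_smul (ℳ := X.gr) hx))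
        (f := x • (LinearMap.id : X.carrier →ₗ[R] X.carrier)) (g := Submodule.mkQ _)
        (SmulSeq.ses_smul hx hreg (fun _ _ hy => mkQ_mem_qGr X.gr _ hy) (Submodule.mkQ_surjective _)
          (Submodule.ker_mkQ _)) hX hX (FGInduction.finite_qMod X hX _ _) hdim n
      rw [delta_shift] at h
      rw [Int.toNat_of_nonneg hk.le, h, sub_eq_add_neg n k, add_sub_cancel_left]
    · obtain ⟨j, hj⟩ := IdealChange.isNilpotent_deg0 hpos hm hx hxa
      refine ⟨[], by simp, funext fun n => delta_torsion hpos hm X (eq_top_iff.2 fun y _ => ?_) N n⟩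
      rw [(hreg.pow j).right_eq_zero_of_smul (show x ^ j • y = 0 by rw [hj, zero_smul])]
      exact zero_mem _

include hpos hm in
/-- **Serre's formula**. -/
theorem delta_eq_poly {N : ℕ} (hdim : ringKrullDim R ≤ N) (X : GrLC.GMod.{u} 𝒜) (hX : Module.Finite R X.carrier)
    {P : Polynomial ℚ} {n₀ : ℤ} (hP : ∀ n, n₀ ≤ n → P.eval (n : ℚ) = L (GrLC.deg0 𝒜) (GrLC.comp 𝒜 X.gr n))
    (n : ℤ) : delta m N X n = P.eval (n : ℚ) := by
  obtain ⟨ks, hks, hks0⟩ := exists_D hpos hm hdim X hX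
  obtain ⟨ls, hls, hls0⟩ := exists_D_poly P
  obtain ⟨r, hr⟩ := Finiteness.exists_V_of_le (a := m) (hpos' hpos) (IdealChange.posIdeal_le hpos hm) X hX
  have hmain := eq_zero_of_D (ks ++ ls) (delta m N X + (-1 : ℚ) • fun k : ℤ => P.eval (k : ℚ))
    (fun k hk => (List.mem_append.1 hk).elim (hks k) (hls k)) ?_ ⟨max r n₀, fun k hk => ?_⟩
  · have := congrFun hmain n
    simp only [Pi.add_apply, Pi.smul_apply, smul_eq_mul, Pi.zero_apply] at this
    linarith
  · have hsmul : ∀ (js : List ℕ) (f : ℤ → ℚ), D js ((-1 : ℚ) • f) = (-1 : ℚ) • D js f := by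
      intro js
      induction js with
      | nil => intro f; rfl
      | cons j js ih =>
        intro f
        simp only [D]
        rw [← ih]
        congr 1
        funext i
        simp only [Pi.smul_apply, smul_eq_mul]
        ring
    rw [D_append, D_add, hks0, zero_add, D_D_comm, hsmul, hls0, smul_zero, D_zero]
  · have h1 : delta m N X k = P.eval (k : ℚ) := by
      rw [delta, hP k ((le_max_right r n₀).trans hk), Finset.sum_eq_zero, sub_zero]
      intro i _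
      haveI : Subsingleton ((res X).Hcomp m i k) := by
        rw [Submodule.subsingleton_iff_eq_bot, LES.Hcomp_eq_bot_iff]
        exact hr i k ((le_max_left r n₀).trans hk) _
      rw [L_eq_zero, mul_zero]
    simp [h1]

end Groth.Agent.Lib.Graded.SerreFormula
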