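import Groth.Agent.Lib.Graded.Dim
import Groth.Agent.Lib.Graded.CMVanish
import Groth.Agent.S14424

/-!
# Positively graded *local Noetherian rings
-/

universe u

set_option maxHeartbeats 600000
set_option linter.unusedSectionVars false

open DirectSum

namespace Groth.Agent.Lib.Graded.StarLocal

open Groth.Agent.Lib.Graded.Basic Groth.Agent.Lib.Graded.StarInj

variable {R : Type u} [CommRing R] [IsNoetherianRing R] {𝒜 : ℤ → AddSubgroup R} [GradedRing 𝒜]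
variable {m : HomogeneousIdeal 𝒜} (hpos : ∀ n : ℤ, n < 0 → 𝒜 n = ⊥) (hm : GrLC.IsStarLocal 𝒜 m)

include hm in
theorem toIdeal_ne_top : m.toIdeal ≠ ⊤ := fun h => hm.1.1 (HomogeneousIdeal.ext h)

include hm in
/-- Every proper homogeneous ideal lies in the *maximal ideal. -/
theorem le_of_ne_top (P : HomogeneousIdeal 𝒜) (hP : P.toIdeal ≠ ⊤) : P.toIdeal ≤ m.toIdeal := by
  obtain ⟨J, ⟨hPJ, hJh, hJ⟩, hmax⟩ := set_has_maximal_iff_noetherian.2 ‹IsNoetherianRing R›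
    {J : Ideal R | P.toIdeal ≤ J ∧ J.IsHomogeneous 𝒜 ∧ J ≠ ⊤} ⟨_, le_rfl, P.isHomogeneous, hP⟩
  have hco : IsCoatom (⟨J, hJh⟩ : HomogeneousIdeal 𝒜) := ⟨fun h => hJ (congrArg HomogeneousIdeal.toIdeal h),
    fun (K : HomogeneousIdeal 𝒜) hK => HomogeneousIdeal.ext (by_contra fun hne => hmax K.toIdeal
      ⟨hPJ.trans hK.le, K.isHomogeneous, hne⟩ hK)⟩
  rw [← hm.2 _ hco]
  exact hPJ

include hpos in
theorem proj_zero_pos {x : R} (hx : x ∈ Ideal.span (⋃ n ∈ Set.Ioi (0 : ℤ), (𝒜 n : Set R))) :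
    proj 𝒜 0 x = 0 := by
  induction hx using Submodule.span_induction with
  | mem r hr =>
    obtain ⟨i, hi, hr⟩ := Set.mem_iUnion₂.1 hr
    exact proj_of_mem_ne 𝒜 hr (ne_of_gt hi)
  | zero => rw [map_zero]
  | add u v _ _ hu hv => rw [map_add, hu, hv, add_zero]
  | smul t u _ hu =>
    rw [smul_eq_mul]
    induction t using induction_hom 𝒜 with
    | zero => rw [zero_mul, map_zero]
    | hom i r hr =>
      rw [Dim.proj_mul_of_left hr]
      rcases lt_trichotomy i 0 with h | rfl | h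
      · rw [hpos i h, AddSubgroup.mem_bot] at hr
        rw [hr, zero_mul]
      · rw [sub_zero, hu, mul_zero]
      · have := proj_mem 𝒜 (0 - i) u
        rw [hpos _ (by omega), AddSubgroup.mem_bot] at this
        rw [this, mul_zero]
    | add p q hp hq => rw [add_mul, map_add, hp, hq, add_zero]

include hpos hm

theorem mem_of_pos {i : ℤ} (hi : i ≠ 0) {x : R} (hx : x ∈ 𝒜 i) : x ∈ m.toIdeal := by
  rcases lt_or_gt_of_ne hi with h | h
  · rw [hpos i h, AddSubgroup.mem_bot] at hx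
    rw [hx]
    exact zero_mem _
  · have hh : (Ideal.span (⋃ n ∈ Set.Ioi (0 : ℤ), (𝒜 n : Set R))).IsHomogeneous 𝒜 :=
      Ideal.homogeneous_span 𝒜 _ fun r hr => by
        obtain ⟨n, -, hr⟩ := Set.mem_iUnion₂.1 hr
        exact ⟨n, hr⟩
    refine le_of_ne_top hm ⟨_, hh⟩ (fun h1 => ?_) (Ideal.subset_span (Set.mem_iUnion₂.2 ⟨i, h, hx⟩))
    have h2 := proj_zero_pos hpos ((Ideal.eq_top_iff_one (Ideal.span (⋃ n ∈ Set.Ioi (0 : ℤ), (𝒜 n : Set R)))).1 h1)
    rw [proj_of_mem 𝒜 (SetLike.one_mem_graded 𝒜)] at h2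
    exact toIdeal_ne_top hm ((Ideal.eq_top_iff_one _).2 (h2 ▸ zero_mem _))

theorem mem_iff {x : R} : x ∈ m.toIdeal ↔ proj 𝒜 0 x ∈ m.toIdeal := by
  refine ⟨fun h => m.isHomogeneous 0 h, fun h => ?_⟩
  rw [← sum_proj 𝒜 x]
  refine sum_mem fun i _ => ?_
  rcases eq_or_ne i 0 with rfl | hi
  · exact h
  · exact mem_of_pos hpos hm hi (proj_mem 𝒜 i x)

omit hpos in
theorem isUnit_of_not_mem {x : R} (hx : x ∈ 𝒜 0) (hxm : x ∉ m.toIdeal) : IsUnit x := by
  by_contra hu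
  have hh : (Ideal.span {x}).IsHomogeneous 𝒜 := Ideal.homogeneous_span 𝒜 _ fun r hr => ⟨0, by rwa [Set.mem_singleton_iff.1 hr]⟩
  exact hxm (le_of_ne_top hm ⟨_, hh⟩ (fun h => hu (Ideal.span_singleton_eq_top.1 h)) (Ideal.subset_span rfl))

theorem isMaximal : m.toIdeal.IsMaximal := by
  refine Ideal.isMaximal_iff.2 ⟨(Ideal.ne_top_iff_one _).1 (toIdeal_ne_top hm), fun J x hJ hx hxJ => ?_⟩
  have hu : IsUnit (proj 𝒜 0 x) :=
    isUnit_of_not_mem hm (proj_mem 𝒜 0 x) fun h => hx ((mem_iff hpos hm).2 h)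
  have h1 : x - proj 𝒜 0 x ∈ m.toIdeal := (mem_iff hpos hm).2 (by
    rw [map_sub, proj_of_mem 𝒜 (proj_mem 𝒜 0 x), sub_self]
    exact zero_mem _)
  have h2 : proj 𝒜 0 x ∈ J := by
    have := J.sub_mem hxJ (hJ h1)
    rwa [sub_sub_cancel] at this
  rw [Ideal.eq_top_of_isUnit_mem _ h2 hu]
  trivial

theorem ringKrullDim_eq : ringKrullDim R = (m.toIdeal.height : WithBot ℕ∞) :=
  haveI := isMaximal hpos hm
  Dim.ringKrullDim_eq_height (le_of_ne_top hm)

/-- In the Cohen–Macaulay case the depth is the dimension. -/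
theorem idealDepth_eq [LocCoh.IsCohenMacaulayRing R] {n : ℕ} (hn : ringKrullDim R = n) :
    LocCoh.idealDepth m.toIdeal R = n := by
  rw [(Groth.Agent.S14424.result R).1 ‹_› _ (toIdeal_ne_top hm)]
  have h := (ringKrullDim_eq hpos hm).symm.trans hn
  exact_mod_cast h

theorem V_of_lt [LocCoh.IsCohenMacaulayRing R] {n : ℕ} (hn : ringKrullDim R = n) {i : ℕ} (hi : i < n) (g : ℤ) :
    Van.V m (toMod 𝒜 𝒜) i g :=
  CMVanish.V_of_lt_idealDepth g (by rw [idealDepth_eq hpos hm hn]; exact_mod_cast hi)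

end Groth.Agent.Lib.Graded.StarLocal
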