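import Groth.Agent.Lib.Graded.Hilbert
import Groth.Agent.Lib.Graded.Dim
import Groth.Agent.Lib.Graded.FGInduction
import Mathlib.RingTheory.Adjoin.Polynomial.Basic

/-!
# Standard graded algebras as quotients of polynomial rings
-/

universe u

set_option maxHeartbeats 600000
set_option linter.unusedSectionVars false

open DirectSum MvPolynomial

namespace Groth.Agent.Lib.Graded.StdPoly

open Groth.Agent.Lib.Graded.Basic

variable {R : Type u} [CommRing R] {𝒜 : ℤ → AddSubgroup R} [GradedRing 𝒜]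
variable {K : Type u} [Field K] [Algebra K R]
variable (hK : ∀ c : K, algebraMap K R c ∈ 𝒜 0)

include hK

/-- A piece, as a vector space. -/
def piece (n : ℤ) : Submodule K R where
  carrier := (𝒜 n : Set R)
  add_mem' ha hb := add_mem ha hb
  zero_mem' := zero_mem _
  smul_mem' c x hx := by
    have h := SetLike.mul_mem_graded (hK c) hx
    rw [zero_add] at h
    rw [Algebra.smul_def]
    exact h

theorem mem_adjoin (hpos : ∀ n : ℤ, n < 0 → 𝒜 n = ⊥) (h0 : ∀ x ∈ 𝒜 0, ∃ c : K, algebraMap K R c = x)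
    (hstd : Ideal.span (⋃ n ∈ Set.Ioi (0 : ℤ), (𝒜 n : Set R)) = Ideal.span ((𝒜 1 : AddSubgroup R) : Set R))
    (x : R) : x ∈ Algebra.adjoin K ((𝒜 1 : AddSubgroup R) : Set R) := by
  suffices key : ∀ (n : ℕ), ∀ y ∈ 𝒜 (n : ℤ), y ∈ Algebra.adjoin K ((𝒜 1 : AddSubgroup R) : Set R) by
    induction x using induction_hom 𝒜 with
    | zero => exact zero_mem _
    | hom i y hy =>
      rcases lt_or_ge i 0 with h | h
      · rw [hpos i h, AddSubgroup.mem_bot] at hy
        rw [hy]; exact zero_mem _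
      · exact key i.toNat y (by rwa [Int.toNat_of_nonneg h])
    | add a b ha hb => exact add_mem ha hb
  intro n
  induction n with
  | zero =>
    intro y hy
    obtain ⟨c, rfl⟩ := h0 y (by simpa using hy)
    exact Subalgebra.algebraMap_mem _ c
  | succ n ih =>
    intro y hy
    have hmem : y ∈ Ideal.span ((𝒜 1 : AddSubgroup R) : Set R) := by
      rw [← hstd]
      exact Ideal.subset_span (Set.mem_iUnion₂.2 ⟨((n + 1 : ℕ) : ℤ), Set.mem_Ioi.2 (by omega), hy⟩)
    have key : ∀ z ∈ Ideal.span ((𝒜 1 : AddSubgroup R) : Set R), ∀ c : R,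
        proj 𝒜 ((n + 1 : ℕ) : ℤ) (c * z) ∈ Algebra.adjoin K ((𝒜 1 : AddSubgroup R) : Set R) := by
      intro z hz
      induction hz using Submodule.span_induction with
      | mem w hw =>
        intro c
        rw [mul_comm, Dim.proj_mul_of_left hw]
        refine mul_mem (Algebra.subset_adjoin hw) (ih _ ?_)
        have := proj_mem 𝒜 (((n + 1 : ℕ) : ℤ) - 1) c
        rwa [show ((n + 1 : ℕ) : ℤ) - 1 = (n : ℤ) by push_cast; ring] at this ⊢
      | zero => intro c; rw [mul_zero, map_zero]; exact zero_mem _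
      | add u v _ _ hu hv => intro c; rw [mul_add, map_add]; exact add_mem (hu c) (hv c)
      | smul t u _ hu => intro c; rw [smul_eq_mul, ← mul_assoc]; exact hu (c * t)
    have := key y hmem 1
    rwa [one_mul, proj_of_mem 𝒜 hy] at this

variable {N : ℕ} {e : Fin N → R} (he : ∀ i, e i ∈ 𝒜 1)

include he

theorem aeval_mem {n : ℤ} {p : MvPolynomial (Fin N) K} (hp : p ∈ GrSyz.stdGr K (Fin N) n) :
    aeval e p ∈ 𝒜 n := by
  rw [p.as_sum, map_sum]
  refine sum_mem fun m hm => ?_
  rw [aeval_monomial, ← Poly.degree_eq_of_mem hp hm]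
  have hprod : m.prod (fun i k => e i ^ k) ∈ 𝒜 ((m.degree : ℕ) : ℤ) := by
    rw [Finsupp.prod, Finsupp.degree_apply]
    push_cast
    refine SetLike.prod_mem_graded (A := 𝒜) _ _ fun i _ => ?_
    simpa using SetLike.pow_mem_graded (m i) (he i)
  have := SetLike.mul_mem_graded (hK (p.coeff m)) hprod
  rwa [zero_add] at this

theorem proj_aeval (n : ℤ) (p : MvPolynomial (Fin N) K) :
    proj 𝒜 n (aeval e p) = aeval e (proj (GrSyz.stdGr K (Fin N)) n p) := by
  induction p using induction_hom (GrSyz.stdGr K (Fin N)) with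
  | zero => simp
  | hom i q hq =>
    rcases eq_or_ne i n with rfl | hne
    · rw [proj_of_mem _ (aeval_mem hK he hq), proj_of_mem _ hq]
    · rw [proj_of_mem_ne _ (aeval_mem hK he hq) hne, proj_of_mem_ne _ hq hne, map_zero]
  | add a b ha hb => simp only [map_add, ha, hb]

theorem surjective (hpos : ∀ n : ℤ, n < 0 → 𝒜 n = ⊥) (h0 : ∀ x ∈ 𝒜 0, ∃ c : K, algebraMap K R c = x)
    (hstd : Ideal.span (⋃ n ∈ Set.Ioi (0 : ℤ), (𝒜 n : Set R)) = Ideal.span ((𝒜 1 : AddSubgroup R) : Set R))
    (hspan : ∀ x ∈ 𝒜 1, x ∈ Submodule.span K (Set.range e)) :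
    Function.Surjective (aeval e : MvPolynomial (Fin N) K →ₐ[K] R) := by
  intro x
  have hle : Algebra.adjoin K ((𝒜 1 : AddSubgroup R) : Set R) ≤ Algebra.adjoin K (Set.range e) :=
    Algebra.adjoin_le fun y hy => Algebra.span_le_adjoin K _ (hspan y hy)
  have hx := hle (mem_adjoin hK hpos h0 hstd x)
  rw [Algebra.adjoin_range_eq_range_aeval] at hx
  exact hx

omit he in
theorem injective {s : ℕ} (e : Fin (s + 1) → R) (he : ∀ i, e i ∈ 𝒜 1)
    (hsurj : Function.Surjective (aeval e : MvPolynomial (Fin (s + 1)) K →ₐ[K] R))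
    (hdim : ∀ n : ℤ, Hilbert.hS s n ≤ Module.finrank K (piece (𝒜 := 𝒜) hK n)) :
    Function.Injective (aeval e : MvPolynomial (Fin (s + 1)) K →ₐ[K] R) := by
  refine (injective_iff_map_eq_zero _).2 fun p hp => eq_zero_of_proj (GrSyz.stdGr K (Fin (s + 1))) fun n => ?_
  haveI := (Hilbert.finite_stdGr (k := K) (r := s) n).1
  let φ : GrSyz.stdGr K (Fin (s + 1)) n →ₗ[K] piece (𝒜 := 𝒜) hK n :=
    (aeval e : MvPolynomial (Fin (s + 1)) K →ₐ[K] R).toLinearMap.restrict fun q hq => aeval_mem hK he hq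
  have hφ : Function.Surjective φ := fun y => by
    obtain ⟨q, hq⟩ := hsurj y.1
    refine ⟨⟨proj _ n q, proj_mem _ n q⟩, Subtype.ext ?_⟩
    change aeval e (proj _ n q) = y.1
    rw [← proj_aeval hK he, hq, proj_of_mem 𝒜 (show y.1 ∈ 𝒜 n from y.2)]
  haveI := Module.Finite.of_surjective φ hφ
  have hinj : Function.Injective φ := (LinearMap.injective_iff_surjective_of_finrank_eq_finrank
    (le_antisymm ((Hilbert.finite_stdGr (k := K) (r := s) n).2.trans_le (hdim n))
      (LinearMap.finrank_le_finrank_of_surjective hφ))).2 hφ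
  have h := hinj (a₁ := ⟨proj _ n p, proj_mem _ n p⟩) (a₂ := 0) (by
    rw [map_zero]
    refine Subtype.ext ?_
    change aeval e (proj _ n p) = 0
    rw [← proj_aeval hK he, hp, map_zero])
  exact congrArg Subtype.val h

end Groth.Agent.Lib.Graded.StdPoly
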